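import Cfsg.Agent.H650.Q5.HomU_m3
import Cfsg.Agent.H805.PU.Main_m3
import Cfsg.Agent.H756.PU.AsmGen
import Cfsg.Agent.H802.FusGroup
import Cfsg.Agent.H759.FusNormal
import Cfsg.Agent.H650.GU.Root
import Cfsg.Prelude.Def_FusionSystem
import Cfsg.Agent.H775.PU.Bound_m3
import Cfsg.Agent.H659.PU.Over_m3
import Cfsg.Agent.H7.PU.Shear
import Cfsg.Agent.Lib.PackMatGroup
import Mathlib
import Cfsg.Agent.Solvable.SZ
import Cfsg.Agent.H638.G2Iso
import Mathlib.LinearAlgebra.Matrix.GeneralLinearGroup.Card
import Cfsg.Agent.H781.Realized
import Cfsg.Agent.Lib.FrattiniPGroup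
import Cfsg.Agent.EvenType.StrongP
import Cfsg.Agent.FastGrp
import Cfsg.Agent.Prune
set_option linter.all false

section
prune_inst 0x7f00000000000000000000000000000000000000000000000000000000000000000000000000000000000000000000000000000000000000000000000000000000000000000000000000000000000000003fffffffffffffffffffffffffffbeffbdffffffff

-- part: H772/G2/Asm5_mg
section
set_option linter.all false
open scoped Cfsg.Agent.FastGrp

-- part: H772/G2/Push5
section
/-!
# S5211: transport of core-free systems; the block `q = 5` over `ZMod 5`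
-/

set_option autoImplicit false

namespace Cfsg.Agent.H772.G2

open Cfsg Cfsg.FusionSystem Cfsg.Agent.H759 Cfsg.Agent.H756.PU Cfsg.Agent.H779.G2 Cfsg.Agent.H24.Q5
seal Cfsg.Agent.H779.G2.GU.instMul Cfsg.Agent.H779.G2.GU.instInv

universe u v

theorem core_eq_bot_of_push {Ω₁ Ω₂ : Type*} [Group Ω₁] [Group Ω₂] {f : Ω₁ →* Ω₂} {hf : Function.Injective f}
    {T₁ : Subgroup Ω₁} {T₂ : Subgroup Ω₂} {X₁ : FusionSystem T₁} {X₂ : FusionSystem T₂} (h : IsPush hf X₁ X₂) :
    X₂.core = ⊥ ↔ X₁.core = ⊥ := by
  rw [h.core_eq]
  constructor
  · intro h1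
    rw [eq_bot_iff]
    intro x hx
    have h2 : f x ∈ X₁.core.map f := ⟨x, hx, rfl⟩
    rw [h1, Subgroup.mem_bot] at h2
    exact hf (h2.trans (map_one f).symm)
  · intro h1
    rw [h1, Subgroup.map_bot]

/-- (G11) with the core -/
def StTransC : Prop :=
  ∀ {Ω : Type u} [Group Ω] {S : Subgroup Ω} [Finite S] {p : ℕ} [Fact p.Prime] (F : FusionSystem S)
    {G0 : Type v} [Group G0] (_ : S ≃* G0), F.IsSaturated p →
    ∃ F' : FusionSystem (⊤ : Subgroup G0), F'.IsSaturated p ∧ (F'.IsRealizable p → F.IsRealizable p) ∧
      (F.core = ⊥ → F'.core = ⊥)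

/-- (G11) with the core -/
theorem stTransC : StTransC.{u, v} := by
  intro Ω _ S _ p _ F G0 _ e hF
  let f : G0 →* Ω := S.subtype.comp e.symm.toMonoidHom
  have hf : Function.Injective f := (Subgroup.subtype_injective S).comp e.symm.injective
  have hS : S = (⊤ : Subgroup G0).map f := by
    ext x
    constructor
    · intro hx
      refine ⟨e ⟨x, hx⟩, Subgroup.mem_top _, ?_⟩
      show ((e.symm (e ⟨x, hx⟩) : S) : Ω) = x
      rw [e.symm_apply_apply]
    · rintro ⟨y, -, rfl⟩
      exact (e.symm y).2
  have : Finite G0 := Finite.of_equiv _ e.toEquiv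
  obtain ⟨F', hF'⟩ := exists_pull' (hf := hf) hS F
  exact ⟨F', hF'.isSaturated_iff.1 hF, H776.Co.isRealizable_push hF', (core_eq_bot_of_push hF').1⟩

/-- a ring isomorphism induces an isomorphism of the groups of type `G₂` -/
def guEquiv {K : Type u} {L : Type v} [Field K] [Field L] (σ : K ≃+* L) : GU K ≃* GU L where
  toFun g := ⟨σ g.a, σ g.b, σ g.c, σ g.d, σ g.e, σ g.f⟩
  invFun g := ⟨σ.symm g.a, σ.symm g.b, σ.symm g.c, σ.symm g.d, σ.symm g.e, σ.symm g.f⟩
  left_inv g := by ext <;> simp
  right_inv g := by ext <;> simp
  map_mul' x y := by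
    have h2 : σ 2 = 2 := map_ofNat σ 2
    have h3 : σ 3 = 3 := map_ofNat σ 3
    have h6 : σ 6 = 6 := map_ofNat σ 6
    ext <;> simp only [h2, h3, h6, _root_.Cfsg.Agent.H779.G2.GU.mul_a, _root_.map_add, _root_.Cfsg.Agent.H779.G2.GU.mul_b, _root_.Cfsg.Agent.H779.G2.GU.mul_c, _root_.map_mul, _root_.Cfsg.Agent.H779.G2.GU.mul_d, _root_.map_pow, _root_.Cfsg.Agent.H779.G2.GU.mul_e, _root_.Cfsg.Agent.H779.G2.GU.mul_f, _root_.map_sub]

/-- (PUSH) -/
theorem stPush5 : StPush5.{u} := by
  intro hZ K _ p n _ hK hpn F hF hc
  obtain ⟨rfl, rfl⟩ := hpn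
  have := hK.fin
  have hft := Fintype.ofFinite K
  have hcard : Fintype.card K = 5 := by
    rw [← Nat.card_eq_fintype_card, hK.card, pow_one]
  let σ : K ≃+* ZMod 5 := (ZMod.ringEquivOfPrime K (by norm_num) hcard).symm
  obtain ⟨F', h1, h2, h3⟩ := stTransC F (Subgroup.topEquiv.trans (guEquiv σ)) hF
  exact h2 (hZ F' h1 (h3 hc))

end Cfsg.Agent.H772.G2
end

-- part: H772/G2/Uniq5
section
/-!
# S5211, block `q = 5`: uniqueness of the good systems with a given order of `Aut_F(Q_a)` (StUniq, StFive)
-/

set_option autoImplicit false

namespace Cfsg.Agent.H772.G2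

open Cfsg Cfsg.FusionSystem Cfsg.Agent.H756.PU Cfsg.Agent.H779.G2 Cfsg.Agent.H24.Q5
seal Cfsg.Agent.H779.G2.GU.instMul Cfsg.Agent.H779.G2.GU.instInv

theorem hypG5 : HypG (ZMod 5) 5 1 := ⟨by norm_num, le_rfl, inferInstance, by simp, inferInstance⟩

/-! ### The torus -/

/-- the map `tor(s,t)` -/
def torFun (s t : ZMod 5) (g : U5) : U5 :=
  ⟨s * g.a, t * g.b, s * t * g.c, s ^ 2 * t * g.d, s ^ 3 * t * g.e, s ^ 3 * t ^ 2 * g.f⟩

theorem torFun_mul (s t : ZMod 5) (g h : U5) : torFun s t (g * h) = torFun s t g * torFun s t h := by
  ext
  · simp only [torFun, GU.mul_a]; ring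
  · simp only [torFun, GU.mul_b]; ring
  · simp only [torFun, GU.mul_c]; ring
  · simp only [torFun, GU.mul_d]; ring
  · simp only [torFun, GU.mul_e]; ring
  · simp only [torFun, GU.mul_f]; ring

theorem torFun_comp (s t s' t' : ZMod 5) (g : U5) : torFun s t (torFun s' t' g) = torFun (s * s') (t * t') g := by
  ext <;> simp only [torFun] <;> ring

theorem torFun_one (g : U5) : torFun 1 1 g = g := by
  ext <;> simp [torFun]

/-- the torus -/
def torHom : (ZMod 5)ˣ × (ZMod 5)ˣ →* MulAut U5 where
  toFun x :=
    { toFun := torFun x.1 x.2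
      invFun := torFun (x.1⁻¹ : (ZMod 5)ˣ) (x.2⁻¹ : (ZMod 5)ˣ)
      left_inv := fun g => by rw [torFun_comp, Units.inv_mul, Units.inv_mul, torFun_one]
      right_inv := fun g => by rw [torFun_comp, Units.mul_inv, Units.mul_inv, torFun_one]
      map_mul' := torFun_mul _ _ }
  map_one' := by
    apply MulEquiv.ext
    intro g
    exact torFun_one g
  map_mul' x y := by
    apply MulEquiv.ext
    intro g
    exact (torFun_comp _ _ _ _ g).symm

theorem isT_torHom (x : (ZMod 5)ˣ × (ZMod 5)ˣ) : IsT (torHom x) x.1 x.2 :=
  ⟨x.1.ne_zero, x.2.ne_zero, fun _ => rfl, fun _ => rfl, fun _ => rfl, fun _ => rfl, fun _ => rfl, fun _ => rfl⟩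

theorem eq_torHom {α : MulAut U5} {s t : ZMod 5} (h : IsT α s t) :
    α = torHom (Units.mk0 s h.ne1, Units.mk0 t h.ne2) := by
  apply MulEquiv.ext
  intro g
  apply GU.ext
  · exact h.a g
  · exact h.b g
  · exact h.c g
  · exact h.d g
  · exact h.e g
  · exact h.f g

theorem torHom_injective : Function.Injective torHom := by
  intro x y h
  have h1 := congrArg (fun α : MulAut U5 => (α ⟨1, 1, 0, 0, 0, 0⟩).a) h
  have h2 := congrArg (fun α : MulAut U5 => (α ⟨1, 1, 0, 0, 0, 0⟩).b) h
  have h3 : (x.1 : ZMod 5) * 1 = y.1 * 1 := h1
  have h4 : (x.2 : ZMod 5) * 1 = y.2 * 1 := h2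
  rw [mul_one, mul_one] at h3 h4
  exact Prod.ext (Units.ext h3) (Units.ext h4)

/-- the subgroup of order `8` of the torus -/
def E8 : Subgroup ((ZMod 5)ˣ × (ZMod 5)ˣ) where
  carrier := {x | x.2 ^ 2 = 1}
  one_mem' := by simp only [_root_.Set.mem_ofPred_eq, _root_.Prod.snd_one, _root_.one_pow]
  mul_mem' := by
    intro x y hx hy
    have hx' : x.2 ^ 2 = 1 := hx
    have hy' : y.2 ^ 2 = 1 := hy
    show (x.2 * y.2) ^ 2 = 1
    rw [mul_pow, hx', hy', one_mul]
  inv_mem' := by
    intro x hx
    have hx' : x.2 ^ 2 = 1 := hx
    show (x.2⁻¹) ^ 2 = 1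
    rw [inv_pow, hx', inv_one]

instance : DecidablePred (· ∈ E8) := fun x => inferInstanceAs (Decidable (x.2 ^ 2 = 1))

theorem card_E8 : Nat.card E8 = 8 := by
  rw [Nat.card_eq_fintype_card]
  decide +kernel

theorem card_torus : Nat.card ((ZMod 5)ˣ × (ZMod 5)ˣ) = 16 := by
  rw [Nat.card_eq_fintype_card]
  decide +kernel

/-- the unit `s ≠ 0` -/
def uu (s : ZMod 5) (h : s ≠ 0) : (ZMod 5)ˣ := Units.mk0 s h

theorem E8_gen : ∀ x : (ZMod 5)ˣ × (ZMod 5)ˣ, x ∈ E8 →
    ∃ i j : Fin 4, x = (uu 3 (by decide), uu 4 (by decide)) ^ (i : ℕ) * (uu 1 (by decide), uu 4 (by decide)) ^ (j : ℕ) := by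
  decide +kernel

theorem card_map_torHom (E : Subgroup ((ZMod 5)ˣ × (ZMod 5)ˣ)) : Nat.card (E.map torHom) = Nat.card E :=
  (Nat.card_congr (E.equivMapOfInjective _ torHom_injective).toEquiv).symm

/-- the possible groups `D` -/
theorem D_cases {D : Subgroup (MulAut U5)} (h : ∀ d ∈ D, ∃ s t, IsT d s t)
    (h1 : ∀ α, IsT α 3 4 → α ∈ D) (h2 : ∀ α, IsT α 1 (-1) → α ∈ D) :
    (D = E8.map torHom ∧ Nat.card D = 8) ∨ (D = (⊤ : Subgroup _).map torHom ∧ Nat.card D = 16) := by
  have hr : D ≤ torHom.range := by
    intro d hd
    obtain ⟨s, t, hst⟩ := h d hd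
    exact ⟨_, (eq_torHom hst).symm⟩
  have hD : (D.comap torHom).map torHom = D := Subgroup.map_comap_eq_self hr
  have hc : Nat.card D = Nat.card (D.comap torHom) := by
    rw [← card_map_torHom, hD]
  have a1 : (uu 3 (by decide), uu 4 (by decide)) ∈ D.comap torHom := h1 _ (isT_torHom _)
  have a2 : (uu 1 (by decide), uu 4 (by decide)) ∈ D.comap torHom := h2 _ (isT_torHom _)
  have hE : E8 ≤ D.comap torHom := by
    intro x hx
    obtain ⟨i, j, hij⟩ := E8_gen x hx
    rw [hij]
    exact Subgroup.mul_mem _ (Subgroup.pow_mem _ a1 _) (Subgroup.pow_mem _ a2 _)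
  have d1 : 8 ∣ Nat.card (D.comap torHom) := by
    rw [← card_E8]
    exact Subgroup.card_dvd_of_le hE
  have d2 : Nat.card (D.comap torHom) ∣ 16 := by
    rw [← card_torus]
    exact Subgroup.card_subgroup_dvd_card _
  have d3 : Nat.card (D.comap torHom) = 8 ∨ Nat.card (D.comap torHom) = 16 := by
    obtain ⟨k, hk⟩ := d1
    rw [hk] at d2 ⊢
    have : k ∣ 2 := by
      obtain ⟨m, hm⟩ := d2
      refine ⟨m, Nat.eq_of_mul_eq_mul_left (by norm_num : 0 < 8) ?_⟩
      rw [← mul_assoc]
      exact hm
    have h2 := (Nat.dvd_prime Nat.prime_two).1 this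
    omega
  rcases d3 with d4 | d4
  · left
    refine ⟨?_, hc.trans d4⟩
    have : E8 = D.comap torHom := Subgroup.eq_of_le_of_card_ge hE (by rw [d4, card_E8])
    rw [this, hD]
  · right
    refine ⟨?_, hc.trans d4⟩
    have : D.comap torHom = ⊤ := Subgroup.eq_top_of_card_eq _ (by rw [d4, card_torus])
    rw [← this, hD]

/-- `D` is the whole torus as soon as it contains `h₁` -/
theorem D_full {D : Subgroup (MulAut U5)} (h : ∀ d ∈ D, ∃ s t, IsT d s t)
    (h1 : ∀ α, IsT α 3 4 → α ∈ D) (h2 : ∀ α, IsT α 1 (-1) → α ∈ D) (h3 : ∀ α, IsT α 4 2 → α ∈ D) :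
    D = (⊤ : Subgroup _).map torHom ∧ Nat.card D = 16 := by
  rcases D_cases h h1 h2 with ⟨h4, -⟩ | h4
  · exfalso
    have h5 : torHom (uu 4 (by decide), uu 2 (by decide)) ∈ D := h3 _ (isT_torHom _)
    rw [h4] at h5
    obtain ⟨x, hx, hxe⟩ := h5
    rw [torHom_injective hxe] at hx
    have hx' : (uu 4 (by decide), uu 2 (by decide)) ∈ E8 := hx
    exact absurd hx' (by decide +kernel)
  · exact h4

/-! ### The diagonal elements of `L` -/

theorem diag_iso : ∀ s t : ZMod 5, s ≠ 0 → t ≠ 0 → (mdg s t).transpose * Om * mdg s t = Om →
    mdg s t = ((1 : M5ˣ) : M5) ∨ mdg s t = ((-1 : M5ˣ) : M5) ∨ mdg s t = (gh1 : M5) ∨ mdg s t = ((gh1 ^ 3 : M5ˣ) : M5) := by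
  decide +kernel

theorem four_card : (({1, -1, gh1, gh1 ^ 3} : Finset M5ˣ)).card = 4 := by decide +kernel

theorem two_card : (({1, -1} : Finset M5ˣ)).card = 2 := by decide +kernel

theorem dg_one : mdg 1 1 = ((1 : M5ˣ) : M5) := by decide +kernel
theorem dg_neg : mdg 1 (-1) = ((-1 : M5ˣ) : M5) := by decide +kernel
theorem dg_h1 : mdg 4 2 = (gh1 : M5) := by decide +kernel
theorem dg_h1' : mdg 4 3 = ((gh1 ^ 3 : M5ˣ) : M5) := by decide +kernel

section

variable {F : FusionSystem (⊤ : Subgroup U5)} {D : Subgroup (MulAut U5)}

/-- the matrices in `L` which are also in `D` -/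
abbrev NL (L : Subgroup M5ˣ) (D : Subgroup (MulAut U5)) : Type :=
  {g : M5ˣ // g ∈ L ∧ ∃ d ∈ D, ∃ s t, IsT d s t ∧ (g : M5) = mdg s t}

theorem NL_four {L : Subgroup M5ˣ} (hL : Hyp L)
    (hD : ∀ s t (α : MulAut U5), IsT α s t → (∃ g ∈ L, (g : M5) = mdg s t) → α ∈ D) (hn : -1 ∈ L) (h1 : gh1 ∈ L) :
    Nat.card (NL L D) = 4 := by
  have hset : {g : M5ˣ | g ∈ L ∧ ∃ d ∈ D, ∃ s t, IsT d s t ∧ (g : M5) = mdg s t} =
      (({1, -1, gh1, gh1 ^ 3} : Finset M5ˣ) : Set M5ˣ) := by
    ext g
    constructor
    · rintro ⟨hg, d, -, s, t, hst, he⟩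
      have h2 := hL.iso g hg
      rw [he] at h2
      rcases diag_iso s t hst.ne1 hst.ne2 h2 with h3 | h3 | h3 | h3 <;> rw [← he] at h3 <;>
        simp only [Finset.coe_insert, Finset.coe_singleton, Set.mem_insert_iff, Set.mem_singleton_iff]
      · exact Or.inl (Units.ext h3)
      · exact Or.inr (Or.inl (Units.ext h3))
      · exact Or.inr (Or.inr (Or.inl (Units.ext h3)))
      · exact Or.inr (Or.inr (Or.inr (Units.ext h3)))
    · intro hg
      have key : ∀ (x : M5ˣ) (s t : (ZMod 5)ˣ), x ∈ L → mdg s t = (x : M5) →
          x ∈ {g : M5ˣ | g ∈ L ∧ ∃ d ∈ D, ∃ s t, IsT d s t ∧ (g : M5) = mdg s t} := by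
        intro x s t hx he
        exact ⟨hx, torHom (s, t), hD _ _ _ (isT_torHom (s, t)) ⟨x, hx, he.symm⟩, s, t, isT_torHom (s, t), he.symm⟩
      simp only [Finset.coe_insert, Finset.coe_singleton, Set.mem_insert_iff, Set.mem_singleton_iff] at hg
      rcases hg with rfl | rfl | rfl | rfl
      · exact key _ (uu 1 (by decide)) (uu 1 (by decide)) L.one_mem dg_one
      · exact key _ (uu 1 (by decide)) (uu (-1) (by decide)) hn dg_neg
      · exact key _ (uu 4 (by decide)) (uu 2 (by decide)) h1 dg_h1
      · exact key _ (uu 4 (by decide)) (uu 3 (by decide)) (L.pow_mem h1 3) dg_h1'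
  show Nat.card {g : M5ˣ | g ∈ L ∧ ∃ d ∈ D, ∃ s t, IsT d s t ∧ (g : M5) = mdg s t} = 4
  rw [hset, Nat.card_coe_set_eq, Set.ncard_coe_finset, four_card]

theorem NL_two {L : Subgroup M5ˣ} (hL : Hyp L)
    (hD : ∀ s t (α : MulAut U5), IsT α s t → (∃ g ∈ L, (g : M5) = mdg s t) → α ∈ D) (hn : -1 ∈ L) (h1 : gh1 ∉ L) :
    Nat.card (NL L D) = 2 := by
  have h1' : gh1 ^ 3 ∉ L := by
    intro h
    apply h1
    have h2 : (gh1 ^ 3) ^ 3 = gh1 := by decide +kernel
    rw [← h2]
    exact L.pow_mem h 3
  have hset : {g : M5ˣ | g ∈ L ∧ ∃ d ∈ D, ∃ s t, IsT d s t ∧ (g : M5) = mdg s t} =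
      (({1, -1} : Finset M5ˣ) : Set M5ˣ) := by
    ext g
    constructor
    · rintro ⟨hg, d, -, s, t, hst, he⟩
      have h2 := hL.iso g hg
      rw [he] at h2
      rcases diag_iso s t hst.ne1 hst.ne2 h2 with h3 | h3 | h3 | h3 <;> rw [← he] at h3 <;>
        simp only [Finset.coe_insert, Finset.coe_singleton, Set.mem_insert_iff, Set.mem_singleton_iff]
      · exact Or.inl (Units.ext h3)
      · exact Or.inr (Units.ext h3)
      · exact absurd (Units.ext h3 ▸ hg) h1
      · exact absurd (Units.ext h3 ▸ hg) h1'
    · intro hg
      have key : ∀ (x : M5ˣ) (s t : (ZMod 5)ˣ), x ∈ L → mdg s t = (x : M5) →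
          x ∈ {g : M5ˣ | g ∈ L ∧ ∃ d ∈ D, ∃ s t, IsT d s t ∧ (g : M5) = mdg s t} := by
        intro x s t hx he
        exact ⟨hx, torHom (s, t), hD _ _ _ (isT_torHom (s, t)) ⟨x, hx, he.symm⟩, s, t, isT_torHom (s, t), he.symm⟩
      simp only [Finset.coe_insert, Finset.coe_singleton, Set.mem_insert_iff, Set.mem_singleton_iff] at hg
      rcases hg with rfl | rfl
      · exact key _ (uu 1 (by decide)) (uu 1 (by decide)) L.one_mem dg_one
      · exact key _ (uu 1 (by decide)) (uu (-1) (by decide)) hn dg_neg
  show Nat.card {g : M5ˣ | g ∈ L ∧ ∃ d ∈ D, ∃ s t, IsT d s t ∧ (g : M5) = mdg s t} = 2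
  rw [hset, Nat.card_coe_set_eq, Set.ncard_coe_finset, two_card]

/-- `h₁` is not in the group of order `160` -/
theorem gh1_not_mem {L : Subgroup M5ˣ} (hL : Hyp L) (hc : Nat.card L = 160)
    (h3 : ∃ R : Subgroup M5ˣ, R ≤ L ∧ (∀ g ∈ L, ∀ r ∈ R, g * r * g⁻¹ ∈ R) ∧ Nat.card R = 32) : gh1 ∉ L := by
  intro h1
  obtain ⟨R, hR, hRn, hRc⟩ := h3
  have hn : (R.subgroupOf L).Normal := by
    constructor
    intro r hr g
    rw [Subgroup.mem_subgroupOf] at hr ⊢
    exact hRn g g.2 r hr
  have hi : (R.subgroupOf L).index = 5 := by
    have h2 := Subgroup.relIndex_mul_relIndex ⊥ R L bot_le hR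
    rw [Subgroup.relIndex_bot_left, Subgroup.relIndex_bot_left, hRc, hc] at h2
    show R.relIndex L = 5
    omega
  have hcard : Nat.card (L ⧸ R.subgroupOf L) = 5 := hi
  have hcyc : IsCyclic (L ⧸ R.subgroupOf L) := isCyclic_of_prime_card hcard
  have hcomm := hcyc.isMulCommutative
  let x : L := ⟨gh1, h1⟩
  let y : L := ⟨gA, hL.memA⟩
  have h4 : (QuotientGroup.mk x : L ⧸ R.subgroupOf L) * QuotientGroup.mk y =
      QuotientGroup.mk y * QuotientGroup.mk x := hcomm.is_comm.comm _ _
  rw [← QuotientGroup.mk_mul, ← QuotientGroup.mk_mul, QuotientGroup.eq] at h4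
  have h5 : (x * y)⁻¹ * (y * x) ∈ R.subgroupOf L := h4
  rw [Subgroup.mem_subgroupOf] at h5
  have h6 : (((x * y)⁻¹ * (y * x) : L) : M5ˣ) = (gh1 * gA)⁻¹ * (gA * gh1) := rfl
  rw [h6] at h5
  -- the element `[h₁, gA]` has order `5`
  have h7 : ((gh1 * gA)⁻¹ * (gA * gh1)) ^ 5 = 1 := by decide +kernel
  have h8 : (gh1 * gA)⁻¹ * (gA * gh1) ≠ 1 := by decide +kernel
  have h9 : orderOf ((gh1 * gA)⁻¹ * (gA * gh1)) = 5 := orderOf_eq_prime h7 h8
  have h10 := orderOf_dvd_natCard (⟨_, h5⟩ : R)
  rw [← Subgroup.orderOf_coe] at h10
  have h11 : orderOf ((gh1 * gA)⁻¹ * (gA * gh1)) ∣ Nat.card R := h10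
  rw [h9, hRc] at h11
  omega

/-- the five cases -/
theorem five_cases (hM : StM) (hM3 : StM3) (hM6 : StM6) (hF2 : StF2) (hF3 : StF3) (hLb : StLb5) (h : Good F D) :
    (D = E8.map torHom ∨ D = (⊤ : Subgroup _).map torHom) ∧ (∀ α, IsT α 1 (-1) → α ∈ D) ∧
    ((LG (F.autGroup A5) = LS ∧ Nat.card D = 16 ∧ Nat.card (F.autGroup A5) = 625 * 480) ∨
    (LG (F.autGroup A5) = LR ∧ Nat.card D = 8 ∧ Nat.card (F.autGroup A5) = 625 * 640) ∨
    (LG (F.autGroup A5) = LR ∧ Nat.card D = 16 ∧ Nat.card (F.autGroup A5) = 625 * 1280) ∨
    (LG (F.autGroup A5) = LC ∧ Nat.card D = 16 ∧ Nat.card (F.autGroup A5) = 625 * 2880) ∨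
    (LG (F.autGroup A5) = LB ∧ Nat.card D = 16 ∧ Nat.card (F.autGroup A5) = 625 * 7680)) := by
  obtain ⟨htor, -⟩ := hLb _ D h.parB
  have hL := hF2 _ D h.parA htor h.z2 h.z3
  obtain ⟨f1, f2, -, f4⟩ := hF3 _ D h.parA
  obtain ⟨-, ⟨nS, nR, nC, nB, -⟩, oS, oC, oB, -⟩ := hM6
  have hn : -1 ∈ LG (F.autGroup A5) := by
    rcases hM _ hL with h1 | h1 | h1 | h1 <;> rw [h1.2]
    · exact nS
    · exact nR
    · exact nC
    · exact nB
  have hneg : ∀ α, IsT α 1 (-1) → α ∈ D := fun α hα => f2 1 (-1) α hα ⟨-1, hn, dg_neg.symm⟩
  have hh2 : ∀ α, IsT α 3 4 → α ∈ D := by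
    intro α hα
    refine htor 2 (by decide) α ?_
    have e1 : (2 : ZMod 5)⁻¹ = 3 := by decide +kernel
    have e2 : (2 : ZMod 5) ^ 2 = 4 := by decide +kernel
    show IsTor α (2 : ZMod 5)⁻¹ ((2 : ZMod 5) ^ 2) (RingEquiv.refl _)
    rw [e1, e2]
    exact hα
  have hcases := D_cases f1 hh2 hneg
  refine ⟨hcases.imp (fun h => h.1) (fun h => h.1), hneg, ?_⟩
  have full : gh1 ∈ LG (F.autGroup A5) → Nat.card D = 16 := fun h1 =>
    (D_full f1 hh2 hneg (fun α hα => f2 4 2 α hα ⟨gh1, h1, dg_h1.symm⟩)).2
  have big : gh1 ∈ LG (F.autGroup A5) → Nat.card (F.autGroup A5) * 4 = 625 * Nat.card (LG (F.autGroup A5)) * 16 := by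
    intro h1
    rw [← full h1, ← f4, NL_four hL f2 hn h1]
  rcases hM _ hL with ⟨c1, c2⟩ | ⟨c1, c2⟩ | ⟨c1, c2⟩ | ⟨c1, c2⟩
  · left
    have h1 : gh1 ∈ LG (F.autGroup A5) := c2 ▸ oS
    refine ⟨c2, full h1, ?_⟩
    have := big h1
    rw [c1] at this
    omega
  · have h3 : ∃ R : Subgroup M5ˣ, R ≤ LG (F.autGroup A5) ∧ (∀ g ∈ LG (F.autGroup A5), ∀ r ∈ R, g * r * g⁻¹ ∈ R) ∧
        Nat.card R = 32 := by
      rcases hM3 _ hL hn with ⟨R, r1, r2, r3, -⟩ | h3 | h3
      · exact ⟨R, r1, r2, r3⟩
      · omega
      · omega
    have h5 : Nat.card (F.autGroup A5) * 2 = 625 * Nat.card (LG (F.autGroup A5)) * Nat.card D := by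
      rw [← f4, NL_two hL f2 hn (gh1_not_mem hL c1 h3)]
    rw [c1] at h5
    rcases hcases with ⟨-, h6⟩ | ⟨-, h6⟩
    · right; left
      refine ⟨c2, h6, ?_⟩
      rw [h6] at h5
      omega
    · right; right; left
      refine ⟨c2, h6, ?_⟩
      rw [h6] at h5
      omega
  · right; right; right; left
    have h1 : gh1 ∈ LG (F.autGroup A5) := c2 ▸ oC
    refine ⟨c2, full h1, ?_⟩
    have := big h1
    rw [c1] at this
    omega
  · right; right; right; right
    have h1 : gh1 ∈ LG (F.autGroup A5) := c2 ▸ oB
    refine ⟨c2, full h1, ?_⟩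
    have := big h1
    rw [c1] at this
    omega

end

/-- (V) -/
theorem stFive (hM : StM) (hM3 : StM3) (hM6 : StM6) (hF2 : StF2) (hF3 : StF3) (hLb : StLb5) : StFive := by
  intro F D h
  obtain ⟨-, -, h1⟩ := five_cases hM hM3 hM6 hF2 hF3 hLb h
  simp only [Set.mem_insert_iff, Set.mem_singleton_iff]
  omega

/-- (U) -/
theorem stUniq (hM : StM) (hM3 : StM3) (hM6 : StM6) (hF2 : StF2) (hF3 : StF3) (hLb : StLb5) (hG : StGrp.{0})
    (hS : StSame.{0}) : StUniq := by
  intro F F' D D' h h' hc
  obtain ⟨a1, a2, a3⟩ := five_cases hM hM3 hM6 hF2 hF3 hLb h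
  obtain ⟨b1, b2, b3⟩ := five_cases hM hM3 hM6 hF2 hF3 hLb h'
  have hboth : LG (F.autGroup A5) = LG (F'.autGroup A5) ∧ Nat.card D = Nat.card D' := by
    rcases a3 with ⟨x1, x2, x3⟩ | ⟨x1, x2, x3⟩ | ⟨x1, x2, x3⟩ | ⟨x1, x2, x3⟩ | ⟨x1, x2, x3⟩ <;>
      rcases b3 with ⟨y1, y2, y3⟩ | ⟨y1, y2, y3⟩ | ⟨y1, y2, y3⟩ | ⟨y1, y2, y3⟩ | ⟨y1, y2, y3⟩ <;>
      first
      | exact ⟨x1.trans y1.symm, x2.trans y2.symm⟩
      | (exfalso; omega)
  obtain ⟨hLL, hDc⟩ := hboth
  have e8 : Nat.card (E8.map torHom) = 8 := by rw [card_map_torHom, card_E8]
  have e16 : Nat.card ((⊤ : Subgroup ((ZMod 5)ˣ × (ZMod 5)ˣ)).map torHom) = 16 := by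
    rw [card_map_torHom, Nat.card_congr Subgroup.topEquiv.toEquiv, card_torus]
  have hDD : D = D' := by
    rcases a1 with x | x <;> rcases b1 with y | y
    · rw [x, y]
    · rw [x, y, e8, e16] at hDc
      omega
    · rw [x, y, e8, e16] at hDc
      omega
    · rw [x, y]
  subst hDD
  refine hS F F' A5 B5 (hG hypG5).2.1 h.sat h'.sat le_top le_top h.ess h'.ess (autGroup_top_eq_of_AF (h.af.trans h'.af.symm))
    ?_ ?_
  · ext γ
    rw [(hF3 _ D h.parA).2.2.1 γ, (hF3 _ D h'.parA).2.2.1 γ, hLL]
  · rw [(hLb _ D h.parB).2 a2, (hLb _ D h'.parB).2 a2]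

end Cfsg.Agent.H772.G2
end

-- part: H772/G2/RowA
section
/-!
# The fusion system of a finite group on its Sylow subgroup, read on an isomorphic group
-/

set_option autoImplicit false

namespace Cfsg.Agent.H772.G2

open Cfsg Cfsg.FusionSystem Cfsg.Agent.H759 Cfsg.Agent.H802

universe u

section

variable {G Ω : Type u} [Group G] [Group Ω] {p : ℕ}

/-- conjugation by `g`, read through `e` -/
theorem exists_hom (T : Sylow p G) (e : (T : Subgroup G) ≃* Ω) (P : Subgroup Ω) (g : G)
    (h : ∀ u : P, g * ((e.symm u : (T : Subgroup G)) : G) * g⁻¹ ∈ (T : Subgroup G)) :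
    ∃ φ : P →* Ω, ∀ u : P, ((e.symm (φ u) : (T : Subgroup G)) : G) = g * ((e.symm u : (T : Subgroup G)) : G) * g⁻¹ := by
  refine ⟨{ toFun := fun u => e ⟨_, h u⟩
            map_one' := ?_
            map_mul' := fun a b => ?_ }, fun u => ?_⟩
  · rw [← map_one e]
    congr 1
    apply Subtype.ext
    simp only [_root_.OneMemClass.coe_one, _root_.map_one, _root_.mul_one, _root_.mul_inv_cancel]
  · rw [← map_mul e]
    congr 1
    apply Subtype.ext
    simp only [_root_.Subgroup.coe_mul, _root_.map_mul, _root_.MulMemClass.mk_mul_mk, _root_.conj_mul]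
  · show ((e.symm (e ⟨_, h u⟩) : (T : Subgroup G)) : G) = _
    rw [e.symm_apply_apply]

/-- the subgroup of `G` corresponding to `P` -/
def QGen (T : Sylow p G) (e : (T : Subgroup G) ≃* Ω) (P : Subgroup Ω) : Subgroup G :=
  (P.comap e.toMonoidHom).map (T : Subgroup G).subtype

/-- the system of `G` on `Ω` -/
theorem exists_group_system [Finite G] [Fact p.Prime] (T : Sylow p G) (e : (T : Subgroup G) ≃* Ω) :
    ∃ F : FusionSystem (⊤ : Subgroup Ω), F.IsSaturated p ∧ F.IsRealizable p ∧
      (∀ (P : Subgroup Ω) (φ : P →* Ω), φ ∈ F.Hom P ↔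
        ∃ g : G, ∀ u : P, ((e.symm (φ u) : (T : Subgroup G)) : G) = g * ((e.symm u : (T : Subgroup G)) : G) * g⁻¹) ∧
      ∀ P : Subgroup Ω, Nat.card (F.autGroup P) =
        (Subgroup.centralizer (QGen T e P : Set G)).relIndex (Subgroup.normalizer (QGen T e P : Set G)) := by
  let f : Ω →* G := (T : Subgroup G).subtype.comp e.symm.toMonoidHom
  have hf : Function.Injective f := (Subgroup.subtype_injective _).comp e.symm.injective
  have hS : (T : Subgroup G) = (⊤ : Subgroup Ω).map f := by
    ext x
    constructor
    · intro hx
      refine ⟨e ⟨x, hx⟩, Subgroup.mem_top _, ?_⟩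
      show ((e.symm (e ⟨x, hx⟩) : (T : Subgroup G)) : G) = x
      rw [e.symm_apply_apply]
    · rintro ⟨y, -, rfl⟩
      exact (e.symm y).2
  have : Finite Ω := Finite.of_equiv _ e.toEquiv
  obtain ⟨F, hF⟩ := exists_pull' (hf := hf) hS (groupFusionSystem (T : Subgroup G))
  have hom : ∀ (P : Subgroup Ω) (φ : P →* Ω), φ ∈ F.Hom P ↔
      ∃ g : G, ∀ u : P, ((e.symm (φ u) : (T : Subgroup G)) : G) = g * ((e.symm u : (T : Subgroup G)) : G) * g⁻¹ := by
    intro P φ
    rw [← hF.hom P φ]
    constructor
    · rintro ⟨-, -, g, hg⟩
      refine ⟨g, fun u => ?_⟩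
      have h1 := hg (eqv hf P u)
      rw [cb_eqv] at h1
      exact h1
    · rintro ⟨g, hg⟩
      refine ⟨?_, ?_, g, ?_⟩
      · rintro _ ⟨y, -, rfl⟩
        exact (e.symm y).2
      · intro y
        obtain ⟨x, rfl⟩ := (eqv hf P).surjective y
        rw [cb_eqv]
        exact (e.symm (φ x)).2
      · intro y
        obtain ⟨x, rfl⟩ := (eqv hf P).surjective y
        rw [cb_eqv]
        exact hg x
  refine ⟨F, hF.isSaturated_iff.1 (groupFusionSystem_isSaturated T), ?_, hom, ?_⟩
  · refine ⟨G, inferInstance, inferInstance, f.comp (⊤ : Subgroup Ω).subtype, ⟨hf.comp (Subgroup.subtype_injective _), ?_⟩,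
      T, ?_⟩
    · intro P hP φ hφ
      exact hom P φ
    · rw [hS]
      ext x
      constructor
      · rintro ⟨y, hy, rfl⟩
        exact ⟨⟨y, hy⟩, rfl⟩
      · rintro ⟨y, rfl⟩
        exact ⟨y, y.2, rfl⟩
  · intro P
    have hQ : QGen T e P = P.map f := by
      ext x
      constructor
      · rintro ⟨y, hy, rfl⟩
        refine ⟨e y, hy, ?_⟩
        show ((e.symm (e y) : (T : Subgroup G)) : G) = y
        rw [e.symm_apply_apply]
      · rintro ⟨y, hy, rfl⟩
        refine ⟨e.symm y, ?_, rfl⟩
        show e (e.symm y) ∈ P
        rw [e.apply_symm_apply]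
        exact hy
    have hPT : P.map f ≤ (T : Subgroup G) := by
      rintro _ ⟨y, -, rfl⟩
      exact (e.symm y).2
    have h1 : Nat.card (F.autGroup P) = Nat.card ((groupFusionSystem (T : Subgroup G)).autGroup (P.map f)) := by
      rw [hF.autGroup_eq]
      exact Nat.card_congr ((F.autGroup P).equivMapOfInjective _ (ca hf P).injective).toEquiv
    rw [h1, groupFusionSystem_eq, fs_autGroup le_top hPT, hQ]
    have h2 := card_autInducedBy_mul (⊤ : Subgroup G) (P.map f)
    have h3 : normalizerIn (⊤ : Subgroup G) (P.map f) = Subgroup.normalizer ((P.map f : Subgroup G) : Set G) := top_inf_eq _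
    have h4 : centralizerIn (⊤ : Subgroup G) (P.map f) = Subgroup.centralizer ((P.map f : Subgroup G) : Set G) :=
      top_inf_eq _
    rw [h3, h4] at h2
    have h5 := Subgroup.relIndex_mul_relIndex ⊥ (Subgroup.centralizer ((P.map f : Subgroup G) : Set G))
      (Subgroup.normalizer ((P.map f : Subgroup G) : Set G)) bot_le (Subgroup.centralizer_le_normalizer _)
    rw [Subgroup.relIndex_bot_left, Subgroup.relIndex_bot_left, ← h2, mul_comm] at h5
    exact (Nat.eq_of_mul_eq_mul_right Nat.card_pos h5).symm

end

end Cfsg.Agent.H772.G2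
end

-- part: H772/G2/RowSys
section
/-!
# S5211, block `q = 5`: the systems of the rows are core-free (StRowSys)
-/

set_option autoImplicit false
set_option linter.all false

namespace Cfsg.Agent.H772.G2

open Cfsg Cfsg.FusionSystem Cfsg.Agent.H759 Cfsg.Agent.H802 Cfsg.Agent.H779.G2 Cfsg.Agent.H24.Q5
seal Cfsg.Agent.H779.G2.GU.instMul Cfsg.Agent.H779.G2.GU.instInv

/-! ### Normal subgroups of `U5` -/

/-- `x_a(1)` -/
def xa : U5 := ⟨1, 0, 0, 0, 0, 0⟩
/-- `x_b(1)` -/
def xb : U5 := ⟨0, 1, 0, 0, 0, 0⟩

theorem grow {M K1 K2 : Subgroup U5} (l : U5 → ZMod 5) (hadd : ∀ x ∈ K2, ∀ y ∈ K2, l (x * y) = l x + l y)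
    (hk : ∀ x ∈ K2, l x = 0 → x ∈ K1) (hK1 : K1 ≤ M) {y : U5} (hyM : y ∈ M) (hyK : y ∈ K2) (hy : l y ≠ 0) :
    K2 ≤ M := by
  intro z hz
  have h1 : l 1 = 0 := by
    have := hadd 1 K2.one_mem 1 K2.one_mem
    rw [mul_one] at this
    have h2 : l 1 + 0 = l 1 + l 1 := by rw [add_zero]; exact this
    exact (add_left_cancel h2).symm
  have hinv : ∀ x ∈ K2, l x⁻¹ = - l x := by
    intro x hx
    have := hadd x hx x⁻¹ (K2.inv_mem hx)
    rw [mul_inv_cancel, h1] at this
    exact (neg_eq_of_add_eq_zero_right this.symm).symm
  have hpow : ∀ k : ℕ, l (y ^ k) = k * l y := by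
    intro k
    induction k with
    | zero => simp [h1]
    | succ k ih => rw [pow_succ, hadd _ (K2.pow_mem hyK k) _ hyK, ih]; push_cast; ring
  obtain ⟨k, hk'⟩ : ∃ k : ℕ, (k : ZMod 5) * l y = l z := by
    refine ⟨(l z * (l y)⁻¹).val, ?_⟩
    rw [ZMod.natCast_zmod_val, mul_assoc, inv_mul_cancel₀ hy, mul_one]
  have h2 : z * (y ^ k)⁻¹ ∈ K1 := by
    apply hk _ (K2.mul_mem hz (K2.inv_mem (K2.pow_mem hyK k)))
    rw [hadd _ hz _ (K2.inv_mem (K2.pow_mem hyK k)), hinv _ (K2.pow_mem hyK k), hpow, hk', add_neg_cancel]
  have h3 := M.mul_mem (hK1 h2) (M.pow_mem hyM k)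
  rwa [inv_mul_cancel_right] at h3

section

variable {N : Subgroup U5} (hn : ∀ x ∈ N, ∀ g : U5, g * x * g⁻¹ ∈ N)
include hn

theorem com_mem {y : U5} (hy : y ∈ N) (x : U5) : y * x * y⁻¹ * x⁻¹ ∈ N := by
  have h1 := hn y⁻¹ (N.inv_mem hy) x
  have h2 : y * x * y⁻¹ * x⁻¹ = y * (x * y⁻¹ * x⁻¹) := by group
  rw [h2]
  exact N.mul_mem hy h1

theorem Z1_le {y : U5} (hy : y ∈ N) (h : y ∈ Z1 (ZMod 5)) (hf : y.f ≠ 0) : Z1 (ZMod 5) ≤ N := by
  refine grow (K1 := ⊥) (fun x => x.f) ?_ ?_ bot_le hy h hf
  · rintro x ⟨h1, h2, h3, h4, h5⟩ z ⟨k1, k2, k3, k4, k5⟩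
    simp [h1, h2, h3, h4, h5, k1, k2, k3, k4, k5]
  · rintro x ⟨h1, h2, h3, h4, h5⟩ hx
    have hx' : x.f = 0 := hx
    rw [Subgroup.mem_bot]
    ext
    · exact h1
    · exact h2
    · exact h3
    · exact h4
    · exact h5
    · exact hx'

theorem Z2_le {y : U5} (hy : y ∈ N) (h : y ∈ Z2 (ZMod 5)) (he : y.e ≠ 0) : Z2 (ZMod 5) ≤ N := by
  obtain ⟨h1, h2, h3, h4⟩ := h
  have hw := com_mem hn hy xb
  have hZ1 : Z1 (ZMod 5) ≤ N := by
    refine Z1_le hn hw ⟨?_, ?_, ?_, ?_, ?_⟩ ?_
    · simp only [xb, h1, _root_.Cfsg.Agent.H772.G2.xb, _root_.Cfsg.Agent.H779.G2.GU.mul_a, _root_.add_zero, _root_.Cfsg.Agent.H779.G2.GU.inv_a, _root_.neg_zero]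
    · simp only [xb, h1, h2, _root_.Cfsg.Agent.H772.G2.xb, _root_.Cfsg.Agent.H779.G2.GU.mul_b, _root_.zero_add, _root_.Cfsg.Agent.H779.G2.GU.inv_b, _root_.neg_zero, _root_.add_zero, _root_.add_neg_cancel]
    · simp only [xb, h1, h2, h3, _root_.Cfsg.Agent.H772.G2.xb, _root_.Cfsg.Agent.H779.G2.GU.mul_c, _root_.add_zero, _root_.MulZeroClass.mul_zero, _root_.Cfsg.Agent.H779.G2.GU.inv_c, _root_.neg_zero, _root_.Cfsg.Agent.H779.G2.GU.mul_b, _root_.zero_add, _root_.Cfsg.Agent.H779.G2.GU.inv_a, _root_.mul_one, _root_.Cfsg.Agent.H779.G2.GU.inv_b]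
    · simp only [xb, h1, h2, h3, h4, _root_.Cfsg.Agent.H772.G2.xb, _root_.Cfsg.Agent.H779.G2.GU.mul_d, _root_.add_zero, _root_.MulZeroClass.mul_zero, _root_.ne_eq, _root_.OfNat.ofNat_ne_zero, _root_.not_false_eq_true, _root_.zero_pow, _root_.Cfsg.Agent.H779.G2.GU.inv_d, _root_.neg_zero, _root_.sub_self, _root_.Cfsg.Agent.H779.G2.GU.mul_c, _root_.Cfsg.Agent.H779.G2.GU.inv_a, _root_.Cfsg.Agent.H779.G2.GU.mul_b, _root_.zero_add, _root_.mul_one, _root_.Cfsg.Agent.H779.G2.GU.inv_c, _root_.Cfsg.Agent.H779.G2.GU.inv_b]
    · simp only [xb, h1, h2, h3, h4, _root_.Cfsg.Agent.H772.G2.xb, _root_.Cfsg.Agent.H779.G2.GU.mul_e, _root_.add_zero, _root_.MulZeroClass.mul_zero, _root_.ne_eq, _root_.OfNat.ofNat_ne_zero, _root_.not_false_eq_true, _root_.zero_pow, _root_.Cfsg.Agent.H779.G2.GU.inv_e, _root_.sub_zero, _root_.add_neg_cancel, _root_.Cfsg.Agent.H779.G2.GU.mul_d, _root_.Cfsg.Agent.H779.G2.GU.inv_a, _root_.neg_zero, _root_.Cfsg.Agent.H779.G2.GU.mul_c, _root_.Cfsg.Agent.H779.G2.GU.mul_b, _root_.zero_add, _root_.sub_self, _root_.mul_one, _root_.Cfsg.Agent.H779.G2.GU.inv_d, _root_.Cfsg.Agent.H779.G2.GU.inv_c,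 _root_.Cfsg.Agent.H779.G2.GU.inv_b]
    · simp only [xb, h1, h2, h3, h4, _root_.Cfsg.Agent.H772.G2.xb, _root_.Cfsg.Agent.H779.G2.GU.mul_f, _root_.add_zero, _root_.MulZeroClass.mul_zero, _root_.mul_one, _root_.ne_eq, _root_.OfNat.ofNat_ne_zero, _root_.not_false_eq_true, _root_.zero_pow, _root_.sub_zero, _root_.Cfsg.Agent.H779.G2.GU.inv_f, _root_.MulZeroClass.zero_mul, _root_.Cfsg.Agent.H779.G2.GU.mul_d, _root_.Cfsg.Agent.H779.G2.GU.inv_c, _root_.neg_zero, _root_.Cfsg.Agent.H779.G2.GU.mul_e, _root_.Cfsg.Agent.H779.G2.GU.inv_b, _root_.Cfsg.Agent.H779.G2.GU.mul_c, _root_.Cfsg.Agent.H779.G2.GU.inv_a, _root_.Cfsg.Agent.H779.G2.GU.mul_b, _root_.zero_add, _root_.one_pow, _root_.sub_self, _root_.Cfsg.Agent.H779.G2.GU.inv_d, _root_.Cfsg.Agent.H779.G2.GU.inv_e, _root_.add_neg_cancel, _root_.mul_neg]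
      intro h
      apply he
      linear_combination -h
  refine grow (K1 := Z1 (ZMod 5)) (fun x => x.e) ?_ ?_ hZ1 hy ⟨h1, h2, h3, h4⟩ he
  · rintro x ⟨h1, h2, h3, h4⟩ z ⟨k1, k2, k3, k4⟩
    simp [h1, h2, h3, h4, k1, k2, k3, k4]
  · rintro x ⟨h1, h2, h3, h4⟩ hx
    exact ⟨h1, h2, h3, h4, hx⟩

theorem Z3_le {y : U5} (hy : y ∈ N) (h : y ∈ Z3 (ZMod 5)) (hd : y.d ≠ 0) : Z3 (ZMod 5) ≤ N := by
  obtain ⟨h1, h2, h3⟩ := h
  have hw := com_mem hn hy xa
  have h30 : (3 : ZMod 5) ≠ 0 := by decide
  have hZ2 : Z2 (ZMod 5) ≤ N := by
    refine Z2_le hn hw ⟨?_, ?_, ?_, ?_⟩ ?_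
    · simp only [xa, h1, _root_.Cfsg.Agent.H772.G2.xa, _root_.Cfsg.Agent.H779.G2.GU.mul_a, _root_.zero_add, _root_.Cfsg.Agent.H779.G2.GU.inv_a, _root_.neg_zero, _root_.add_zero, _root_.add_neg_cancel]
    · simp only [xa, h1, h2, _root_.Cfsg.Agent.H772.G2.xa, _root_.Cfsg.Agent.H779.G2.GU.mul_b, _root_.add_zero, _root_.Cfsg.Agent.H779.G2.GU.inv_b, _root_.neg_zero]
    · simp only [xa, h1, h2, h3, _root_.Cfsg.Agent.H772.G2.xa, _root_.Cfsg.Agent.H779.G2.GU.mul_c, _root_.add_zero, _root_.mul_one, _root_.Cfsg.Agent.H779.G2.GU.inv_c, _root_.neg_zero, _root_.MulZeroClass.mul_zero, _root_.Cfsg.Agent.H779.G2.GU.mul_b, _root_.Cfsg.Agent.H779.G2.GU.inv_a, _root_.Cfsg.Agent.H779.G2.GU.inv_b, _root_.mul_neg]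
    · simp only [xa, h1, h2, h3, _root_.Cfsg.Agent.H772.G2.xa, _root_.Cfsg.Agent.H779.G2.GU.mul_d, _root_.add_zero, _root_.MulZeroClass.mul_zero, _root_.mul_one, _root_.one_pow, _root_.Cfsg.Agent.H779.G2.GU.inv_d, _root_.ne_eq, _root_.OfNat.ofNat_ne_zero, _root_.not_false_eq_true, _root_.zero_pow, _root_.sub_zero, _root_.add_neg_cancel, _root_.Cfsg.Agent.H779.G2.GU.mul_c, _root_.Cfsg.Agent.H779.G2.GU.inv_a, _root_.neg_zero, _root_.Cfsg.Agent.H779.G2.GU.mul_b, _root_.sub_self, _root_.Cfsg.Agent.H779.G2.GU.inv_c, _root_.mul_neg, _root_.Cfsg.Agent.H779.G2.GU.inv_b, _root_.even_two, _root_.Even.neg_pow]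
    · simp only [xa, h1, h2, h3, _root_.Cfsg.Agent.H772.G2.xa, _root_.Cfsg.Agent.H779.G2.GU.mul_e, _root_.add_zero, _root_.mul_one, _root_.MulZeroClass.mul_zero, _root_.one_pow, _root_.Cfsg.Agent.H779.G2.GU.inv_e, _root_.MulZeroClass.zero_mul, _root_.ne_eq, _root_.OfNat.ofNat_ne_zero, _root_.not_false_eq_true, _root_.zero_pow, _root_.sub_zero, _root_.add_neg_cancel_comm, _root_.Cfsg.Agent.H779.G2.GU.mul_d, _root_.Cfsg.Agent.H779.G2.GU.inv_a, _root_.neg_zero, _root_.Cfsg.Agent.H779.G2.GU.mul_c, _root_.Cfsg.Agent.H779.G2.GU.mul_b, _root_.sub_self, _root_.Cfsg.Agent.H779.G2.GU.inv_d, _root_.add_neg_cancel, _root_.mul_neg, _root_.Cfsg.Agent.H779.G2.GU.inv_c, _root_.even_two, _root_.Even.neg_pow, _root_.Cfsg.Agent.H779.G2.GU.inv_b, _root_.mul_eq_zero, _root_.not_or]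
      exact ⟨h30, hd⟩
  refine grow (K1 := Z2 (ZMod 5)) (fun x => x.d) ?_ ?_ hZ2 hy ⟨h1, h2, h3⟩ hd
  · rintro x ⟨h1, h2, h3⟩ z ⟨k1, k2, k3⟩
    simp [h1, h2, h3, k1, k2, k3]
  · rintro x ⟨h1, h2, h3⟩ hx
    exact ⟨h1, h2, h3, hx⟩

theorem Z4_le {y : U5} (hy : y ∈ N) (h : y ∈ Z4 (ZMod 5)) (hc : y.c ≠ 0) : Z4 (ZMod 5) ≤ N := by
  obtain ⟨h1, h2⟩ := h
  have hw := com_mem hn hy xa
  have hZ3 : Z3 (ZMod 5) ≤ N := by
    refine Z3_le hn hw ⟨?_, ?_, ?_⟩ ?_
    · simp only [xa, h1, _root_.Cfsg.Agent.H772.G2.xa, _root_.Cfsg.Agent.H779.G2.GU.mul_a, _root_.zero_add, _root_.Cfsg.Agent.H779.G2.GU.inv_a, _root_.neg_zero, _root_.add_zero, _root_.add_neg_cancel]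
    · simp only [xa, h1, h2, _root_.Cfsg.Agent.H772.G2.xa, _root_.Cfsg.Agent.H779.G2.GU.mul_b, _root_.add_zero, _root_.Cfsg.Agent.H779.G2.GU.inv_b, _root_.neg_zero]
    · simp only [xa, h1, h2, _root_.Cfsg.Agent.H772.G2.xa, _root_.Cfsg.Agent.H779.G2.GU.mul_c, _root_.add_zero, _root_.mul_one, _root_.Cfsg.Agent.H779.G2.GU.inv_c, _root_.MulZeroClass.mul_zero, _root_.add_neg_cancel, _root_.Cfsg.Agent.H779.G2.GU.mul_b, _root_.Cfsg.Agent.H779.G2.GU.inv_a, _root_.neg_zero, _root_.Cfsg.Agent.H779.G2.GU.inv_b, _root_.mul_neg]
    · simp only [xa, h1, h2, _root_.Cfsg.Agent.H772.G2.xa, _root_.Cfsg.Agent.H779.G2.GU.mul_d, _root_.add_zero, _root_.mul_one, _root_.one_pow, _root_.Cfsg.Agent.H779.G2.GU.inv_d, _root_.MulZeroClass.mul_zero, _root_.MulZeroClass.zero_mul, _root_.ne_eq, _root_.OfNat.ofNat_ne_zero, _root_.not_false_eq_true, _root_.zero_pow, _root_.sub_zero, _root_.add_neg_cancel_comm, _root_.Cfsg.Agent.H779.G2.GU.mul_c, _root_.Cfsg.Agent.H779.G2.GU.inv_a, _root_.neg_zero, _root_.Cfsg.Agent.H779.G2.GU.mul_b, _root_.sub_self, _root_.Cfsg.Agent.H779.G2.GU.inv_c, _root_.add_neg_cancel,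 _root_.mul_neg, _root_.Cfsg.Agent.H779.G2.GU.inv_b, _root_.even_two, _root_.Even.neg_pow, _root_.mul_eq_zero, _root_.not_or]
      exact ⟨by decide, hc⟩
  refine grow (K1 := Z3 (ZMod 5)) (fun x => x.c) ?_ ?_ hZ3 hy ⟨h1, h2⟩ hc
  · rintro x ⟨h1, h2⟩ z ⟨k1, k2⟩
    simp [h1, h2, k1, k2]
  · rintro x ⟨h1, h2⟩ hx
    exact ⟨h1, h2, hx⟩

theorem A5_le {y : U5} (hy : y ∈ N) (h : y ∈ A5) (hb : y.b ≠ 0) : A5 ≤ N := by
  have h1 : y.a = 0 := h
  have hw := com_mem hn hy xa
  have hZ4 : Z4 (ZMod 5) ≤ N := by
    refine Z4_le hn hw ⟨?_, ?_⟩ ?_
    · simp only [xa, h1, _root_.Cfsg.Agent.H772.G2.xa, _root_.Cfsg.Agent.H779.G2.GU.mul_a, _root_.zero_add, _root_.Cfsg.Agent.H779.G2.GU.inv_a, _root_.neg_zero, _root_.add_zero, _root_.add_neg_cancel]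
    · simp only [xa, h1, _root_.Cfsg.Agent.H772.G2.xa, _root_.Cfsg.Agent.H779.G2.GU.mul_b, _root_.add_zero, _root_.Cfsg.Agent.H779.G2.GU.inv_b, _root_.add_neg_cancel, _root_.neg_zero]
    · simp only [xa, h1, _root_.Cfsg.Agent.H772.G2.xa, _root_.Cfsg.Agent.H779.G2.GU.mul_c, _root_.add_zero, _root_.mul_one, _root_.Cfsg.Agent.H779.G2.GU.inv_c, _root_.MulZeroClass.zero_mul, _root_.add_neg_cancel_comm, _root_.Cfsg.Agent.H779.G2.GU.mul_b, _root_.Cfsg.Agent.H779.G2.GU.inv_a, _root_.neg_zero, _root_.MulZeroClass.mul_zero, _root_.Cfsg.Agent.H779.G2.GU.inv_b, _root_.add_neg_cancel, _root_.mul_neg, _root_.ne_eq]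
      exact hb
  refine grow (K1 := Z4 (ZMod 5)) (fun x => x.b) ?_ ?_ hZ4 hy h1 hb
  · intro x h1 z k1
    simp
  · intro x h1 hx
    exact ⟨h1, hx⟩

theorem Z4_le_of_a {y : U5} (hy : y ∈ N) (ha : y.a ≠ 0) : Z4 (ZMod 5) ≤ N := by
  have hw := com_mem hn hy xb
  refine Z4_le hn hw ⟨?_, ?_⟩ ?_
  · simp only [xb, _root_.Cfsg.Agent.H772.G2.xb, _root_.Cfsg.Agent.H779.G2.GU.mul_a, _root_.add_zero, _root_.Cfsg.Agent.H779.G2.GU.inv_a, _root_.add_neg_cancel, _root_.neg_zero]
  · simp only [xb, _root_.Cfsg.Agent.H772.G2.xb, _root_.Cfsg.Agent.H779.G2.GU.mul_b, _root_.Cfsg.Agent.H779.G2.GU.inv_b, _root_.add_neg_cancel_comm, _root_.add_neg_cancel]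
  · simp only [xb, _root_.Cfsg.Agent.H772.G2.xb, _root_.Cfsg.Agent.H779.G2.GU.mul_c, _root_.add_zero, _root_.MulZeroClass.mul_zero, _root_.Cfsg.Agent.H779.G2.GU.inv_c, _root_.add_neg_cancel_left, _root_.Cfsg.Agent.H779.G2.GU.mul_b, _root_.Cfsg.Agent.H779.G2.GU.inv_a, _root_.mul_neg, _root_.neg_zero, _root_.mul_one, _root_.Cfsg.Agent.H779.G2.GU.inv_b, _root_.add_neg_cancel_comm, _root_.ne_eq]
    intro h
    apply ha
    linear_combination -h

end

/-- (ROW) -/
theorem stRowSys : StRowSys := by
  intro G _ _ T e hL
  obtain ⟨F, sat, real, hom, hcard⟩ := exists_group_system T e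
  refine ⟨F, sat, real, ?_, hcard A5⟩
  have hfin : Finite U5 := inferInstance
  have hNn : F.IsNormal F.core := isNormal_core
  generalize F.core = N at hNn
  -- images of elements of `N`
  have ext : ∀ (P : Subgroup U5) (φ : P →* U5), φ ∈ F.Hom P → ∃ ψ : ↥(P ⊔ N) →* U5,
      (∀ x : P, ψ ⟨x, Subgroup.mem_sup_left x.2⟩ = φ x) ∧ (∀ x (hx : x ∈ N), ψ ⟨x, Subgroup.mem_sup_right hx⟩ ∈ N) ∧
      ∀ y ∈ N, ∃ x, ∃ hx : x ∈ N, ψ ⟨x, Subgroup.mem_sup_right hx⟩ = y := by
    intro P φ hφ
    obtain ⟨ψ, hψ, h1, h2⟩ := hNn.2 P φ hφ
    refine ⟨ψ, h1, ?_, ?_⟩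
    · intro x hx
      have : ψ ⟨x, Subgroup.mem_sup_right hx⟩ ∈ (N.subgroupOf (P ⊔ N)).map ψ := ⟨_, hx, rfl⟩
      rwa [h2] at this
    · intro y hy
      rw [← h2] at hy
      obtain ⟨x, hx, rfl⟩ := hy
      exact ⟨x, hx, rfl⟩
  have clos : ∀ (P : Subgroup U5) (φ : P →* U5), φ ∈ F.Hom P → ∀ x : P, (x : U5) ∈ N → φ x ∈ N := by
    intro P φ hφ x hx
    obtain ⟨ψ, h1, h2, -⟩ := ext P φ hφ
    rw [← h1 x]
    exact h2 x hx
  have closZ : ∀ (P : Subgroup U5) (φ : P →* U5), φ ∈ F.Hom P → ∀ x : P, (x : U5) ∈ N →
      (∀ n ∈ N, (x : U5) * n = n * x) → ∀ n ∈ N, φ x * n = n * φ x := by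
    intro P φ hφ x hx hc n hn
    obtain ⟨ψ, h1, h2, h3⟩ := ext P φ hφ
    obtain ⟨m, hm, rfl⟩ := h3 n hn
    rw [← h1 x, ← map_mul, ← map_mul]
    congr 1
    exact Subtype.ext (hc m hm)
  have hn : ∀ x ∈ N, ∀ g : U5, g * x * g⁻¹ ∈ N := by
    intro x hx g
    exact clos ⊤ _ (F.conj_mem (g := g) le_top (Subgroup.mem_top g)) ⟨x, Subgroup.mem_top x⟩ hx
  -- the morphism of (b)
  obtain ⟨g, x, y, hx, hxy, hy⟩ := hL.b
  have hsy : ∀ z : (T : Subgroup G), e.symm (e z) = z := e.symm_apply_apply
  obtain ⟨φ, hφ, hφx⟩ : ∃ φ ∈ F.Hom (Subgroup.zpowers (e x)), φ ⟨e x, Subgroup.mem_zpowers _⟩ = e y := by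
    obtain ⟨φ, hφ⟩ := exists_hom T e (Subgroup.zpowers (e x)) g (by
      rintro ⟨_, k, rfl⟩
      have h1 : e.symm (e x ^ k) = x ^ k := by rw [map_zpow, hsy]
      show g * ((e.symm (e x ^ k) : (T : Subgroup G)) : G) * g⁻¹ ∈ (T : Subgroup G)
      rw [h1, Subgroup.coe_zpow, ← conj_zpow, ← hxy]
      exact zpow_mem y.2 k)
    refine ⟨φ, (hom _ _).2 ⟨g, hφ⟩, ?_⟩
    apply e.symm.injective
    apply Subtype.ext
    rw [hφ]
    show g * ((e.symm (e x) : (T : Subgroup G)) : G) * g⁻¹ = ((e.symm (e y) : (T : Subgroup G)) : G)
    rw [hsy, hsy, hxy]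
  have hb1 : e x ∈ N → e y ∈ N := fun h => by
    rw [← hφx]
    exact clos _ φ hφ _ h
  have Zc : ∀ z ∈ Z1 (ZMod 5), ∀ u : U5, z * u = u * z := by
    rintro z ⟨h1, h2, h3, h4, h5⟩ u
    ext <;> simp [h1, h2, h3, h4, h5, add_comm]
  -- the morphisms of (a1), (a2)
  have amor : ∀ g : G, (∀ x : (T : Subgroup G), e x ∈ A5 → ∃ y : (T : Subgroup G), (y : G) = g * x * g⁻¹ ∧ e y ∈ A5) →
      ∃ φ : A5 →* U5, φ ∈ F.Hom A5 ∧ (∀ u, φ u ∈ A5) ∧ ∀ (x y : (T : Subgroup G)) (hx : e x ∈ A5),
        (y : G) = g * x * g⁻¹ → φ ⟨e x, hx⟩ = e y := by
    intro g hg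
    have key : ∀ u : A5, ∃ y : (T : Subgroup G), (y : G) = g * ((e.symm u : (T : Subgroup G)) : G) * g⁻¹ ∧ e y ∈ A5 := by
      intro u
      exact hg (e.symm u) (by rw [e.apply_symm_apply]; exact u.2)
    obtain ⟨φ, hφ⟩ := exists_hom T e A5 g (fun u => by
      obtain ⟨y, hy, -⟩ := key u
      rw [← hy]
      exact y.2)
    refine ⟨φ, (hom _ _).2 ⟨g, hφ⟩, fun u => ?_, fun x y hx hxy => ?_⟩
    · obtain ⟨y, hy, hy'⟩ := key u
      have h1 : φ u = e y := by
        apply e.symm.injective
        apply Subtype.ext
        rw [hφ, hsy, hy]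
      rw [h1]
      exact hy'
    · apply e.symm.injective
      apply Subtype.ext
      rw [hφ]
      show g * ((e.symm (e x) : (T : Subgroup G)) : G) * g⁻¹ = ((e.symm (e y) : (T : Subgroup G)) : G)
      rw [hsy, hsy, hxy]
  obtain ⟨g1, p1, x1, y1, q1, q2, q3⟩ := hL.a1
  obtain ⟨g2, p2, x2, y2, r1, r2, r3⟩ := hL.a2
  have Z2A : Z2 (ZMod 5) ≤ A5 := fun z hz => hz.1
  have Z3A : Z3 (ZMod 5) ≤ A5 := fun z hz => hz.1
  have Z4A : Z4 (ZMod 5) ≤ A5 := fun z hz => hz.1
  obtain ⟨φ1, m1, m2, m3⟩ := amor g1 p1
  obtain ⟨φ2, n1, n2, n3⟩ := amor g2 p2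
  have e1 : φ1 ⟨e x1, Z2A q1⟩ = e y1 := m3 x1 y1 (Z2A q1) q2
  have e2 : φ2 ⟨e x2, Z3A r1⟩ = e y2 := n3 x2 y2 (Z3A r1) r2
  by_contra hbot
  -- first case: `Q_a ≤ N`
  by_cases hA : A5 ≤ N
  · have hxN : e x ∈ N := hA hx.1
    have h1 := closZ _ φ hφ ⟨e x, Subgroup.mem_zpowers _⟩ hxN (fun n _ => Zc _ hx n)
    rw [hφx] at h1
    apply hy
    have h30 : (3 : ZMod 5) ≠ 0 := by decide
    have t1 := congrArg GU.c (h1 ⟨0, 1, 0, 0, 0, 0⟩ (hA rfl))
    have t2 := congrArg GU.f (h1 ⟨0, 1, 0, 0, 0, 0⟩ (hA rfl))
    have t3 := congrArg GU.f (h1 ⟨0, 0, 1, 0, 0, 0⟩ (hA rfl))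
    have t4 := congrArg GU.f (h1 ⟨0, 0, 0, 1, 0, 0⟩ (hA rfl))
    have t5 := congrArg GU.f (h1 ⟨0, 0, 0, 0, 1, 0⟩ (hA rfl))
    generalize e y = w at t1 t2 t3 t4 t5
    have a0 : w.a = 0 := by simpa using t1
    simp [a0] at t2 t3 t4 t5
    exact ⟨a0, by linear_combination t5, t4.resolve_left h30, t3.resolve_left h30, t2⟩
  have hb0 : ∀ z ∈ N, z.a = 0 → z.b = 0 := by
    intro z hz ha
    by_contra hb
    exact hA (A5_le hn hz ha hb)
  by_cases h4 : Z4 (ZMod 5) ≤ N
  · -- `N ∩ Q_a = Z₄`
    have s1 : ∀ z : Z4 (ZMod 5), φ1 ⟨z, Z4A z.2⟩ ∈ Z4 (ZMod 5) := by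
      intro z
      have h5 := clos A5 φ1 m1 ⟨z, Z4A z.2⟩ (h4 z.2)
      have h6 : (φ1 ⟨z, Z4A z.2⟩).a = 0 := m2 _
      exact ⟨h6, hb0 _ h5 h6⟩
    have inj : Function.Injective (fun z : Z4 (ZMod 5) => (⟨φ1 ⟨z, Z4A z.2⟩, s1 z⟩ : Z4 (ZMod 5))) := by
      intro z z' h
      have h5 : φ1 ⟨z, Z4A z.2⟩ = φ1 ⟨z', Z4A z'.2⟩ := congrArg Subtype.val h
      have h6 := F.injective_of_mem m1 h5
      exact Subtype.ext (congrArg (fun w : A5 => (w : U5)) h6)
    have surj := Finite.injective_iff_surjective.1 inj
    have hcomm : ∀ v ∈ Z4 (ZMod 5), e y1 * v = v * e y1 := by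
      intro v hv
      obtain ⟨z, hz⟩ := surj ⟨v, hv⟩
      have hz' : φ1 ⟨z, Z4A z.2⟩ = v := congrArg Subtype.val hz
      rw [← hz', ← e1, ← map_mul, ← map_mul]
      congr 1
      apply Subtype.ext
      show e x1 * (z : U5) = z * e x1
      obtain ⟨k1, k2, k3, k4⟩ := q1
      obtain ⟨l1, l2⟩ := z.2
      generalize e x1 = w at k1 k2 k3 k4
      generalize (z : U5) = v at l1 l2
      ext <;> simp [k1, k2, k3, k4, l1, l2, add_comm]
    have ha : (e y1).a = 0 := by
      rw [← e1]
      exact m2 _
    have h30 : (3 : ZMod 5) ≠ 0 := by decide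
    have t3 := congrArg GU.f (hcomm ⟨0, 0, 1, 0, 0, 0⟩ ⟨rfl, rfl⟩)
    have t4 := congrArg GU.f (hcomm ⟨0, 0, 0, 1, 0, 0⟩ ⟨rfl, rfl⟩)
    have t5 := congrArg GU.f (hcomm ⟨0, 0, 0, 0, 1, 0⟩ ⟨rfl, rfl⟩)
    apply q3
    generalize e y1 = w at t3 t4 t5 ha
    simp [ha] at t3 t4 t5
    exact ⟨ha, by linear_combination t5, t4.resolve_left h30, t3.resolve_left h30⟩
  have ha0 : ∀ z ∈ N, z.a = 0 := by
    intro z hz
    by_contra ha
    exact h4 (Z4_le_of_a hn hz ha)
  have hc0 : ∀ z ∈ N, z.c = 0 := by
    intro z hz
    by_contra hc
    exact h4 (Z4_le hn hz ⟨ha0 z hz, hb0 z hz (ha0 z hz)⟩ hc)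
  by_cases h3 : Z3 (ZMod 5) ≤ N
  · have h5 := clos A5 φ2 n1 ⟨e x2, Z3A r1⟩ (h3 r1)
    rw [e2] at h5
    exact r3 ⟨ha0 _ h5, hb0 _ h5 (ha0 _ h5), hc0 _ h5⟩
  have hd0 : ∀ z ∈ N, z.d = 0 := by
    intro z hz
    by_contra hd
    exact h3 (Z3_le hn hz ⟨ha0 z hz, hb0 z hz (ha0 z hz), hc0 z hz⟩ hd)
  by_cases h2 : Z2 (ZMod 5) ≤ N
  · have h5 := clos A5 φ1 m1 ⟨e x1, Z2A q1⟩ (h2 q1)
    rw [e1] at h5
    exact q3 ⟨ha0 _ h5, hb0 _ h5 (ha0 _ h5), hc0 _ h5, hd0 _ h5⟩
  have he0 : ∀ z ∈ N, z.e = 0 := by
    intro z hz
    by_contra he
    exact h2 (Z2_le hn hz ⟨ha0 z hz, hb0 z hz (ha0 z hz), hc0 z hz, hd0 z hz⟩ he)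
  obtain ⟨⟨z, hz⟩, hz1⟩ := Subgroup.ne_bot_iff_exists_ne_one.1 hbot
  have hzf : z.f ≠ 0 := by
    intro hf
    apply hz1
    apply Subtype.ext
    show z = 1
    ext
    · exact ha0 z hz
    · exact hb0 z hz (ha0 z hz)
    · exact hc0 z hz
    · exact hd0 z hz
    · exact he0 z hz
    · exact hf
  have hZ1 : Z1 (ZMod 5) ≤ N :=
    Z1_le hn hz ⟨ha0 z hz, hb0 z hz (ha0 z hz), hc0 z hz, hd0 z hz, he0 z hz⟩ hzf
  have h5 := hb1 (hZ1 hx)
  exact hy ⟨ha0 _ h5, hb0 _ h5 (ha0 _ h5), hc0 _ h5, hd0 _ h5, he0 _ h5⟩

end Cfsg.Agent.H772.G2
end

-- part: H772/G2/Asm5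
section
/-!
# S5211, block `q = 5`: the assembly
-/

set_option autoImplicit false

namespace Cfsg.Agent.H772.G2

open Cfsg Cfsg.FusionSystem Cfsg.Agent.H756.PU Cfsg.Agent.H779.G2 Cfsg.Agent.H24.Q5
seal Cfsg.Agent.H779.G2.GU.instMul Cfsg.Agent.H779.G2.GU.instInv

universe u

/-- a row gives a good realizable system with a given order of `Aut_F(Q_a)` -/
theorem pick (hGood : StGood) (hFive : StFive) {P : ℕ → Prop} {v : ℕ} (hrow : Row P)
    (hP : ∀ n : ℕ, n ∈ ({625 * 480, 625 * 640, 625 * 1280, 625 * 2880, 625 * 7680} : Set ℕ) → P n → n = v) :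
    ∃ (F : FusionSystem (⊤ : Subgroup U5)) (D : Subgroup (MulAut U5)), Good F D ∧ F.IsRealizable 5 ∧
      Nat.card (F.autGroup A5) = v := by
  obtain ⟨G, _, _, T, e, hL, hn⟩ := hrow
  obtain ⟨F, h1, h2, h3, h4⟩ := stRowSys G T e hL
  obtain ⟨F', D, h5, h6, h7⟩ := hGood F h1 h3
  refine ⟨F', D, h5, h6.2 h2, hP _ (hFive F' D h5) ?_⟩
  rw [h7, h4]
  exact hn

/-- the case `q = 5` over `ZMod 5` -/
theorem stMain5Z (hGood : StGood) (hFive : StFive) (hUniq : StUniq) (r1 : StRowG2) (r2 : StRowHN) (r3 : StRowHN2)
    (r4 : StRowLy) (r5 : StRowB) : StMain5Z := by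
  intro F hF hc
  obtain ⟨F', D, h5, h6, -⟩ := hGood F hF hc
  rw [← h6]
  have fin : ∀ v : ℕ, Nat.card (F'.autGroup A5) = v → (∃ (F1 : FusionSystem (⊤ : Subgroup U5)) (D : Subgroup (MulAut U5)),
      Good F1 D ∧ F1.IsRealizable 5 ∧ Nat.card (F1.autGroup A5) = v) → F'.IsRealizable 5 := by
    rintro v hv ⟨F1, D1, g1, g2, g3⟩
    have h7 := hUniq F' F1 D D1 h5 g1 (hv.trans g3.symm)
    rw [H802.fusionSystem_ext h7]
    exact g2
  have h8 := hFive F' D h5
  rcases h8 with h8 | h8 | h8 | h8 | h8
  · refine fin _ h8 (pick hGood hFive r1 ?_)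
    rintro n (rfl | rfl | rfl | rfl | rfl) <;> decide +kernel
  · refine fin _ h8 (pick hGood hFive r2 ?_)
    rintro n (rfl | rfl | rfl | rfl | rfl) <;> decide +kernel
  · refine fin _ h8 (pick hGood hFive r3 ?_)
    rintro n (rfl | rfl | rfl | rfl | rfl) <;> decide +kernel
  · refine fin _ h8 (pick hGood hFive r4 ?_)
    rintro n (rfl | rfl | rfl | rfl | rfl) <;> decide +kernel
  · refine fin _ h8 (pick hGood hFive r5 ?_)
    rintro n (rfl | rfl | rfl | rfl | rfl) <;> decide +kernel

/-- the case `q = 5` -/
theorem stMain5 (hGood : StGood) (hM : StM) (hM3 : StM3) (hM6 : StM6) (hF2 : StF2) (hF3 : StF3) (hLb : StLb5)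
    (hG : StGrp.{0}) (hS : StSame.{0}) (r1 : StRowG2) (r2 : StRowHN) (r3 : StRowHN2)
    (r4 : StRowLy) (r5 : StRowB) : StMain5.{u} :=
  stPush5 (stMain5Z hGood (stFive hM hM3 hM6 hF2 hF3 hLb) (stUniq hM hM3 hM6 hF2 hF3 hLb hG hS) r1 r2 r3 r4 r5)

end Cfsg.Agent.H772.G2
end

-- part: H650/GU/Sub
section
/-!
# S5211: the standard subgroups of `GU F` (helper650)

`Z1 = X4 < Z2 = X2 X4 < Z3 = X2 X3 X4 < M = X2 X3 X4 X5 = Q1 ⊓ Q2`, `Q1 = X2 ⋯ X6`, `Q2 = X1 ⋯ X5`; orders, normality,
conjugation formulas, centralizers.
-/

set_option autoImplicit false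
set_option linter.unusedSimpArgs false

namespace Cfsg.Agent.H650.G

universe u

namespace GU

variable {F : Type u} [CommRing F]

/-- `Q1 = X2 X3 X5 X6 X4`, order `q⁵` -/
def Q1 (F : Type u) [CommRing F] : Subgroup (GU F) where
  carrier := {x | x.r = 0}
  mul_mem' := by
    intro x y hx hy
    have hx : x.r = 0 := hx
    have hy : y.r = 0 := hy
    change (x * y).r = 0
    rw [mul_r, hx, hy, add_zero]
  one_mem' := rfl
  inv_mem' := by
    intro x hx
    have hx : x.r = 0 := hx
    change (x⁻¹).r = 0
    rw [inv_r, hx, neg_zero]

/-- `Q2 = X1 X2 X3 X5 X4`, order `q⁵` -/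
def Q2 (F : Type u) [CommRing F] : Subgroup (GU F) where
  carrier := {x | x.e = 0}
  mul_mem' := by
    intro x y hx hy
    have hx : x.e = 0 := hx
    have hy : y.e = 0 := hy
    change (x * y).e = 0
    rw [mul_e, hx, hy, add_zero]
  one_mem' := rfl
  inv_mem' := by
    intro x hx
    have hx : x.e = 0 := hx
    change (x⁻¹).e = 0
    rw [inv_e, hx, neg_zero]

/-- `M = X2 X3 X5 X4 = Q1 ⊓ Q2`, order `q⁴` -/
def M (F : Type u) [CommRing F] : Subgroup (GU F) := Q1 F ⊓ Q2 F

/-- `Z3 = X2 X3 X4`, order `q³` -/
def Z3 (F : Type u) [CommRing F] : Subgroup (GU F) where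
  carrier := {x | x.r = 0 ∧ x.e = 0 ∧ x.d = 0}
  mul_mem' := by
    rintro x y ⟨h1, h2, h3⟩ ⟨k1, k2, k3⟩
    refine ⟨?_, ?_, ?_⟩
    · rw [mul_r, h1, k1, add_zero]
    · rw [mul_e, h2, k2, add_zero]
    · rw [mul_d, h2, h3, k3]; ring
  one_mem' := ⟨rfl, rfl, rfl⟩
  inv_mem' := by
    rintro x ⟨h1, h2, h3⟩
    refine ⟨?_, ?_, ?_⟩
    · rw [inv_r, h1, neg_zero]
    · rw [inv_e, h2, neg_zero]
    · rw [inv_d, h2, h3]; ring

/-- `Z2 = X2 X4`, order `q²` -/
def Z2 (F : Type u) [CommRing F] : Subgroup (GU F) where
  carrier := {x | x.r = 0 ∧ x.e = 0 ∧ x.d = 0 ∧ x.c = 0}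
  mul_mem' := by
    rintro x y ⟨h1, h2, h3, h4⟩ ⟨k1, k2, k3, k4⟩
    refine ⟨?_, ?_, ?_, ?_⟩
    · rw [mul_r, h1, k1, add_zero]
    · rw [mul_e, h2, k2, add_zero]
    · rw [mul_d, h2, h3, k3]; ring
    · rw [mul_c, h2, h3, h4, k4]; ring
  one_mem' := ⟨rfl, rfl, rfl, rfl⟩
  inv_mem' := by
    rintro x ⟨h1, h2, h3, h4⟩
    refine ⟨?_, ?_, ?_, ?_⟩
    · rw [inv_r, h1, neg_zero]
    · rw [inv_e, h2, neg_zero]
    · rw [inv_d, h2, h3]; ring
    · rw [inv_c, h2, h3, h4]; ring

/-- `Z1 = X4`, order `q` -/
def Z1 (F : Type u) [CommRing F] : Subgroup (GU F) where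
  carrier := {x | x.r = 0 ∧ x.e = 0 ∧ x.d = 0 ∧ x.c = 0 ∧ x.b = 0}
  mul_mem' := by
    rintro x y ⟨h1, h2, h3, h4, h5⟩ ⟨k1, k2, k3, k4, k5⟩
    refine ⟨?_, ?_, ?_, ?_, ?_⟩
    · rw [mul_r, h1, k1, add_zero]
    · rw [mul_e, h2, k2, add_zero]
    · rw [mul_d, h2, h3, k3]; ring
    · rw [mul_c, h2, h3, h4, k4]; ring
    · rw [mul_b, h2, h3, h4, h5, k5]; ring
  one_mem' := ⟨rfl, rfl, rfl, rfl, rfl⟩
  inv_mem' := by
    rintro x ⟨h1, h2, h3, h4, h5⟩
    refine ⟨?_, ?_, ?_, ?_, ?_⟩
    · rw [inv_r, h1, neg_zero]
    · rw [inv_e, h2, neg_zero]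
    · rw [inv_d, h2, h3]; ring
    · rw [inv_c, h2, h3, h4]; ring
    · rw [inv_b, h2, h3, h4, h5]; ring

theorem mem_Q1 {x : GU F} : x ∈ Q1 F ↔ x.r = 0 := Iff.rfl
theorem mem_Q2 {x : GU F} : x ∈ Q2 F ↔ x.e = 0 := Iff.rfl
theorem mem_Z3 {x : GU F} : x ∈ Z3 F ↔ x.r = 0 ∧ x.e = 0 ∧ x.d = 0 := Iff.rfl
theorem mem_Z2 {x : GU F} : x ∈ Z2 F ↔ x.r = 0 ∧ x.e = 0 ∧ x.d = 0 ∧ x.c = 0 := Iff.rfl
theorem Z1_le : Z1 F ≤ Z2 F := fun _ h => ⟨h.1, h.2.1, h.2.2.1, h.2.2.2.1⟩
theorem Z2_le : Z2 F ≤ Z3 F := fun _ h => ⟨h.1, h.2.1, h.2.2.1⟩
theorem Z3_le : Z3 F ≤ M F := fun _ h => ⟨h.1, h.2.1⟩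
/-! ### Orders -/

theorem card_Q1 : Nat.card (Q1 F) = Nat.card F ^ 5 := by
  have e : Q1 F ≃ F × F × F × F × F :=
    { toFun := fun x => (x.1.b, x.1.c, x.1.d, x.1.e, x.1.z)
      invFun := fun t => ⟨⟨0, t.1, t.2.1, t.2.2.1, t.2.2.2.1, t.2.2.2.2⟩, rfl⟩
      left_inv := by
        rintro ⟨⟨r, b, c, d, e, z⟩, h⟩
        obtain rfl : r = 0 := h
        rfl
      right_inv := fun _ => rfl }
  rw [Nat.card_congr e]
  simp only [Nat.card_prod]
  ring

/-! ### Homomorphisms -/

/-- the first coordinate, kernel `Q1` -/
def hom1 (F : Type u) [CommRing F] : GU F →* Multiplicative F where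
  toFun x := Multiplicative.ofAdd x.r
  map_one' := rfl
  map_mul' _ _ := rfl

/-- the sixth coordinate, kernel `Q2` -/
def hom6 (F : Type u) [CommRing F] : GU F →* Multiplicative F where
  toFun x := Multiplicative.ofAdd x.e
  map_one' := rfl
  map_mul' _ _ := rfl

theorem ker_hom1 : (hom1 F).ker = Q1 F := by
  ext x
  rw [MonoidHom.mem_ker, mem_Q1]
  exact Iff.rfl

theorem ker_hom6 : (hom6 F).ker = Q2 F := by
  ext x
  rw [MonoidHom.mem_ker, mem_Q2]
  exact Iff.rfl

instance : (Q1 F).Normal := by rw [← ker_hom1]; infer_instance
instance : (Q2 F).Normal := by rw [← ker_hom6]; infer_instance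
instance : (M F).Normal := by unfold M; infer_instance

/-! ### Conjugation formulas -/

/-- `x y x⁻¹` for `y ∈ Q1` -/
theorem conj_Q1 (x : GU F) {y : GU F} (hy : y ∈ Q1 F) : x * y * x⁻¹ =
    ⟨0, y.b + 3 * x.r * y.c + 3 * x.r ^ 2 * y.d - x.r ^ 3 * y.e, y.c + 2 * x.r * y.d - x.r ^ 2 * y.e,
      y.d - x.r * y.e, y.e,
      y.z - 3 * x.r * y.d ^ 2 + 3 * x.r ^ 2 * y.e * y.d - x.r ^ 3 * y.e ^ 2
        - x.e * y.b - 3 * x.d * y.c + 3 * y.d * x.c + y.e * x.b⟩ := by
  have h : y.r = 0 := hy
  ext
  · simp [h]
  all_goals
    simp only [mul_r, mul_b, mul_c, mul_d, mul_e, mul_z, inv_r, inv_b, inv_c, inv_d, inv_e, inv_z, h]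
    ring

/-- `x y x⁻¹` for `y ∈ M` -/
theorem conj_M (x : GU F) {y : GU F} (hy : y ∈ M F) : x * y * x⁻¹ =
    ⟨0, y.b + 3 * x.r * y.c + 3 * x.r ^ 2 * y.d, y.c + 2 * x.r * y.d, y.d, 0,
      y.z - 3 * x.r * y.d ^ 2 - x.e * y.b - 3 * x.d * y.c + 3 * y.d * x.c⟩ := by
  rw [conj_Q1 x hy.1]
  have h : y.e = 0 := hy.2
  ext <;> simp [h]

/-- `x y x⁻¹` for `y ∈ Z3` -/
theorem conj_Z3 (x : GU F) {y : GU F} (hy : y ∈ Z3 F) : x * y * x⁻¹ =
    ⟨0, y.b + 3 * x.r * y.c, y.c, 0, 0, y.z - x.e * y.b - 3 * x.d * y.c⟩ := by
  rw [conj_M x (Z3_le hy)]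
  have h : y.d = 0 := hy.2.2
  ext <;> simp [h]

/-- `x y x⁻¹` for `y ∈ Z2` -/
theorem conj_Z2 (x : GU F) {y : GU F} (hy : y ∈ Z2 F) : x * y * x⁻¹ = ⟨0, y.b, 0, 0, 0, y.z - x.e * y.b⟩ := by
  rw [conj_Z3 x (Z2_le hy)]
  have h : y.c = 0 := hy.2.2.2
  ext <;> simp [h]

theorem conj_Z1 (x : GU F) {y : GU F} (hy : y ∈ Z1 F) : x * y * x⁻¹ = y := by
  rw [conj_Z2 x (Z1_le hy)]
  obtain ⟨h1, h2, h3, h4, h5⟩ := hy
  ext <;> simp [h1, h2, h3, h4, h5]

instance : (Z3 F).Normal := ⟨fun y hy x => by rw [conj_Z3 x hy]; exact ⟨rfl, rfl, rfl⟩⟩
instance : (Z2 F).Normal := ⟨fun y hy x => by rw [conj_Z2 x hy]; exact ⟨rfl, rfl, rfl, rfl⟩⟩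
instance : (Z1 F).Normal := ⟨fun y hy x => by rw [conj_Z1 x hy]; exact hy⟩

/-- `x y x⁻¹ y⁻¹` for `x, y ∈ Q1` : the symplectic form -/
theorem comm_Q1 {x y : GU F} (hx : x ∈ Q1 F) (hy : y ∈ Q1 F) : x * y * x⁻¹ * y⁻¹ =
    ⟨0, 0, 0, 0, 0, y.e * x.b - x.e * y.b + 3 * (x.c * y.d - x.d * y.c)⟩ := by
  rw [conj_Q1 x hy]
  have h1 : x.r = 0 := hx
  have h2 : y.r = 0 := hy
  ext <;> simp only [mul_r, mul_b, mul_c, mul_d, mul_e, mul_z, inv_r, inv_b, inv_c, inv_d, inv_e, inv_z, h1, h2] <;>
    ring

/-! ### Centralizers in `GU F`, elementwise -/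

section field

variable {F : Type u} [Field F]

end field

end GU

end Cfsg.Agent.H650.G
end

-- part: H770/QF/Act
section
/-!
# S5211, block q = 5: the action of `Aut(Q₁)` on `Q₁/Z₁` (helper770)

* `act : MulAut P1 →* M5ˣ` with kernel `Inn P1` (`ker_act`);
* `act_cjQ_x1`, `act_tor` : the matrices of conjugations and torus elements.
-/

set_option autoImplicit false
set_option linter.unusedSimpArgs false

namespace Cfsg.Agent.H770.QF

open Cfsg Cfsg.Agent.H650.G Cfsg.Agent.H650.G.GU Cfsg.Agent.H24.Q5 Matrix

instance : Fact (Nat.Prime 5) := ⟨by norm_num⟩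

/-- `Q₁` over the field with five elements -/
abbrev P1 : Subgroup (GU (ZMod 5)) := Q1 (ZMod 5)

/-- the coordinates modulo `Z₁` -/
def co (y : P1) : Fin 4 → ZMod 5 := ![y.1.b, y.1.c, y.1.d, y.1.e]

/-- the element with given coordinates -/
def el (v : Fin 4 → ZMod 5) (z : ZMod 5) : P1 := ⟨⟨0, v 0, v 1, v 2, v 3, z⟩, rfl⟩

theorem co_el (v : Fin 4 → ZMod 5) (z : ZMod 5) : co (el v z) = v := by
  ext i; fin_cases i <;> rfl

theorem eq_el (y : P1) : y = el (co y) y.1.z := by
  apply Subtype.ext
  obtain ⟨⟨r, b, c, d, e, z⟩, h⟩ := y
  obtain rfl : r = 0 := h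
  rfl

theorem co_mul (x y : P1) : co (x * y) = co x + co y := by
  have hy : y.1.r = 0 := y.2
  ext i
  fin_cases i
  · show (x.1 * y.1).b = x.1.b + y.1.b
    rw [mul_b, hy]; ring
  · show (x.1 * y.1).c = x.1.c + y.1.c
    rw [mul_c, hy]; ring
  · show (x.1 * y.1).d = x.1.d + y.1.d
    rw [mul_d, hy]; ring
  · rfl

theorem co_one : co 1 = 0 := by
  ext i; fin_cases i <;> rfl

theorem co_inv (y : P1) : co y⁻¹ = - co y := by
  have h := co_mul y y⁻¹
  rw [mul_inv_cancel, co_one] at h
  exact (neg_eq_of_add_eq_zero_right h.symm).symm

/-- the symplectic form -/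
def om (v w : Fin 4 → ZMod 5) : ZMod 5 := v 0 * w 3 - v 3 * w 0 + 3 * (v 1 * w 2 - v 2 * w 1)

theorem comm_eq (x y : P1) : x * y * x⁻¹ * y⁻¹ = el 0 (om (co x) (co y)) := by
  apply Subtype.ext
  have h := comm_Q1 (F := ZMod 5) x.2 y.2
  show x.1 * y.1 * x.1⁻¹ * y.1⁻¹ = _
  rw [h]
  ext
  · rfl
  · rfl
  · rfl
  · rfl
  · rfl
  · show y.1.e * x.1.b - x.1.e * y.1.b + 3 * (x.1.c * y.1.d - x.1.d * y.1.c) =
      x.1.b * y.1.e - x.1.e * y.1.b + 3 * (x.1.c * y.1.d - x.1.d * y.1.c)
    ring

theorem el_mul (v w : Fin 4 → ZMod 5) (s t : ZMod 5) : el v s * el w t = el (v + w) (s + t - v 3 * w 0 - 3 * v 2 * w 1) := by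
  apply Subtype.ext
  show (⟨0, v 0, v 1, v 2, v 3, s⟩ : GU (ZMod 5)) * ⟨0, w 0, w 1, w 2, w 3, t⟩ = _
  ext
  · show (0 : ZMod 5) + 0 = 0
    ring
  · show v 0 - 3 * 0 * v 1 + 3 * 0 ^ 2 * v 2 + v 3 * 0 ^ 3 + w 0 = (v + w) 0
    rw [Pi.add_apply]; ring
  · show v 1 - 2 * 0 * v 2 - v 3 * 0 ^ 2 + w 1 = (v + w) 1
    rw [Pi.add_apply]; ring
  · show v 2 + v 3 * 0 + w 2 = (v + w) 2
    rw [Pi.add_apply]; ring
  · rfl
  · show s + 3 * 0 * v 2 ^ 2 + 3 * v 3 * 0 ^ 2 * v 2 + v 3 ^ 2 * 0 ^ 3 + t - v 3 * w 0 - 3 * (v 2 + v 3 * 0) * w 1 =
      s + t - v 3 * w 0 - 3 * v 2 * w 1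
    ring

theorem el_zero_mul (w : Fin 4 → ZMod 5) (s t : ZMod 5) : el 0 s * el w t = el w (s + t) := by
  rw [el_mul]
  congr 1
  · rw [zero_add]
  · simp

theorem el_inj {v w : Fin 4 → ZMod 5} {s t : ZMod 5} (h : el v s = el w t) : v = w ∧ s = t := by
  refine ⟨?_, ?_⟩
  · have := congrArg co h
    rwa [co_el, co_el] at this
  · exact congrArg (fun y : P1 => y.1.z) h

/-- nondegeneracy -/
theorem om_nondeg {v : Fin 4 → ZMod 5} (h : ∀ w, om v w = 0) : v = 0 := by
  have h0 := h ![0, 0, 0, 1]
  have h1 := h ![0, 0, 1, 0]
  have h2 := h ![0, 1, 0, 0]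
  have h3 := h ![1, 0, 0, 0]
  simp only [om, Matrix.cons_val_zero, Matrix.cons_val_one, Matrix.cons_val, mul_zero, mul_one, sub_zero, zero_sub,
    add_zero, zero_add, neg_eq_zero, mul_neg] at h0 h1 h2 h3
  have h3' : ∀ x : ZMod 5, 3 * x = 0 → x = 0 := by decide
  ext i
  fin_cases i
  · exact h0
  · exact h3' _ h1
  · exact h3' _ h2
  · exact h3

theorem mem_center_iff (y : P1) : y ∈ Subgroup.center P1 ↔ co y = 0 := by
  rw [Subgroup.mem_center_iff]
  constructor
  · intro h
    apply om_nondeg
    intro w
    have h1 := comm_eq y (el w 0)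
    rw [co_el] at h1
    have h2 : y * el w 0 * y⁻¹ * (el w 0)⁻¹ = 1 := by rw [← h (el w 0)]; group
    rw [h2] at h1
    exact (congrArg (fun y : P1 => y.1.z) h1).symm
  · intro h g
    have h1 := comm_eq g y
    rw [h] at h1
    have h2 : om (co g) 0 = 0 := by simp [om]
    rw [h2] at h1
    have h3 : el 0 0 = 1 := rfl
    rw [h3] at h1
    have h4 : g * y = (g * y * g⁻¹ * y⁻¹) * (y * g) := by group
    rw [h4, h1, one_mul]

theorem co_apply_eq_zero (γ : MulAut P1) {y : P1} (h : co y = 0) : co (γ y) = 0 := by
  rw [← mem_center_iff] at h ⊢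
  rw [Subgroup.mem_center_iff] at h ⊢
  intro g
  obtain ⟨g', rfl⟩ := γ.surjective g
  rw [← map_mul, h, map_mul]

/-- `co (γ y)` depends only on `co y` -/
theorem co_apply_congr (γ : MulAut P1) {x y : P1} (h : co x = co y) : co (γ x) = co (γ y) := by
  have h1 : co (x * y⁻¹) = 0 := by rw [co_mul, co_inv, h, add_neg_cancel]
  have h2 := co_apply_eq_zero γ h1
  rw [map_mul, map_inv, co_mul, co_inv] at h2
  exact add_neg_eq_zero.1 h2

/-- the action as an additive map -/
def actA (γ : MulAut P1) : (Fin 4 → ZMod 5) →+ (Fin 4 → ZMod 5) where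
  toFun v := co (γ (el v 0))
  map_zero' := co_apply_eq_zero γ (co_el _ _)
  map_add' v w := by
    rw [← co_mul, ← map_mul]
    apply co_apply_congr
    rw [co_mul, co_el, co_el, co_el]

/-- the matrix of an automorphism -/
noncomputable def actM (γ : MulAut P1) : M5 := LinearMap.toMatrix' ((actA γ).toZModLinearMap 5)

theorem actM_mulVec (γ : MulAut P1) (y : P1) : actM γ *ᵥ co y = co (γ y) := by
  unfold actM
  rw [LinearMap.toMatrix'_mulVec]
  show co (γ (el (co y) 0)) = co (γ y)
  exact co_apply_congr γ (co_el _ _)

theorem ext_mulVec {A B : M5} (h : ∀ y : P1, A *ᵥ co y = B *ᵥ co y) : A = B := by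
  apply Matrix.ext_of_mulVec_single
  intro j
  have := h (el (Pi.single j 1) 0)
  rwa [co_el] at this

theorem actM_eq {γ : MulAut P1} {A : M5} (h : ∀ y : P1, co (γ y) = A *ᵥ co y) : actM γ = A :=
  ext_mulVec fun y => by rw [actM_mulVec, h]

theorem actM_one : actM 1 = 1 := actM_eq fun y => by rw [one_mulVec]; rfl

theorem actM_mul (γ δ : MulAut P1) : actM (γ * δ) = actM γ * actM δ :=
  actM_eq fun y => by rw [← mulVec_mulVec, actM_mulVec, actM_mulVec]; rfl

/-- the action as a homomorphism -/
noncomputable def act : MulAut P1 →* M5ˣ :=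
  MonoidHom.toHomUnits { toFun := actM, map_one' := actM_one, map_mul' := actM_mul }

theorem act_mulVec (γ : MulAut P1) (y : P1) : (act γ : M5) *ᵥ co y = co (γ y) := actM_mulVec γ y

theorem act_eq {γ : MulAut P1} {A : M5ˣ} (h : ∀ y : P1, co (γ y) = (A : M5) *ᵥ co y) : act γ = A :=
  Units.ext (actM_eq h)

/-- the factor on the centre -/
noncomputable def mu (γ : MulAut P1) : ZMod 5 := (γ (el 0 1)).1.z

theorem apply_center (γ : MulAut P1) (t : ZMod 5) : γ (el 0 t) = el 0 (mu γ * t) := by
  have h0 : ∀ t, co (γ (el 0 t)) = 0 := fun t => co_apply_eq_zero γ (co_el _ _)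
  have h1 : ∀ t, γ (el 0 t) = el 0 (γ (el 0 t)).1.z := fun t => by
    conv_lhs => rw [eq_el (γ (el 0 t)), h0]
  -- additivity
  let f : ZMod 5 →+ ZMod 5 :=
    { toFun := fun t => (γ (el 0 t)).1.z
      map_zero' := by
        have : el 0 0 = 1 := rfl
        rw [this, map_one]; rfl
      map_add' := fun s t => by
        have h2 : el 0 (s + t) = el 0 s * el 0 t := by rw [el_zero_mul]
        rw [h2, map_mul, h1 s, h1 t, el_zero_mul]
        rfl }
  have h3 : ∀ t : ZMod 5, f t = mu γ * t := by
    intro t
    have h4 := map_zsmul f t.val 1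
    have h5 : ((t.val : ℤ)) • (1 : ZMod 5) = t := by
      rw [zsmul_eq_mul, mul_one]
      push_cast
      exact ZMod.natCast_zmod_val t
    rw [h5] at h4
    rw [h4, zsmul_eq_mul]
    show _ * mu γ = _
    push_cast
    rw [ZMod.natCast_zmod_val, mul_comm]
  rw [h1]
  congr 1
  exact h3 t

theorem om_apply (γ : MulAut P1) (x y : P1) : om (co (γ x)) (co (γ y)) = mu γ * om (co x) (co y) := by
  have h1 := comm_eq (γ x) (γ y)
  have h2 := congrArg γ (comm_eq x y)
  rw [map_mul, map_mul, map_mul, map_inv, map_inv, apply_center, h1] at h2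
  exact (el_inj h2).2

/-! ### Kernel and image -/

theorem mu_one : mu 1 = 1 := rfl

theorem mu_mul (γ δ : MulAut P1) : mu (γ * δ) = mu γ * mu δ := by
  have h := apply_center γ (mu δ)
  have h1 : (γ * δ) (el 0 1) = γ (el 0 (mu δ)) := by
    show γ (δ (el 0 1)) = _
    rw [apply_center, mul_one]
  have h2 := apply_center (γ * δ) 1
  rw [h1, h, mul_one] at h2
  exact (el_inj h2).2.symm

theorem mu_pow (γ : MulAut P1) (n : ℕ) : mu (γ ^ n) = mu γ ^ n := by
  induction n with
  | zero => rw [pow_zero, pow_zero, mu_one]
  | succ n ih => rw [pow_succ, mu_mul, ih, pow_succ]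

theorem om_eq (v w : Fin 4 → ZMod 5) : om v w = v ⬝ᵥ (Om *ᵥ w) := by
  simp only [om, Om, dotProduct, mulVec, Fin.sum_univ_four, Matrix.of_apply, Matrix.cons_val', Matrix.cons_val_zero,
    Matrix.cons_val_one, Matrix.cons_val, Matrix.cons_val_fin_one]
  ring

theorem iso (γ : MulAut P1) : (act γ : M5)ᵀ * Om * (act γ : M5) = mu γ • Om := by
  apply Matrix.ext
  intro i j
  have h : ∀ v w : Fin 4 → ZMod 5, v ⬝ᵥ (((act γ : M5)ᵀ * Om * (act γ : M5)) *ᵥ w) = v ⬝ᵥ ((mu γ • Om) *ᵥ w) := by
    intro v w
    have h1 := om_apply γ (el v 0) (el w 0)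
    rw [co_el, co_el, ← act_mulVec, ← act_mulVec, co_el, co_el, om_eq, om_eq] at h1
    rw [Matrix.smul_mulVec, dotProduct_smul, smul_eq_mul, ← h1, ← mulVec_mulVec, ← mulVec_mulVec]
    rw [Matrix.dotProduct_mulVec v, Matrix.vecMul_transpose]
  have h2 := h (Pi.single i 1) (Pi.single j 1)
  simpa using h2

theorem iso_of_pow {γ : MulAut P1} (h : (act γ) ^ 5 = 1) : (act γ : M5)ᵀ * Om * (act γ : M5) = Om := by
  have h1 := iso γ
  have h5 := iso (γ ^ 5)
  rw [map_pow, h] at h5
  have h6 : mu (γ ^ 5) = 1 := by
    have h7 := congrFun (congrFun h5 0) 3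
    simp [Om] at h7
    exact h7.symm
  rw [mu_pow] at h6
  have h7 : ∀ x : ZMod 5, x ^ 5 = 1 → x = 1 := by decide
  rw [h1, h7 _ h6, one_smul]

/-- the kernel of the action consists of inner automorphisms -/
theorem mem_inn_of_act {γ : MulAut P1} (h : act γ = 1) : γ ∈ Inn P1 := by
  have hco : ∀ y : P1, co (γ y) = co y := fun y => by
    rw [← act_mulVec, h]; exact one_mulVec _
  have hmu : mu γ = 1 := by
    have h1 := om_apply γ (el ![1, 0, 0, 0] 0) (el ![0, 0, 0, 1] 0)
    rw [hco, hco, co_el, co_el] at h1
    simp [om] at h1
    exact h1.symm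
  -- the difference
  let f : (Fin 4 → ZMod 5) →+ ZMod 5 :=
    { toFun := fun v => (γ (el v 0)).1.z
      map_zero' := by
        have : el 0 0 = 1 := rfl
        rw [this, map_one]; rfl
      map_add' := fun v w => by
        have h2 : ∀ v t, γ (el v t) = el v (t + (γ (el v 0)).1.z) := by
          intro v t
          have h3 : el v t = el 0 t * el v 0 := by rw [el_zero_mul, add_zero]
          rw [h3, map_mul, apply_center, hmu, one_mul]
          conv_lhs => rw [eq_el (γ (el v 0)), hco, co_el]
          rw [el_zero_mul]
        have h4 := congrArg γ (el_mul v w 0 0)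
        have e1 : γ (el v 0) = el v (γ (el v 0)).1.z := by
          have := h2 v 0; rwa [zero_add] at this
        have e2 : γ (el w 0) = el w (γ (el w 0)).1.z := by
          have := h2 w 0; rwa [zero_add] at this
        rw [map_mul, h2 (v + w), e1, e2, el_mul] at h4
        have h5 := (el_inj h4).2
        linear_combination -h5 }
  have hγ : ∀ v t, γ (el v t) = el v (t + f v) := by
    intro v t
    have h3 : el v t = el 0 t * el v 0 := by rw [el_zero_mul, add_zero]
    rw [h3, map_mul, apply_center, hmu, one_mul]
    conv_lhs => rw [eq_el (γ (el v 0)), hco, co_el]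
    rw [el_zero_mul]
    rfl
  have hsm : ∀ (x : ZMod 5) (v : Fin 4 → ZMod 5), f (x • v) = x * f v := by
    intro x v
    have h1 : x • v = (x.val) • v := by
      rw [← ZMod.natCast_zmod_val x, Nat.cast_smul_eq_nsmul, ZMod.natCast_zmod_val]
    rw [h1, map_nsmul, nsmul_eq_mul, ZMod.natCast_zmod_val]
  have hf : ∀ v : Fin 4 → ZMod 5, f v = v 0 * f ![1, 0, 0, 0] + v 1 * f ![0, 1, 0, 0] + v 2 * f ![0, 0, 1, 0] +
      v 3 * f ![0, 0, 0, 1] := by
    intro v
    rw [← hsm, ← hsm, ← hsm, ← hsm, ← map_add, ← map_add, ← map_add]
    congr 1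
    ext i
    (revert i; simp only [_root_.Fin.forall_fin_succ, Fin.isValue, _root_.Matrix.smul_cons, _root_.smul_eq_mul, _root_.mul_one, _root_.MulZeroClass.mul_zero, _root_.Matrix.smul_empty, _root_.Matrix.add_cons, _root_.Matrix.head_cons, _root_.add_zero, _root_.Matrix.tail_cons, _root_.zero_add, _root_.Matrix.empty_add_empty, _root_.Pi.add_apply, _root_.Matrix.cons_val_zero, _root_.Matrix.cons_val_succ, _root_.Fin.succ_zero_eq_one, _root_.Fin.succ_one_eq_two, _root_.Matrix.cons_val_fin_one, Fin.reduceSucc, _root_.IsEmpty.forall_iff, _root_.and_self])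
  set α := f ![1, 0, 0, 0] with hα
  set β := f ![0, 1, 0, 0] with hβ
  set δ := f ![0, 0, 1, 0] with hδ
  set ε := f ![0, 0, 0, 1] with hε
  refine ⟨el ![ε, 2 * δ, -(2 * β), -α] 0, ?_⟩
  ext1 y
  have h1 := comm_eq (el ![ε, 2 * δ, -(2 * β), -α] 0) y
  rw [co_el] at h1
  have h2 : MulAut.conj (el ![ε, 2 * δ, -(2 * β), -α] 0) y =
      (el ![ε, 2 * δ, -(2 * β), -α] 0 * y * (el ![ε, 2 * δ, -(2 * β), -α] 0)⁻¹ * y⁻¹) * y := by
    rw [MulAut.conj_apply]; group
  rw [h2, h1]
  conv_lhs => rw [eq_el y]
  conv_rhs => rw [eq_el y]
  rw [hγ, el_zero_mul]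
  congr 1
  rw [hf (co y), co_el]
  simp only [om, Matrix.cons_val_zero, Matrix.cons_val_one, Matrix.cons_val]
  have h6 : (6 : ZMod 5) = 1 := by decide
  linear_combination (δ * co y 2 + β * co y 1) * h6

theorem act_inn {γ : MulAut P1} (h : γ ∈ Inn P1) : act γ = 1 := by
  obtain ⟨g, rfl⟩ := h
  apply act_eq
  intro y
  rw [MulAut.conj_apply, co_mul, co_mul, co_inv, Units.val_one, one_mulVec]
  abel

theorem act_eq_one_iff {γ : MulAut P1} : act γ = 1 ↔ γ ∈ Inn P1 := ⟨mem_inn_of_act, act_inn⟩

theorem ker_act : act.ker = Inn P1 := by
  ext γ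
  rw [MonoidHom.mem_ker, act_eq_one_iff]

/-! ### Conjugations and torus elements -/

/-- the matrix of a conjugation -/
def mX (r : ZMod 5) : M5 := !![1, 3 * r, 3 * r ^ 2, -r ^ 3; 0, 1, 2 * r, -r ^ 2; 0, 0, 1, -r; 0, 0, 0, 1]

theorem mX_neg_one : mX (-1) = mA := by decide +kernel

/-- conjugation on `Q₁` -/
def cjQ (x : GU (ZMod 5)) : MulAut P1 := MulAut.conjNormal x

theorem cjQ_apply (x : GU (ZMod 5)) (y : P1) : ((cjQ x y : P1) : GU (ZMod 5)) = x * y * x⁻¹ :=
  MulAut.conjNormal_apply x y

theorem act_cjQ_coe (x : GU (ZMod 5)) : (act (cjQ x) : M5) = mX x.r := by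
  refine actM_eq fun y => ?_
  have h := conj_Q1 (F := ZMod 5) x y.2
  rw [← cjQ_apply] at h
  have hb := congrArg GU.b h
  have hc := congrArg GU.c h
  have hd := congrArg GU.d h
  have he := congrArg GU.e h
  simp only at hb hc hd he
  ext i
  fin_cases i
  · show (cjQ x y).1.b = _
    rw [hb]
    simp only [mX, co, mulVec, dotProduct, Fin.sum_univ_four, Matrix.of_apply, Matrix.cons_val', Matrix.cons_val_zero,
      Matrix.cons_val_one, Matrix.cons_val, Matrix.cons_val_fin_one, Fin.zero_eta, Fin.mk_one, Fin.reduceFinMk]
    ring
  · show (cjQ x y).1.c = _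
    rw [hc]
    simp only [mX, co, mulVec, dotProduct, Fin.sum_univ_four, Matrix.of_apply, Matrix.cons_val', Matrix.cons_val_zero,
      Matrix.cons_val_one, Matrix.cons_val, Matrix.cons_val_fin_one, Fin.zero_eta, Fin.mk_one, Fin.reduceFinMk]
    ring
  · show (cjQ x y).1.d = _
    rw [hd]
    simp only [mX, co, mulVec, dotProduct, Fin.sum_univ_four, Matrix.of_apply, Matrix.cons_val', Matrix.cons_val_zero,
      Matrix.cons_val_one, Matrix.cons_val, Matrix.cons_val_fin_one, Fin.zero_eta, Fin.mk_one, Fin.reduceFinMk]
    ring
  · show (cjQ x y).1.e = _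
    rw [he]
    simp only [mX, co, mulVec, dotProduct, Fin.sum_univ_four, Matrix.of_apply, Matrix.cons_val', Matrix.cons_val_zero,
      Matrix.cons_val_one, Matrix.cons_val, Matrix.cons_val_fin_one, Fin.zero_eta, Fin.mk_one, Fin.reduceFinMk]
    ring

theorem act_cjQ_x1 : act (cjQ (x1 (-1))) = gA := Units.ext (by
  rw [act_cjQ_coe]; exact mX_neg_one)

theorem gA_pow_coe : ∀ k : Fin 5, ((gA ^ (k : ℕ) : M5ˣ) : M5) = mX (-(k : ℕ)) := by
  intro k
  rw [Units.val_pow_eq_pow_val]
  show mA ^ (k : ℕ) = _
  (revert k; decide +kernel)

theorem gA_pow_five : gA ^ 5 = 1 := Units.ext (by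
  rw [Units.val_pow_eq_pow_val]; exact mA5)

theorem exists_gA_pow (r : ZMod 5) : ∃ k : ℕ, ((gA ^ k : M5ˣ) : M5) = mX r := by
  refine ⟨(-r).val, ?_⟩
  have h := gA_pow_coe ⟨(-r).val, ZMod.val_lt _⟩
  rw [h]
  congr 1
  simp

theorem act_cjQ (x : GU (ZMod 5)) : ∃ k : ℕ, act (cjQ x) = gA ^ k := by
  obtain ⟨k, hk⟩ := exists_gA_pow x.r
  exact ⟨k, Units.ext (by rw [act_cjQ_coe, hk])⟩

theorem mem_zpowers_iff {g : M5ˣ} : g ∈ Subgroup.zpowers gA ↔ ∃ k : ℕ, g = gA ^ k := by
  constructor
  · intro h
    have hf : IsOfFinOrder gA := isOfFinOrder_iff_pow_eq_one.2 ⟨5, by norm_num, gA_pow_five⟩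
    obtain ⟨k, hk⟩ := (hf.mem_powers_iff_mem_zpowers).2 h
    exact ⟨k, hk.symm⟩
  · rintro ⟨k, rfl⟩
    exact Subgroup.npow_mem_zpowers _ _

theorem gA_ne_one : gA ≠ 1 := fun h => by
  have h1 := congrArg (fun u : M5ˣ => (u : M5) 0 1) h
  revert h1
  decide +kernel

theorem orderOf_gA : orderOf gA = 5 := orderOf_eq_prime gA_pow_five gA_ne_one

/-- the diagonal matrix of a torus element -/
def mT (s t : ZMod 5) : M5 := !![s ^ 3 * t, 0, 0, 0; 0, s ^ 2 * t, 0, 0; 0, 0, s * t, 0; 0, 0, 0, t]

/-- `γ` is the restriction of `α` -/
def IsRes (α : GU (ZMod 5) ≃* GU (ZMod 5)) (γ : MulAut P1) : Prop := ∀ y : P1, ((γ y : P1) : GU (ZMod 5)) = α y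

theorem act_tor {s t : (ZMod 5)ˣ} {γ : MulAut P1} (h : IsRes (tor s t) γ) : (act γ : M5) = mT s t := by
  refine actM_eq fun y => ?_
  have h1 := h y
  ext i
  fin_cases i
  · show (γ y).1.b = _
    rw [h1]
    show (s : ZMod 5) ^ 3 * t * y.1.b = _
    simp only [mT, co, mulVec, dotProduct, Fin.sum_univ_four, Matrix.of_apply, Matrix.cons_val', Matrix.cons_val_zero,
      Matrix.cons_val_one, Matrix.cons_val, Matrix.cons_val_fin_one, Fin.zero_eta, Fin.mk_one, Fin.reduceFinMk]
    ring
  · show (γ y).1.c = _
    rw [h1]
    show (s : ZMod 5) ^ 2 * t * y.1.c = _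
    simp only [mT, co, mulVec, dotProduct, Fin.sum_univ_four, Matrix.of_apply, Matrix.cons_val', Matrix.cons_val_zero,
      Matrix.cons_val_one, Matrix.cons_val, Matrix.cons_val_fin_one, Fin.zero_eta, Fin.mk_one, Fin.reduceFinMk]
    ring
  · show (γ y).1.d = _
    rw [h1]
    show (s : ZMod 5) * t * y.1.d = _
    simp only [mT, co, mulVec, dotProduct, Fin.sum_univ_four, Matrix.of_apply, Matrix.cons_val', Matrix.cons_val_zero,
      Matrix.cons_val_one, Matrix.cons_val, Matrix.cons_val_fin_one, Fin.zero_eta, Fin.mk_one, Fin.reduceFinMk]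
    ring
  · show (γ y).1.e = _
    rw [h1]
    show (t : ZMod 5) * y.1.e = _
    simp only [mT, co, mulVec, dotProduct, Fin.sum_univ_four, Matrix.of_apply, Matrix.cons_val', Matrix.cons_val_zero,
      Matrix.cons_val_one, Matrix.cons_val, Matrix.cons_val_fin_one, Fin.zero_eta, Fin.mk_one, Fin.reduceFinMk]
    ring

theorem tor_mul (s t s' t' : (ZMod 5)ˣ) : (tor s t : MulAut (GU (ZMod 5))) * tor s' t' = tor (s * s') (t * t') := by
  ext1 x
  show tor s t (tor s' t' x) = tor (s * s') (t * t') x
  ext
  · show (s : ZMod 5) * (s' * x.r) = ((s * s' : (ZMod 5)ˣ) : ZMod 5) * x.r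
    push_cast; ring
  · show (s : ZMod 5) ^ 3 * t * ((s' : ZMod 5) ^ 3 * t' * x.b) =
      ((s * s' : (ZMod 5)ˣ) : ZMod 5) ^ 3 * ((t * t' : (ZMod 5)ˣ) : ZMod 5) * x.b
    push_cast; ring
  · show (s : ZMod 5) ^ 2 * t * ((s' : ZMod 5) ^ 2 * t' * x.c) =
      ((s * s' : (ZMod 5)ˣ) : ZMod 5) ^ 2 * ((t * t' : (ZMod 5)ˣ) : ZMod 5) * x.c
    push_cast; ring
  · show (s : ZMod 5) * t * ((s' : ZMod 5) * t' * x.d) =
      ((s * s' : (ZMod 5)ˣ) : ZMod 5) * ((t * t' : (ZMod 5)ˣ) : ZMod 5) * x.d
    push_cast; ring
  · show (t : ZMod 5) * (t' * x.e) = ((t * t' : (ZMod 5)ˣ) : ZMod 5) * x.e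
    push_cast; ring
  · show (s : ZMod 5) ^ 3 * t ^ 2 * ((s' : ZMod 5) ^ 3 * t' ^ 2 * x.z) =
      ((s * s' : (ZMod 5)ˣ) : ZMod 5) ^ 3 * ((t * t' : (ZMod 5)ˣ) : ZMod 5) ^ 2 * x.z
    push_cast; ring

end Cfsg.Agent.H770.QF
end

-- part: H770/QF/Par
section
/-!
# S5211, block q = 5: from the automizer of `Q₁` to the matrix block (helper770)

* `stM_of` : assembly of the matrix block;
* `Par5 Γ D` : the properties of `Γ = Aut_F(Q₁)`; `Par5.hyp : Hyp (Lo Γ)`;
* `Par5.classify` : the five possible orders; `Par5.uniq` : `Γ`, `D` are determined by the order; `Par5.card_Γ`.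
-/

set_option autoImplicit false

namespace Cfsg.Agent.H770.QF

open Cfsg Cfsg.Agent.H650.G Cfsg.Agent.H650.G.GU Cfsg.Agent.H24.Q5 Matrix Cfsg.Agent.H756.PU

theorem closure_le {L : Subgroup M5ˣ} (hL : Hyp L) {g : M5ˣ} (hg : g ∈ L) : Subgroup.closure {gA, g} ≤ L := by
  rw [Subgroup.closure_le]
  rintro x (rfl | rfl)
  · exact hL.memA
  · exact hg

theorem eq_of_card {L X : Subgroup M5ˣ} (h : X ≤ L) {n : ℕ} (h1 : n ≤ Nat.card X) (h2 : Nat.card L = n) : L = X :=
  (Subgroup.eq_of_le_of_card_ge h (h2.le.trans h1)).symm

/-- **The matrix block.** -/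
theorem stM_of (hM2 : StM2) (hM3 : StM3) (hM4 : StM4) (hM5 : StM5) (hM6 : StM6) : StM := by
  intro L hL
  obtain ⟨⟨cS, cR, cC, cB, cP⟩, ⟨nS, nR, nC, nB, nP⟩, -, -, -, hP⟩ := hM6
  have hX : ∃ X : Subgroup M5ˣ, X ≤ L ∧ -1 ∈ X ∧ ((X = LS ∧ 120 ≤ Nat.card X) ∨ (X = LP ∧ 120 ≤ Nat.card X) ∨
      160 ≤ Nat.card X) := by
    rcases hM2 L hL with h | h | h | h | h
    · exact ⟨LS, closure_le hL h, nS, Or.inl ⟨rfl, cS⟩⟩
    · exact ⟨LR, closure_le hL h, nR, Or.inr (Or.inr cR)⟩
    · exact ⟨LC, closure_le hL h, nC, Or.inr (Or.inr (by omega))⟩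
    · exact ⟨LB, closure_le hL h, nB, Or.inr (Or.inr (by omega))⟩
    · exact ⟨LP, closure_le hL h, nP, Or.inr (Or.inl ⟨rfl, cP⟩)⟩
  obtain ⟨X, hXL, hX1, hXc⟩ := hX
  have h1 : (-1 : M5ˣ) ∈ L := hXL hX1
  rcases hM3 L hL h1 with ⟨R, hRL, hRn, hR32, hR1, hRsq, hRc, hRA, hRh, hcard⟩ | hc | hc
  · have hR2 : ∀ r ∈ R, gh2 * r * gh2⁻¹ ∈ R := by
      classical
      -- the conjugation on `L`
      let f : L → L := fun g => ⟨gh2 * g * gh2⁻¹, hL.h2 g g.2⟩
      have hf : Function.Injective f := by
        intro a b hab
        have h2 : gh2 * (a : M5ˣ) * gh2⁻¹ = gh2 * b * gh2⁻¹ := (congrArg Subtype.val hab :)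
        exact Subtype.ext (mul_left_cancel (mul_right_cancel h2))
      have hf2 : Function.Surjective f := Finite.surjective_of_injective hf
      let A : Set L := {g | (g : M5ˣ) ∈ R}
      have hA : f ⁻¹' A ⊆ A := fun g hg => hRh g g.2 hg
      have hA2 : (f ⁻¹' A) = A := by
        apply Set.eq_of_subset_of_ncard_le hA
        rw [Set.ncard_preimage_of_injective_subset_range hf]
        intro x _
        exact hf2 x
      intro r hr
      have h3 : (⟨r, hRL hr⟩ : L) ∈ f ⁻¹' A := by rw [hA2]; exact hr
      exact h3
    obtain ⟨hLR, hLB⟩ := hM4 L R hL hRL hRn hR32 hR1 hRsq hRc hRA hR2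
    rcases hcard with hc | hc
    · exact Or.inr (Or.inl ⟨hc, hLR hc⟩)
    · exact Or.inr (Or.inr (Or.inr ⟨hc, hLB hc⟩))
  · left
    refine ⟨hc, ?_⟩
    rcases hXc with ⟨rfl, h2⟩ | ⟨rfl, h2⟩ | h2
    · exact eq_of_card hXL h2 hc
    · exfalso
      have h3 := eq_of_card hXL h2 hc
      exact hL.irr2 fun g hg => hP g (h3 ▸ hg)
    · exfalso
      have h3 := Subgroup.card_le_of_le hXL
      omega
  · right; right; left
    exact ⟨hc, eq_of_card (closure_le hL (hM5 L hL hc)) cC hc⟩

/-! ### The automizer of `Q₁` -/

/-- the automizer `Γ` of `Q₁` and the `5'`-part `D` of the automizer of `S` -/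
structure Par0 (Γ : Subgroup (MulAut P1)) (D : Subgroup (MulAut (GU (ZMod 5)))) : Prop where
  indu : autInducedBy ⊤ P1 ≤ Γ
  syl : ∀ P : Subgroup (MulAut P1), P ≤ Γ → IsPGroup 5 P → ∃ g ∈ Γ, ∀ x ∈ P, g * x * g⁻¹ ∈ autInducedBy ⊤ P1
  D_tor : ∀ d ∈ D, ∃ s t : (ZMod 5)ˣ, d = tor s t
  D_res : ∀ d ∈ D, ∀ γ : MulAut P1, IsRes d γ → γ ∈ Γ
  norm : ∀ γ ∈ Γ, NormAut ⊤ γ → ∃ x : GU (ZMod 5), ∃ d ∈ D, ∀ e : P1, ((γ e : P1) : GU (ZMod 5)) = x * d e * x⁻¹

/-- the core-free case -/
structure Par5 (Γ : Subgroup (MulAut P1)) (D : Subgroup (MulAut (GU (ZMod 5)))) : Prop extends Par0 Γ D where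
  htor : ∀ t : (ZMod 5)ˣ, tor t⁻¹ (t ^ 2) ∈ D
  nZ2 : ¬ ∀ γ ∈ Γ, ∀ y : P1, (y : GU (ZMod 5)) ∈ Z2 (ZMod 5) → ((γ y : P1) : GU (ZMod 5)) ∈ Z2 (ZMod 5)
  nZ3 : ¬ ∀ γ ∈ Γ, ∀ y : P1, (y : GU (ZMod 5)) ∈ Z3 (ZMod 5) → ((γ y : P1) : GU (ZMod 5)) ∈ Z3 (ZMod 5)

/-! ### The induced automorphisms -/

theorem autInd_eq : autInducedBy (⊤ : Subgroup (GU (ZMod 5))) P1 = (MulAut.conjNormal : GU (ZMod 5) →* MulAut P1).range := by
  apply le_antisymm
  · unfold autInducedBy
    rw [Subgroup.closure_le]
    rintro α ⟨g, -, hg⟩
    refine ⟨g, ?_⟩
    ext1 x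
    apply Subtype.ext
    rw [MulAut.conjNormal_apply, hg]
  · rintro _ ⟨g, rfl⟩
    exact Subgroup.subset_closure ⟨g, trivial, fun x => MulAut.conjNormal_apply g x⟩

theorem cjQ_mem (x : GU (ZMod 5)) : cjQ x ∈ autInducedBy (⊤ : Subgroup (GU (ZMod 5))) P1 := by
  rw [autInd_eq]; exact ⟨x, rfl⟩

theorem inn_le : Inn P1 ≤ autInducedBy (⊤ : Subgroup (GU (ZMod 5))) P1 := by
  rintro _ ⟨g, rfl⟩
  have h : MulAut.conj g = cjQ g := by
    ext1 y
    apply Subtype.ext
    rw [cjQ_apply]
    rfl
  rw [h]; exact cjQ_mem _

/-- `Aut_S(Q₁)` is the preimage of `⟨gA⟩` -/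
theorem mem_autInd_iff {γ : MulAut P1} :
    γ ∈ autInducedBy (⊤ : Subgroup (GU (ZMod 5))) P1 ↔ act γ ∈ Subgroup.zpowers gA := by
  rw [mem_zpowers_iff]
  constructor
  · rw [autInd_eq]
    rintro ⟨x, rfl⟩
    exact act_cjQ x
  · rintro ⟨k, hk⟩
    have h1 : act ((cjQ (x1 (-1))) ^ k) = gA ^ k := by rw [map_pow, act_cjQ_x1]
    have h2 : act (γ * ((cjQ (x1 (-1))) ^ k)⁻¹) = 1 := by rw [map_mul, map_inv, h1, hk, mul_inv_cancel]
    have h3 := inn_le (mem_inn_of_act h2)
    have h4 : γ = γ * ((cjQ (x1 (-1))) ^ k)⁻¹ * (cjQ (x1 (-1))) ^ k := by group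
    rw [h4]
    exact Subgroup.mul_mem _ h3 (Subgroup.pow_mem _ (cjQ_mem _) _)

namespace Par0

variable {Γ : Subgroup (MulAut P1)} {D : Subgroup (MulAut (GU (ZMod 5)))} (h : Par0 Γ D)

/-- the group generated by the elements of order five -/
noncomputable def Lo (Γ : Subgroup (MulAut P1)) : Subgroup M5ˣ := Subgroup.closure {g | g ∈ Γ.map act ∧ g ^ 5 = 1}

theorem Lo_le : Lo Γ ≤ Γ.map act := by
  unfold Lo
  rw [Subgroup.closure_le]
  exact fun g hg => hg.1

theorem mem_Lo {g : M5ˣ} (hg : g ∈ Γ.map act) (h5 : g ^ 5 = 1) : g ∈ Lo Γ := Subgroup.subset_closure ⟨hg, h5⟩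

theorem Lo_conj {g x : M5ˣ} (hg : g ∈ Γ.map act) (hx : x ∈ Lo Γ) : g * x * g⁻¹ ∈ Lo Γ := by
  unfold Lo at hx
  induction hx using Subgroup.closure_induction with
  | mem x hx =>
    apply mem_Lo
    · exact Subgroup.mul_mem _ (Subgroup.mul_mem _ hg hx.1) (Subgroup.inv_mem _ hg)
    · rw [conj_pow, hx.2, mul_one, mul_inv_cancel]
  | one => rw [mul_one, mul_inv_cancel]; exact Subgroup.one_mem _
  | mul x y _ _ hx hy =>
    have h1 : g * (x * y) * g⁻¹ = (g * x * g⁻¹) * (g * y * g⁻¹) := by group
    rw [h1]; exact Subgroup.mul_mem _ hx hy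
  | inv x _ hx =>
    have h1 : g * x⁻¹ * g⁻¹ = (g * x * g⁻¹)⁻¹ := by group
    rw [h1]; exact Subgroup.inv_mem _ hx

theorem iso_mul {A B : M5} (hA : Aᵀ * Om * A = Om) (hB : Bᵀ * Om * B = Om) : (A * B)ᵀ * Om * (A * B) = Om := by
  rw [Matrix.transpose_mul]
  calc Bᵀ * Aᵀ * Om * (A * B) = Bᵀ * (Aᵀ * Om * A) * B := by simp only [Matrix.mul_assoc]
    _ = Om := by rw [hA, hB]

theorem iso_of_mem {g : M5ˣ} (hg : g ∈ Lo Γ) : (g : M5)ᵀ * Om * g = Om := by
  unfold Lo at hg
  induction hg using Subgroup.closure_induction with
  | mem x hx =>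
    obtain ⟨⟨γ, -, rfl⟩, h5⟩ := hx
    exact iso_of_pow h5
  | one => simp
  | mul x y _ _ hx hy => exact iso_mul hx hy
  | inv x _ hx =>
    have h1 : ((x⁻¹ : M5ˣ) : M5)ᵀ * Om * ((x⁻¹ : M5ˣ) : M5) =
        ((x : M5) * ((x⁻¹ : M5ˣ) : M5))ᵀ * Om * ((x : M5) * ((x⁻¹ : M5ˣ) : M5)) := by
      rw [Matrix.transpose_mul]
      calc ((x⁻¹ : M5ˣ) : M5)ᵀ * Om * ((x⁻¹ : M5ˣ) : M5) =
          ((x⁻¹ : M5ˣ) : M5)ᵀ * ((x : M5)ᵀ * Om * x) * ((x⁻¹ : M5ˣ) : M5) := by rw [hx]
        _ = _ := by simp only [Matrix.mul_assoc]
    rw [h1, Units.mul_inv]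
    simp

include h

theorem gA_mem_map : gA ∈ Γ.map act := ⟨_, h.indu (cjQ_mem _), act_cjQ_x1⟩

theorem gA_mem : gA ∈ Lo Γ := mem_Lo h.gA_mem_map gA_pow_five

/-- every 5-subgroup is conjugate into `⟨gA⟩` -/
theorem syl' (P : Subgroup M5ˣ) (hP : P ≤ Γ.map act) (hP5 : IsPGroup 5 P) :
    ∃ g ∈ Γ.map act, ∀ x ∈ P, g * x * g⁻¹ ∈ Subgroup.zpowers gA := by
  have hfin : Finite (MulAut P1) := inferInstance
  -- the preimage
  have hker : IsPGroup 5 act.ker := by
    rw [ker_act]
    have h1 : IsPGroup 5 (⊤ : Subgroup P1) := by
      apply IsPGroup.of_card (n := 5)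
      rw [Subgroup.card_top, card_Q1, Nat.card_eq_fintype_card, ZMod.card]
    have h2 := h1.map (MulAut.conj : P1 →* MulAut P1)
    rwa [← MonoidHom.range_eq_map] at h2
  have h1 : IsPGroup 5 (P.comap act) := hP5.comap_of_ker_isPGroup act hker
  have h2 : IsPGroup 5 (P.comap act ⊓ Γ : Subgroup (MulAut P1)) := h1.to_le inf_le_left
  obtain ⟨g, hg, h3⟩ := h.syl _ inf_le_right h2
  refine ⟨act g, ⟨g, hg, rfl⟩, ?_⟩
  intro x hx
  obtain ⟨γ, hγ, rfl⟩ := hP hx
  have h4 := h3 γ ⟨hx, hγ⟩
  rw [mem_autInd_iff, map_mul, map_mul, map_inv] at h4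
  exact h4

theorem card25 : ¬ 25 ∣ Nat.card (Lo Γ) := by
  intro h25
  have h5 : Fact (Nat.Prime 5) := ⟨by norm_num⟩
  obtain ⟨P, hP⟩ := Sylow.exists_subgroup_card_pow_prime 5 (n := 2) (G := Lo Γ) (by simpa only [_root_.Nat.reducePow] using h25)
  have hP5 : IsPGroup 5 (P.map (Lo Γ).subtype) := (IsPGroup.of_card hP).map _
  have hle : P.map (Lo Γ).subtype ≤ Γ.map act := (Subgroup.map_subtype_le P).trans Lo_le
  obtain ⟨g, -, hg⟩ := h.syl' _ hle hP5
  have hc : Nat.card (P.map (Lo Γ).subtype) = 25 := by
    rw [Subgroup.card_map_of_injective (Subgroup.subtype_injective _), hP]; norm_num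
  have hc2 : Nat.card (P.map (Lo Γ).subtype) ≤ Nat.card (Subgroup.zpowers gA) :=
    Nat.card_le_card_of_injective (fun x => (⟨g * x * g⁻¹, hg x x.2⟩ : Subgroup.zpowers gA)) (by
      intro a b hab
      have h1 : g * (a : M5ˣ) * g⁻¹ = g * b * g⁻¹ := congrArg Subtype.val hab
      exact Subtype.ext (mul_left_cancel (mul_right_cancel h1)))
  rw [hc, Nat.card_zpowers, orderOf_gA] at hc2
  omega

/-- Frattini argument -/
theorem frattini {g : M5ˣ} (hg : g ∈ Γ.map act) : ∃ l ∈ Lo Γ, ∃ k : ℕ, (l * g) * gA * (l * g)⁻¹ = gA ^ k := by
  have h5 : Fact (Nat.Prime 5) := ⟨by norm_num⟩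
  set L := Lo Γ with hL
  have hgA : gA ∈ L := h.gA_mem
  have hgg : g * gA * g⁻¹ ∈ L := Lo_conj hg hgA
  let a : L := ⟨gA, hgA⟩
  let b : L := ⟨g * gA * g⁻¹, hgg⟩
  have ha : orderOf a = 5 := by
    rw [← Subgroup.orderOf_coe]; exact orderOf_gA
  have hb : orderOf b = 5 := by
    rw [← Subgroup.orderOf_coe]
    show orderOf (g * gA * g⁻¹) = 5
    apply orderOf_eq_prime
    · rw [conj_pow, gA_pow_five, mul_one, mul_inv_cancel]
    · intro h1
      apply gA_ne_one
      have h2 : gA = g⁻¹ * (g * gA * g⁻¹) * g := by group
      rw [h2, h1]; group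
  have hpa : IsPGroup 5 (Subgroup.zpowers a) := IsPGroup.of_card (n := 1) (by rw [Nat.card_zpowers, ha]; norm_num)
  have hpb : IsPGroup 5 (Subgroup.zpowers b) := IsPGroup.of_card (n := 1) (by rw [Nat.card_zpowers, hb]; norm_num)
  obtain ⟨A, hA⟩ := hpa.exists_le_sylow
  obtain ⟨B, hB⟩ := hpb.exists_le_sylow
  -- the order of a Sylow subgroup
  have hcard : ∀ Q : Sylow 5 L, ∀ c : L, orderOf c = 5 → Subgroup.zpowers c ≤ Q → (Q : Subgroup L) = Subgroup.zpowers c := by
    intro Q c hc hcQ
    symm
    apply Subgroup.eq_of_le_of_card_ge hcQ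
    rw [Nat.card_zpowers, hc]
    obtain ⟨n, hn⟩ := IsPGroup.iff_card.1 Q.isPGroup'
    have h1 : n ≤ 1 := by
      by_contra h2
      apply h.card25
      rw [← hL]
      refine Dvd.dvd.trans ?_ (Subgroup.card_subgroup_dvd_card (Q : Subgroup L))
      rw [hn]
      exact pow_dvd_pow 5 (show 2 ≤ n by omega)
    rw [hn]
    calc 5 ^ n ≤ 5 ^ 1 := Nat.pow_le_pow_right (by norm_num) h1
      _ = 5 := by norm_num
  have hAe := hcard A a ha hA
  have hBe := hcard B b hb hB
  obtain ⟨l, hl⟩ := MulAction.exists_smul_eq L B A
  refine ⟨l, l.2, ?_⟩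
  have h1 : l * b * l⁻¹ ∈ (A : Subgroup L) := by
    rw [← hl]
    have h2 : b ∈ (B : Subgroup L) := hB (Subgroup.mem_zpowers b)
    exact Sylow.smul_def (g := l) (P := B) ▸ Subgroup.smul_mem_pointwise_smul b (MulAut.conj l) _ h2
  rw [hAe] at h1
  obtain ⟨k, hk⟩ := Subgroup.mem_zpowers_iff.1 h1
  have h3 : ((l : L) : M5ˣ) * g * gA * (((l : L) : M5ˣ) * g)⁻¹ ∈ Subgroup.zpowers gA := by
    refine ⟨k, ?_⟩
    have h4 : ((a ^ k : L) : M5ˣ) = ((l * b * l⁻¹ : L) : M5ˣ) := congrArg Subtype.val hk
    show gA ^ k = _
    have h5 : ((a ^ k : L) : M5ˣ) = gA ^ k := by rw [Subgroup.coe_zpow]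
    rw [← h5, h4]
    show (l : M5ˣ) * (g * gA * g⁻¹) * (l : M5ˣ)⁻¹ = _
    group
  exact mem_zpowers_iff.1 h3

/-- elements of `Γ` normalizing `⟨gA⟩` -/
theorem norm' {γ : MulAut P1} (hγ : γ ∈ Γ) (hk : ∃ k : ℕ, act γ * gA * (act γ)⁻¹ = gA ^ k) :
    ∃ (k : ℕ) (s t : (ZMod 5)ˣ), tor s t ∈ D ∧ (act γ : M5) = ((gA ^ k : M5ˣ) : M5) * mT s t := by
  obtain ⟨k, hk⟩ := hk
  have hn : NormAut ⊤ γ := by
    intro x hx
    rw [mem_autInd_iff] at hx ⊢
    obtain ⟨j, hj⟩ := mem_zpowers_iff.1 hx
    rw [map_mul, map_mul, map_inv, hj]
    rw [mem_zpowers_iff]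
    refine ⟨k * j, ?_⟩
    rw [← conj_pow, hk, ← pow_mul]
  obtain ⟨x, d, hd, hx⟩ := h.norm γ hγ hn
  obtain ⟨s, t, rfl⟩ := h.D_tor d hd
  obtain ⟨j, hj⟩ := act_cjQ x
  refine ⟨j, s, t, hd, ?_⟩
  -- the restriction of the torus element
  let δ : MulAut P1 := (cjQ x)⁻¹ * γ
  have hδ : IsRes (tor s t) δ := by
    intro y
    have h1 : (cjQ x) (δ y) = γ y := by
      show (cjQ x) ((cjQ x)⁻¹ (γ y)) = γ y
      exact (cjQ x).apply_symm_apply _
    have h2 := cjQ_apply x (δ y)
    rw [h1, hx] at h2
    exact (mul_left_cancel (mul_right_cancel h2)).symm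
  have h3 : γ = cjQ x * δ := by
    show γ = cjQ x * ((cjQ x)⁻¹ * γ); group
  rw [h3, map_mul, hj, Units.val_mul, act_tor hδ]

omit h in
/-- products of a unipotent and a diagonal matrix -/
theorem shape {k : ℕ} {s t : (ZMod 5)ˣ} {A : M5} (hA : A = ((gA ^ k : M5ˣ) : M5) * mT s t) :
    A 1 0 = 0 ∧ A 2 0 = 0 ∧ A 3 0 = 0 ∧ A 2 1 = 0 ∧ A 3 1 = 0 ∧ A 3 2 = 0 ∧
      A 0 0 = s ^ 3 * t ∧ A 1 1 = s ^ 2 * t ∧ A 2 2 = s * t ∧ A 3 3 = t := by
  have h1 : ∃ r, ((gA ^ k : M5ˣ) : M5) = mX r := by
    refine ⟨-((k % 5 : ℕ) : ZMod 5), ?_⟩
    have h2 : gA ^ k = gA ^ (k % 5) := by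
      conv_lhs => rw [← Nat.mod_add_div k 5, pow_add, pow_mul, gA_pow_five, one_pow, mul_one]
    rw [h2]
    exact gA_pow_coe ⟨k % 5, Nat.mod_lt _ (by norm_num)⟩
  obtain ⟨r, hr⟩ := h1
  rw [hA, hr]
  refine ⟨?_, ?_, ?_, ?_, ?_, ?_, ?_, ?_, ?_, ?_⟩ <;>
    simp [mX, mT, Matrix.mul_apply, Fin.sum_univ_four]

end Par0

/-- the restriction of a torus element to `Q₁` -/
def resT (s t : (ZMod 5)ˣ) : MulAut P1 where
  toFun y := ⟨tor s t y, by
    have h : y.1.r = 0 := y.2
    show (s : ZMod 5) * y.1.r = 0
    rw [h, mul_zero]⟩
  invFun y := ⟨(tor s t).symm y, by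
    have h : y.1.r = 0 := y.2
    show ((s⁻¹ : (ZMod 5)ˣ) : ZMod 5) * y.1.r = 0
    rw [h, mul_zero]⟩
  left_inv y := Subtype.ext ((tor s t).symm_apply_apply _)
  right_inv y := Subtype.ext ((tor s t).apply_symm_apply _)
  map_mul' x y := Subtype.ext (map_mul (tor s t) _ _)

theorem resT_isRes (s t : (ZMod 5)ˣ) : IsRes (tor s t) (resT s t) := fun _ => rfl

theorem act_resT (s t : (ZMod 5)ˣ) : (act (resT s t) : M5) = mT s t := act_tor (resT_isRes s t)

/-- conjugation of `gA` by a torus element -/
theorem resT_conj (s t : (ZMod 5)ˣ) : act (resT s t) * gA * (act (resT s t))⁻¹ = gA ^ (s : ZMod 5).val := by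
  rw [mul_inv_eq_iff_eq_mul]
  apply Units.ext
  rw [Units.val_mul, Units.val_mul, act_resT]
  have h1 := gA_pow_coe ⟨(s : ZMod 5).val, ZMod.val_lt _⟩
  have h2 : (-((((⟨(s : ZMod 5).val, ZMod.val_lt _⟩ : Fin 5) : ℕ) : ZMod 5))) = -(s : ZMod 5) := by
    simp
  rw [h2] at h1
  have h3 : (((⟨(s : ZMod 5).val, ZMod.val_lt _⟩ : Fin 5) : ℕ)) = (s : ZMod 5).val := rfl
  rw [h3] at h1
  rw [h1]
  have h4 : (gA : M5) = mX (-1) := mX_neg_one.symm
  rw [h4]
  generalize (s : ZMod 5) = a
  generalize (t : ZMod 5) = b
  revert a b
  decide +kernel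

namespace Par0

variable {Γ : Subgroup (MulAut P1)} {D : Subgroup (MulAut (GU (ZMod 5)))} (h : Par0 Γ D)

include h

theorem resT_mem {s t : (ZMod 5)ˣ} (hd : tor s t ∈ D) : resT s t ∈ Γ := h.D_res _ hd _ (resT_isRes s t)

/-- the matrix of an element of `Γ` is a product -/
theorem exists_prod {γ : MulAut P1} (hγ : γ ∈ Γ) : ∃ l ∈ Lo Γ, ∃ (s t : (ZMod 5)ˣ), tor s t ∈ D ∧
    act γ = l * act (resT s t) := by
  obtain ⟨l, hl, hk⟩ := h.frattini ⟨γ, hγ, rfl⟩
  obtain ⟨γ', hγ', rfl⟩ := Lo_le hl
  rw [← map_mul] at hk
  obtain ⟨k, s, t, hd, hm⟩ := h.norm' (Γ.mul_mem hγ' hγ) hk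
  refine ⟨(act γ')⁻¹ * gA ^ k, Subgroup.mul_mem _ (Subgroup.inv_mem _ hl) (Subgroup.pow_mem _ h.gA_mem _), s, t, hd, ?_⟩
  have h1 : act (γ' * γ) = gA ^ k * act (resT s t) := by
    apply Units.ext
    rw [hm, Units.val_mul, act_resT]
  rw [map_mul] at h1
  rw [mul_assoc, ← h1]
  group

end Par0

namespace Par5

open Par0

variable {Γ : Subgroup (MulAut P1)} {D : Subgroup (MulAut (GU (ZMod 5)))} (h : Par5 Γ D)

include h

theorem gh2_mem : gh2 ∈ Γ.map act := by
  let u : (ZMod 5)ˣ := ⟨2, 3, by decide, by decide⟩
  have h1 := h.resT_mem (h.htor u)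
  refine ⟨_, h1, ?_⟩
  apply Units.ext
  rw [act_resT]
  show mT ((u⁻¹ : (ZMod 5)ˣ) : ZMod 5) ((u ^ 2 : (ZMod 5)ˣ) : ZMod 5) = mh2
  decide +kernel

theorem hyp : Hyp (Lo Γ) where
  iso _ hg := iso_of_mem hg
  memA := h.gA_mem
  card := h.card25
  gen := by
    have h1 : Lo Γ ≤ Subgroup.closure {g | g ∈ Lo Γ ∧ g ^ 5 = 1} := by
      conv_lhs => unfold Lo
      rw [Subgroup.closure_le]
      intro g hg
      exact Subgroup.subset_closure ⟨mem_Lo hg.1 hg.2, hg.2⟩
    exact h1
  h2 g hg := Lo_conj h.gh2_mem hg
  irr1 := by
    intro hs
    apply h.nZ2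
    intro γ hγ y hy
    obtain ⟨l, hl, s, t, -, hm⟩ := h.exists_prod hγ
    obtain ⟨a1, a2, a3⟩ := hs l hl
    obtain ⟨y1, y2, y3, y4⟩ := hy
    have hco : co y = ![y.1.b, 0, 0, 0] := by
      ext i
      fin_cases i
      · rfl
      · exact y4
      · exact y3
      · exact y2
    have h1 := act_mulVec γ y
    rw [hm, Units.val_mul, act_resT, hco] at h1
    have e0 : ∀ i, co (γ y) i = (l : M5) i 0 * (s ^ 3 * t * y.1.b) := by
      intro i
      rw [← h1, ← mulVec_mulVec]
      have h2 : mT (s : ZMod 5) t *ᵥ ![y.1.b, 0, 0, 0] = ![s ^ 3 * t * y.1.b, 0, 0, 0] := by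
        ext j
        (revert j; simp only [mT, mulVec, dotProduct, Fin.sum_univ_four, _root_.Fin.forall_fin_succ, _root_.Matrix.of_apply, _root_.Matrix.cons_val', _root_.Matrix.cons_val_fin_one, Fin.isValue, _root_.Matrix.cons_val_zero, _root_.Matrix.cons_val_one, _root_.MulZeroClass.mul_zero, _root_.add_zero, _root_.Matrix.cons_val, _root_.Nat.succ_eq_add_one, Nat.reduceAdd, _root_.Matrix.cons_val_succ, _root_.MulZeroClass.zero_mul, _root_.implies_true, _root_.and_self])
      rw [h2]
      simp [mulVec, dotProduct, Fin.sum_univ_four]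
    refine ⟨(γ y).2, ?_, ?_, ?_⟩
    · have := e0 3; rw [a3, zero_mul] at this; exact this
    · have := e0 2; rw [a2, zero_mul] at this; exact this
    · have := e0 1; rw [a1, zero_mul] at this; exact this
  irr2 := by
    intro hs
    apply h.nZ3
    intro γ hγ y hy
    obtain ⟨l, hl, s, t, -, hm⟩ := h.exists_prod hγ
    obtain ⟨a1, a2, a3, a4⟩ := hs l hl
    obtain ⟨y1, y2, y3⟩ := hy
    have hco : co y = ![y.1.b, y.1.c, 0, 0] := by
      ext i
      fin_cases i
      · rfl
      · rfl
      · exact y3
      · exact y2
    have h1 := act_mulVec γ y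
    rw [hm, Units.val_mul, act_resT, hco] at h1
    have e0 : ∀ i, co (γ y) i = (l : M5) i 0 * (s ^ 3 * t * y.1.b) + (l : M5) i 1 * (s ^ 2 * t * y.1.c) := by
      intro i
      rw [← h1, ← mulVec_mulVec]
      have h2 : mT (s : ZMod 5) t *ᵥ ![y.1.b, y.1.c, 0, 0] = ![s ^ 3 * t * y.1.b, s ^ 2 * t * y.1.c, 0, 0] := by
        ext j
        (revert j; simp only [mT, mulVec, dotProduct, Fin.sum_univ_four, _root_.Fin.forall_fin_succ, _root_.Matrix.of_apply, _root_.Matrix.cons_val', _root_.Matrix.cons_val_fin_one, Fin.isValue, _root_.Matrix.cons_val_zero, _root_.Matrix.cons_val_one, _root_.Matrix.cons_val, _root_.MulZeroClass.mul_zero, _root_.add_zero, _root_.Nat.succ_eq_add_one, Nat.reduceAdd, _root_.MulZeroClass.zero_mul, _root_.Matrix.cons_val_succ, _root_.zero_add, _root_.implies_true, _root_.and_self])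
      rw [h2]
      simp only [mulVec, dotProduct, Fin.sum_univ_four, _root_.Matrix.mulVec, _root_.dotProduct, _root_.Nat.succ_eq_add_one, _root_.Nat.reduceAdd, _root_.Fin.sum_univ_four, _root_.Fin.isValue, _root_.Matrix.cons_val_zero, _root_.Matrix.cons_val_one, _root_.Matrix.cons_val, _root_.MulZeroClass.mul_zero, _root_.add_zero]
    refine ⟨(γ y).2, ?_, ?_⟩
    · have := e0 3; rw [a2, a4, zero_mul, zero_mul, add_zero] at this; exact this
    · have := e0 2; rw [a1, a3, zero_mul, zero_mul, add_zero] at this; exact this

end Par5

/-- the torus -/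
abbrev TU := (ZMod 5)ˣ × (ZMod 5)ˣ

/-- the torus as a group of automorphisms -/
def torHom : TU →* MulAut (GU (ZMod 5)) where
  toFun x := tor x.1 x.2
  map_one' := by
    have h := tor_mul 1 1 1 1
    rw [mul_one] at h
    exact mul_eq_left.1 h
  map_mul' x y := (tor_mul _ _ _ _).symm

theorem mT_mul (s t s' t' : ZMod 5) : mT s t * mT s' t' = mT (s * s') (t * t') := by
  ext i j
  (revert i j; simp only [mT, Matrix.mul_apply, Fin.sum_univ_four, _root_.Fin.forall_fin_succ, _root_.Matrix.of_apply, _root_.Matrix.cons_val', _root_.Matrix.cons_val_fin_one, Fin.isValue, _root_.Matrix.cons_val_zero, _root_.Matrix.cons_val_one, _root_.Matrix.cons_val, _root_.MulZeroClass.mul_zero, _root_.add_zero, _root_.Matrix.cons_val_succ, _root_.zero_add, _root_.forall_const, _root_.MulZeroClass.zero_mul, _root_.and_self, _root_.and_true, _root_.true_and, _root_.implies_true]) <;> (repeat' with_reducible apply And.intro) <;> ring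

/-- the torus as a group of matrices -/
noncomputable def tau : TU →* M5ˣ where
  toFun x := act (resT x.1 x.2)
  map_one' := by
    apply Units.ext
    rw [act_resT]
    show mT 1 1 = 1
    decide +kernel
  map_mul' x y := by
    apply Units.ext
    rw [Units.val_mul, act_resT, act_resT, act_resT, mT_mul]
    rfl

theorem tau_coe (x : TU) : (tau x : M5) = mT x.1 x.2 := act_resT _ _

theorem tau_conj (x : TU) : tau x * gA * (tau x)⁻¹ = gA ^ (x.1 : ZMod 5).val := resT_conj _ _

/-- the subgroup `t² = 1` of the torus -/
def B8 : Subgroup TU where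
  carrier := {x | x.2 ^ 2 = 1}
  one_mem' := one_pow 2
  mul_mem' := by
    intro x y hx hy
    show (x.2 * y.2) ^ 2 = 1
    have hx' : x.2 ^ 2 = 1 := hx
    have hy' : y.2 ^ 2 = 1 := hy
    rw [mul_pow, hx', hy', mul_one]
  inv_mem' := by
    intro x hx
    show (x.2⁻¹) ^ 2 = 1
    have hx' : x.2 ^ 2 = 1 := hx
    rw [inv_pow, hx', inv_one]

instance : DecidablePred (· ∈ B8) := fun x => decidable_of_iff (x.2 ^ 2 = 1) Iff.rfl

namespace Par0

variable {Γ : Subgroup (MulAut P1)} {D : Subgroup (MulAut (GU (ZMod 5)))} (h : Par0 Γ D)

include h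

theorem tau_mem {x : TU} (hx : torHom x ∈ D) : tau x ∈ Γ.map act := ⟨_, h.resT_mem hx, rfl⟩

/-- a torus element of the automizer belongs to `D` -/
theorem tor_mem {x : TU} (hx : tau x ∈ Γ.map act) : torHom x ∈ D := by
  obtain ⟨γ, hγ, hm⟩ := hx
  obtain ⟨k, s, t, hd, h1⟩ := h.norm' hγ ⟨_, by rw [hm]; exact tau_conj x⟩
  obtain ⟨-, -, -, -, -, -, -, -, e2, e3⟩ := shape h1
  rw [hm, tau_coe] at e2 e3
  have f3 : (x.2 : ZMod 5) = t := e3
  have f2 : (x.1 : ZMod 5) * x.2 = s * t := e2
  have g3 : x.2 = t := Units.ext f3
  have g2 : x.1 = s := by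
    apply Units.ext
    rw [f3] at f2
    exact mul_right_cancel₀ t.ne_zero f2
  have h4 : x = (s, t) := Prod.ext g2 g3
  rw [h4]
  exact hd

theorem mem_iff {γ : MulAut P1} : γ ∈ Γ ↔ ∃ l ∈ Lo Γ, ∃ x ∈ D.comap torHom, act γ = l * tau x := by
  constructor
  · intro hγ
    obtain ⟨l, hl, s, t, hd, hm⟩ := h.exists_prod hγ
    exact ⟨l, hl, (s, t), hd, hm⟩
  · rintro ⟨l, hl, x, hx, hm⟩
    obtain ⟨δ, hδ, hm'⟩ : l * tau x ∈ Γ.map act := Subgroup.mul_mem _ (Lo_le hl) (h.tau_mem hx)
    have h1 : act (δ⁻¹ * γ) = 1 := by rw [map_mul, map_inv, hm, hm', inv_mul_cancel]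
    have h2 := h.indu (inn_le (mem_inn_of_act h1))
    have h3 : γ = δ * (δ⁻¹ * γ) := by group
    rw [h3]
    exact Γ.mul_mem hδ h2

theorem ker_le : act.ker ≤ Γ := by
  rw [ker_act]
  exact inn_le.trans h.indu

seal _root_.Finset.sum _root_.dotProduct in
/-- the order of the automizer modulo inner automorphisms -/
theorem card_eq : Nat.card (Γ.map act) * Nat.card (((Lo Γ).comap tau : Subgroup TU)) =
    Nat.card (Lo Γ) * Nat.card (D.comap torHom) := by
  set G : Subgroup M5ˣ := Γ.map act with hG
  let L : Subgroup G := (Lo Γ).subgroupOf G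
  have hn : L.Normal := ⟨fun n hn g => by
    show ((g * n * g⁻¹ : G) : M5ˣ) ∈ Lo Γ
    exact Lo_conj g.2 hn⟩
  have hLc : Nat.card L = Nat.card (Lo Γ) := Nat.card_congr (Subgroup.subgroupOfEquivOfLe Lo_le).toEquiv
  -- the homomorphism
  let f : (D.comap torHom : Subgroup TU) →* G ⧸ L :=
    (QuotientGroup.mk' L).comp
      { toFun := fun x => ⟨tau x, h.tau_mem x.2⟩
        map_one' := by ext1; exact map_one tau
        map_mul' := fun x y => by ext1; exact map_mul tau _ _ }
  have hf : Function.Surjective f := by
    intro y
    obtain ⟨⟨g, γ, hγ, rfl⟩, rfl⟩ := QuotientGroup.mk'_surjective L y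
    obtain ⟨l, hl, s, t, hd, hm⟩ := h.exists_prod hγ
    refine ⟨⟨(s, t), hd⟩, ?_⟩
    have hx : ∃ x : G, (x : M5ˣ) = tau (s, t) := ⟨⟨_, h.tau_mem hd⟩, rfl⟩
    show (QuotientGroup.mk' L) ⟨tau (s, t), h.tau_mem hd⟩ = _
    rw [← div_eq_one, ← map_div]
    rw [← MonoidHom.mem_ker, QuotientGroup.ker_mk']
    show tau (s, t) / act γ ∈ Lo Γ
    rw [hm]
    have h2 : tau (s, t) / (l * act (resT s t)) = l⁻¹ := by
      show tau (s, t) / (l * tau (s, t)) = l⁻¹
      rw [div_eq_mul_inv]; group
    rw [h2]
    exact Subgroup.inv_mem _ hl
  have hk : Nat.card f.ker = Nat.card ((Lo Γ).comap tau : Subgroup TU) := by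
    apply Nat.card_congr
    refine ⟨fun x => ⟨x.1.1, ?_⟩, fun x => ⟨⟨x.1, ?_⟩, ?_⟩, ?_, ?_⟩
    · have h1 : f x.1 = 1 := x.2
      exact (QuotientGroup.eq_one_iff (N := L) _).1 h1
    · exact h.tor_mem (Lo_le x.2)
    · exact (QuotientGroup.eq_one_iff (N := L) _).2 x.2
    · intro x; rfl
    · intro x; rfl
  have h1 : Nat.card (G ⧸ L) * Nat.card f.ker = Nat.card (D.comap torHom : Subgroup TU) := by
    rw [Subgroup.card_eq_card_quotient_mul_card_subgroup f.ker,
      Nat.card_congr (QuotientGroup.quotientKerEquivOfSurjective f hf).toEquiv]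
  have h2 : Nat.card G = Nat.card (G ⧸ L) * Nat.card L := Subgroup.card_eq_card_quotient_mul_card_subgroup L
  rw [h2, hLc, ← hk, ← h1]
  ring

/-- the order of the automizer -/
theorem card_Γ : Nat.card Γ = 625 * Nat.card (Γ.map act) := by
  have h1 : Nat.card act.ker = 625 := by
    rw [ker_act]
    have h2 : Nat.card (Inn P1) = (Subgroup.center P1).index := by
      have h3 : (MulAut.conj : P1 →* MulAut P1).ker = Subgroup.center P1 := by
        ext x
        rw [MonoidHom.mem_ker, Subgroup.mem_center_iff]
        constructor
        · intro hx g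
          have h4 : MulAut.conj x g = g := by rw [hx]; rfl
          rw [MulAut.conj_apply] at h4
          calc g * x = x * g * x⁻¹ * x := by rw [h4]
            _ = x * g := by group
        · intro hx
          ext1 g
          rw [MulAut.conj_apply, ← hx g]
          show g * x * x⁻¹ = g
          group
      rw [← h3, Subgroup.index_ker]
    have h5 : Nat.card (Subgroup.center P1) = 5 := by
      have h6 : Nat.card (Subgroup.center P1) = Nat.card (ZMod 5) := by
        apply Nat.card_congr
        refine ⟨fun y => y.1.1.z, fun t => ⟨el 0 t, (mem_center_iff _).2 (co_el _ _)⟩, ?_, ?_⟩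
        · rintro ⟨y, hy⟩
          apply Subtype.ext
          show el 0 y.1.z = y
          rw [mem_center_iff] at hy
          conv_rhs => rw [eq_el y, hy]
        · intro t; rfl
      rw [h6, Nat.card_eq_fintype_card, ZMod.card]
    have h6 : Nat.card P1 = 3125 := by
      rw [card_Q1, Nat.card_eq_fintype_card, ZMod.card]; norm_num
    have h7 := Subgroup.card_mul_index (Subgroup.center P1)
    rw [h5, h6] at h7
    rw [h2]; omega
  have h8 : Nat.card (Γ.map act) = (act.ker.subgroupOf Γ).index := by
    have h9 : Γ.map act = (act.comp Γ.subtype).range := by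
      rw [MonoidHom.range_comp, Subgroup.range_subtype]
    rw [h9, ← Subgroup.index_ker]
    rfl
  have h10 := Subgroup.card_mul_index (act.ker.subgroupOf Γ)
  rw [← h8, Nat.card_congr (Subgroup.subgroupOfEquivOfLe h.ker_le).toEquiv, h1] at h10
  exact h10.symm

end Par0

namespace Par5

open Par0

variable {Γ : Subgroup (MulAut P1)} {D : Subgroup (MulAut (GU (ZMod 5)))} (h : Par5 Γ D)

include h

end Par5

end Cfsg.Agent.H770.QF
end

-- part: H770/QF/Fin
section
/-!
# S5211, block q = 5: `StF2`, `StF3` (helper770)

Transport of `QF/Par.lean` to helper779's group.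
-/

set_option autoImplicit false

namespace Cfsg.Agent.H770.QF

open Cfsg Cfsg.Agent.H24.Q5 Cfsg.Agent.H756.PU Cfsg.Agent.H802 Matrix

open Cfsg.Agent.H650.G (GU.tor GU.Z2 GU.Z3)
open Cfsg.Agent.H779.G2 (IsTor IsR Par HasTor TT)
seal Cfsg.Agent.H779.G2.GU.instMul Cfsg.Agent.H779.G2.GU.instInv

/-- helper650's group over the field with five elements -/
abbrev V5 : Type := H650.G.GU (ZMod 5)

unseal Cfsg.Agent.H779.G2.GU.instMul Cfsg.Agent.H779.G2.GU.instInv in
/-- the isomorphism -/
def isoU : V5 ≃* U5 where
  toFun x := ⟨x.r, x.e, x.d, -x.c, x.b, - (3 * x.c * x.d) - x.b * x.e - x.z⟩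
  invFun y := ⟨y.a, y.e, -y.d, y.c, y.b, 3 * y.d * y.c - y.e * y.b - y.f⟩
  left_inv x := by
    ext <;> simp only [] <;> ring
  right_inv y := by
    ext <;> simp only [] <;> ring
  map_mul' x y := by
    ext
    · rfl
    · rfl
    · simp only [H650.G.GU.mul_d, H779.G2.GU.mul_c]; ring
    · simp only [H650.G.GU.mul_c, H779.G2.GU.mul_d]; ring
    · simp only [H650.G.GU.mul_b, H779.G2.GU.mul_e]; ring
    · simp only [H650.G.GU.mul_b, H650.G.GU.mul_c, H650.G.GU.mul_d, H650.G.GU.mul_e, H650.G.GU.mul_z,
        H779.G2.GU.mul_f]; ring

/-- its restriction -/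
def isoA : P1 ≃* A5 where
  toFun x := ⟨isoU x, x.2⟩
  invFun y := ⟨isoU.symm y, y.2⟩
  left_inv _ := Subtype.ext (isoU.symm_apply_apply _)
  right_inv _ := Subtype.ext (isoU.apply_symm_apply _)
  map_mul' _ _ := Subtype.ext (map_mul isoU _ _)

theorem isoA_coe (x : P1) : ((isoA x : A5) : U5) = isoU x := rfl
theorem vec_isoA (x : P1) : _root_.Cfsg.Agent.H24.Q5.vec (isoA x : A5) = co x := by
  ext i
  fin_cases i
  · rfl
  · exact neg_neg _
  · rfl
  · rfl

/-- the transported automorphism of `Q_a` -/
abbrev cA : MulAut P1 ≃* MulAut A5 := MulAut.congr isoA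
/-- the transported automorphism of `S` -/
abbrev cU : MulAut V5 ≃* MulAut U5 := MulAut.congr isoU

theorem cA_apply (δ : MulAut P1) (x : P1) : cA δ (isoA x) = isoA (δ x) := by
  show isoA (δ (isoA.symm (isoA x))) = _
  rw [isoA.symm_apply_apply]

theorem cU_apply (δ : MulAut V5) (x : V5) : cU δ (isoU x) = isoU (δ x) := by
  show isoU (δ (isoU.symm (isoU x))) = _
  rw [isoU.symm_apply_apply]

theorem acts_iff (δ : MulAut P1) (g : M5ˣ) : Acts (cA δ) g ↔ act δ = g := by
  constructor
  · intro h
    apply act_eq
    intro y
    have h1 := h (isoA y)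
    rw [cA_apply, vec_isoA, vec_isoA] at h1
    exact h1
  · rintro rfl x
    obtain ⟨y, rfl⟩ := isoA.surjective x
    rw [cA_apply, vec_isoA, vec_isoA]
    exact (act_mulVec δ y).symm

theorem acts_iff' (γ : MulAut A5) (g : M5ˣ) : Acts γ g ↔ act (cA.symm γ) = g := by
  rw [← acts_iff, MulEquiv.apply_symm_apply]

theorem autInd_iff (δ : MulAut P1) : cA δ ∈ autInducedBy ⊤ A5 ↔ δ ∈ autInducedBy ⊤ P1 := by
  rw [mem_autInducedBy_iff, mem_autInducedBy_iff]
  constructor
  · rintro ⟨g, -, hg⟩
    refine ⟨isoU.symm g, Subgroup.mem_top _, fun x => ?_⟩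
    have h1 := hg (isoA x)
    rw [cA_apply, isoA_coe, isoA_coe] at h1
    apply isoU.injective
    rw [h1, map_mul, map_mul, map_inv, isoU.apply_symm_apply]
  · rintro ⟨g, -, hg⟩
    refine ⟨isoU g, Subgroup.mem_top _, fun y => ?_⟩
    obtain ⟨x, rfl⟩ := isoA.surjective y
    rw [cA_apply, isoA_coe, isoA_coe, hg x, map_mul, map_mul, map_inv]

theorem normAut_iff (δ : MulAut P1) : NormAut ⊤ (cA δ) ↔ NormAut ⊤ δ := by
  constructor
  · intro h x hx
    have h1 := h (cA x) ((autInd_iff x).2 hx)
    rw [← map_inv, ← map_mul, ← map_mul] at h1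
    exact (autInd_iff _).1 h1
  · intro h y hy
    obtain ⟨x, rfl⟩ := cA.surjective y
    have h1 := h x ((autInd_iff x).1 hy)
    rw [← map_inv, ← map_mul, ← map_mul]
    exact (autInd_iff _).2 h1

/-- torus elements -/
theorem isT_tor (s t : (ZMod 5)ˣ) : IsT (cU (GU.tor s t)) s t := by
  have key : ∀ g : U5, cU (GU.tor s t) g = isoU (GU.tor s t (isoU.symm g)) := fun g => rfl
  refine ⟨s.ne_zero, t.ne_zero, fun g => ?_, fun g => ?_, fun g => ?_, fun g => ?_, fun g => ?_, fun g => ?_⟩
  · rw [key]; rfl
  · rw [key]; rfl
  · rw [key]; rfl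
  · rw [key]
    show - ((s : ZMod 5) ^ 2 * t * (-g.d)) = (s : ZMod 5) ^ 2 * t * g.d
    ring
  · rw [key]; rfl
  · rw [key]
    show - (3 * ((s : ZMod 5) ^ 2 * t * (-g.d)) * ((s : ZMod 5) * t * g.c)) - ((s : ZMod 5) ^ 3 * t * g.e) * (t * g.b) -
      (s : ZMod 5) ^ 3 * t ^ 2 * (3 * g.d * g.c - g.e * g.b - g.f) = (s : ZMod 5) ^ 3 * t ^ 2 * g.f
    ring

theorem isT_unique {α β : MulAut U5} {s t : ZMod 5} (h : IsT α s t) (h' : IsT β s t) : α = β := by
  ext1 g
  ext
  · rw [h.a, h'.a]
  · rw [h.b, h'.b]
  · rw [h.c, h'.c]
  · rw [h.d, h'.d]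
  · rw [h.e, h'.e]
  · rw [h.f, h'.f]

theorem exists_units {α : MulAut U5} {s t : ZMod 5} (h : IsT α s t) :
    ∃ s' t' : (ZMod 5)ˣ, (s' : ZMod 5) = s ∧ (t' : ZMod 5) = t ∧ α = cU (GU.tor s' t') := by
  refine ⟨Units.mk0 s h.ne1, Units.mk0 t h.ne2, rfl, rfl, ?_⟩
  exact isT_unique h (isT_tor (Units.mk0 s h.ne1) (Units.mk0 t h.ne2))

theorem ringEquiv_eq (τ : ZMod 5 ≃+* ZMod 5) : τ = RingEquiv.refl _ := by
  ext x
  have h := map_natCast τ x.val
  rw [ZMod.natCast_zmod_val] at h
  exact h

theorem isT_of_mem {α : MulAut U5} (h : α ∈ TT (ZMod 5)) : ∃ s t, IsT α s t := by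
  rcases H103.GT.mem_TT h with ⟨s, t, τ, h1⟩ | ⟨s, t, τ, α', ρ, -, h2, -⟩
  · rw [ringEquiv_eq τ] at h1
    exact ⟨s, t, h1⟩
  · exact absurd h2.three (by decide)

section

variable (Γ : Subgroup (MulAut A5)) (D : Subgroup (MulAut U5))

/-- the transported automizer -/
abbrev tG : Subgroup (MulAut P1) := Γ.comap cA.toMonoidHom
/-- the transported torus -/
abbrev tD : Subgroup (MulAut V5) := D.comap cU.toMonoidHom

theorem isR_iff (d : MulAut V5) (δ : MulAut P1) : IsR (cU d) (cA δ) ↔ IsRes d δ := by
  constructor
  · intro h y
    have h1 := h (isoA y)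
    rw [cA_apply, isoA_coe, isoA_coe, cU_apply] at h1
    exact isoU.injective h1
  · intro h x
    obtain ⟨y, rfl⟩ := isoA.surjective x
    rw [cA_apply, isoA_coe, isoA_coe, cU_apply, h y]

theorem LG_eq : LG Γ = Par0.Lo (tG Γ) := by
  unfold LG Par0.Lo
  congr 1
  ext g
  constructor
  · rintro ⟨h5, γ, hγ, ha⟩
    refine ⟨⟨cA.symm γ, ?_, (acts_iff' γ g).1 ha⟩, h5⟩
    show cA (cA.symm γ) ∈ Γ
    rw [MulEquiv.apply_symm_apply]; exact hγ
  · rintro ⟨⟨δ, hδ, hm⟩, h5⟩
    exact ⟨h5, cA δ, hδ, (acts_iff δ g).2 hm⟩

variable {Γ D}

theorem par0 (h : Par 5 A5 Γ D) : Par0 (tG Γ) (tD D) where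
  indu := fun δ hδ => h.indu ((autInd_iff δ).2 hδ)
  syl := by
    intro P hP hP5
    obtain ⟨g, hg, h1⟩ := h.syl (P.map cA.toMonoidHom) (by
      rintro _ ⟨x, hx, rfl⟩
      exact hP hx) (hP5.map _)
    refine ⟨cA.symm g, ?_, ?_⟩
    · show cA (cA.symm g) ∈ Γ
      rw [MulEquiv.apply_symm_apply]; exact hg
    · intro x hx
      rw [← autInd_iff, map_mul, map_mul, map_inv, MulEquiv.apply_symm_apply]
      exact h1 _ ⟨x, hx, rfl⟩
  D_tor := by
    intro d hd
    obtain ⟨s, t, h1⟩ := isT_of_mem (h.D_le hd)
    obtain ⟨s', t', -, -, h2⟩ := exists_units h1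
    exact ⟨s', t', cU.injective h2⟩
  D_res := by
    intro d hd δ hδ
    exact h.D_res _ hd _ ((isR_iff d δ).2 hδ)
  norm := by
    intro δ hδ hn
    obtain ⟨x, d, hd, hx⟩ := h.norm _ hδ ((normAut_iff δ).2 hn)
    refine ⟨isoU.symm x, cU.symm d, ?_, fun e => ?_⟩
    · show cU (cU.symm d) ∈ D
      rw [MulEquiv.apply_symm_apply]; exact hd
    · have h1 : ((cA δ (isoA e) : A5) : U5) = x * d (isoA e : A5) * x⁻¹ := hx (isoA e)
      rw [cA_apply, isoA_coe, isoA_coe] at h1
      apply isoU.injective
      rw [h1, map_mul, map_mul, map_inv, isoU.apply_symm_apply, ← cU_apply, MulEquiv.apply_symm_apply]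

theorem mem_Z2 (x : V5) : isoU x ∈ H779.G2.Z2 (ZMod 5) ↔ x ∈ GU.Z2 (ZMod 5) := by
  constructor
  · rintro ⟨h1, h2, h3, h4⟩
    exact ⟨h1, h2, h3, neg_eq_zero.1 h4⟩
  · rintro ⟨h1, h2, h3, h4⟩
    exact ⟨h1, h2, h3, neg_eq_zero.2 h4⟩

theorem mem_Z3 (x : V5) : isoU x ∈ H779.G2.Z3 (ZMod 5) ↔ x ∈ GU.Z3 (ZMod 5) := by
  constructor
  · rintro ⟨h1, h2, h3⟩
    exact ⟨h1, h2, h3⟩
  · rintro ⟨h1, h2, h3⟩
    exact ⟨h1, h2, h3⟩

theorem par5 (h : Par 5 A5 Γ D) (ht : HasTor D (fun t => t⁻¹) (fun t => t ^ 2))
    (n2 : ¬ _root_.Cfsg.Agent.H756.PU.Inv Γ (H779.G2.Z2 (ZMod 5))) (n3 : ¬ _root_.Cfsg.Agent.H756.PU.Inv Γ (H779.G2.Z3 (ZMod 5))) : Par5 (tG Γ) (tD D) where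
  toPar0 := par0 h
  htor := by
    intro t
    have h1 := isT_tor t⁻¹ (t ^ 2)
    refine ht t t.ne_zero _ ?_
    have e1 : ((t⁻¹ : (ZMod 5)ˣ) : ZMod 5) = (t : ZMod 5)⁻¹ := Units.val_inv_eq_inv_val t
    have e2 : ((t ^ 2 : (ZMod 5)ˣ) : ZMod 5) = (t : ZMod 5) ^ 2 := Units.val_pow_eq_pow_val t 2
    rw [e1, e2] at h1
    exact h1
  nZ2 := by
    intro hz
    apply n2
    refine ⟨fun x hx => hx.1, ?_⟩
    intro γ hγ e he
    obtain ⟨δ, rfl⟩ := cA.surjective γ
    obtain ⟨y, rfl⟩ := isoA.surjective e
    rw [cA_apply, isoA_coe, mem_Z2]
    exact hz δ hγ y ((mem_Z2 _).1 he)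
  nZ3 := by
    intro hz
    apply n3
    refine ⟨fun x hx => hx.1, ?_⟩
    intro γ hγ e he
    obtain ⟨δ, rfl⟩ := cA.surjective γ
    obtain ⟨y, rfl⟩ := isoA.surjective e
    rw [cA_apply, isoA_coe, mem_Z3]
    exact hz δ hγ y ((mem_Z3 _).1 he)

end

/-- **(F2)** -/
theorem stF2 : StF2 := by
  intro Γ D h ht n2 n3
  rw [LG_eq]
  exact (par5 h ht n2 n3).hyp

theorem mdg_eq (s t : ZMod 5) : mdg s t = mT s t := by
  ext i j
  (revert i j; simp only [mdg, mT, Matrix.diagonal, _root_.Fin.forall_fin_succ, _root_.Matrix.of_apply, _root_.Matrix.cons_val', _root_.Matrix.cons_val_fin_one, Fin.isValue, _root_.Matrix.cons_val_zero, _root_.Matrix.cons_val_succ, _root_.Fin.succ_zero_eq_one, _root_.Fin.succ_one_eq_two, Fin.reduceSucc, _root_.IsEmpty.forall_iff, _root_.and_true, ↓reduceIte, _root_.zero_ne_one, Fin.reduceEq, _root_.and_self, _root_.Fin.succ_ne_zero, _root_.ite_eq_right_iff, _root_.ite_eq_left_iff, _root_.true_and, _root_.not_true_eq_false])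

/-- **(F3)** -/
theorem stF3 : StF3 := by
  intro Γ D h
  have h0 := par0 h
  have hT : ∀ d ∈ D, ∃ s t, IsT d s t := fun d hd => isT_of_mem (h.D_le hd)
  refine ⟨hT, ?_, ?_, ?_⟩
  · intro s t α hα hg
    obtain ⟨g, hg, hm⟩ := hg
    obtain ⟨s', t', rfl, rfl, rfl⟩ := exists_units hα
    rw [LG_eq] at hg
    have h1 : g = tau (s', t') := Units.ext (by rw [hm, mdg_eq, tau_coe])
    exact h0.tor_mem (x := (s', t')) (h1 ▸ Par0.Lo_le hg)
  · intro γ
    obtain ⟨δ, rfl⟩ := cA.surjective γ
    have h1 : cA δ ∈ Γ ↔ δ ∈ tG Γ := Iff.rfl
    rw [h1, h0.mem_iff, LG_eq]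
    constructor
    · rintro ⟨l, hl, ⟨s, t⟩, hx, hm⟩
      exact ⟨l, hl, cU (GU.tor s t), hx, s, t, isT_tor s t, tau (s, t), by rw [tau_coe, mdg_eq], (acts_iff _ _).2 hm⟩
    · rintro ⟨l, hl, d, hd, s, t, hdt, g, hg, hm⟩
      obtain ⟨s', t', rfl, rfl, rfl⟩ := exists_units hdt
      refine ⟨l, hl, (s', t'), hd, ?_⟩
      rw [(acts_iff _ _).1 hm]
      congr 1
      exact Units.ext (by rw [hg, mdg_eq, tau_coe])
  · rw [LG_eq]
    have c1 : Nat.card Γ = Nat.card (tG Γ) := by
      apply Nat.card_congr
      exact (MulEquiv.subgroupMap cA.symm Γ).toEquiv.trans (Equiv.subtypeEquivRight fun x => by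
        show x ∈ Γ.map cA.symm.toMonoidHom ↔ x ∈ Γ.comap cA.toMonoidHom
        rw [Subgroup.mem_map_equiv]; rfl)
    have c2 : Nat.card D = Nat.card ((tD D).comap torHom) := by
      apply Nat.card_congr
      symm
      refine Equiv.ofBijective (fun x => (⟨cU (torHom x.1), x.2⟩ : D)) ⟨?_, ?_⟩
      · intro x y hxy
        have h1 : torHom x.1 = torHom y.1 := cU.injective (congrArg Subtype.val hxy)
        have h2 := congrArg (fun α : MulAut V5 => α ⟨1, 0, 0, 0, 1, 0⟩) h1
        have h3 : (x.1.1 : ZMod 5) * 1 = (y.1.1 : ZMod 5) * 1 := congrArg H650.G.GU.r h2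
        have h4 : (x.1.2 : ZMod 5) * 1 = (y.1.2 : ZMod 5) * 1 := congrArg H650.G.GU.e h2
        rw [mul_one, mul_one] at h3 h4
        exact Subtype.ext (Prod.ext (Units.ext h3) (Units.ext h4))
      · rintro ⟨d, hd⟩
        obtain ⟨s, t, hdt⟩ := hT d hd
        obtain ⟨s', t', rfl, rfl, rfl⟩ := exists_units hdt
        exact ⟨⟨(s', t'), hd⟩, rfl⟩
    have c3 : Nat.card {g : M5ˣ // g ∈ Par0.Lo (tG Γ) ∧ ∃ d ∈ D, ∃ s t, IsT d s t ∧ (g : M5) = mdg s t} =
        Nat.card ((Par0.Lo (tG Γ)).comap tau : Subgroup TU) := by
      apply Nat.card_congr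
      symm
      refine Equiv.ofBijective (fun x => (⟨tau x.1, x.2, cU (torHom x.1), h0.tor_mem (Par0.Lo_le x.2), x.1.1, x.1.2,
        isT_tor _ _, by rw [tau_coe, mdg_eq]⟩ : {g : M5ˣ // g ∈ Par0.Lo (tG Γ) ∧ ∃ d ∈ D, ∃ s t, IsT d s t ∧ (g : M5) = mdg s t}))
        ⟨?_, ?_⟩
      · intro x y hxy
        have h1 : tau x.1 = tau y.1 := congrArg Subtype.val hxy
        have h2 := congrArg (fun u : M5ˣ => (u : M5)) h1
        simp only [tau_coe] at h2
        have h3 : (x.1.2 : ZMod 5) = y.1.2 := congrFun (congrFun h2 3) 3
        have h4 : (x.1.1 : ZMod 5) * x.1.2 = y.1.1 * y.1.2 := congrFun (congrFun h2 2) 2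
        rw [h3] at h4
        exact Subtype.ext (Prod.ext (Units.ext (mul_right_cancel₀ y.1.2.ne_zero h4)) (Units.ext h3))
      · rintro ⟨g, hg, d, hd, s, t, hdt, hm⟩
        obtain ⟨s', t', rfl, rfl, rfl⟩ := exists_units hdt
        have h1 : tau (s', t') = g := Units.ext (by rw [hm, mdg_eq, tau_coe])
        refine ⟨⟨(s', t'), ?_⟩, Subtype.ext h1⟩
        show tau (s', t') ∈ Par0.Lo (tG Γ)
        rw [h1]; exact hg
    rw [c1, c2, c3, h0.card_Γ, mul_assoc, h0.card_eq, mul_assoc]

end Cfsg.Agent.H770.QF
end

-- part: H24/Q5/Tr
section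
/-!
# S5211, block q = 5: `StF2` and `StF3` (helper770's proofs under the names announced before)
-/

set_option autoImplicit false

namespace Cfsg.Agent.H24.Q5.Tr

theorem stF2 : StF2 := Cfsg.Agent.H770.QF.stF2

theorem stF3 : StF3 := Cfsg.Agent.H770.QF.stF3

end Cfsg.Agent.H24.Q5.Tr
end

private theorem dce_65aece7f033d : _root_.True := by
  try have : _root_.True := by simp only [_root_.Cfsg.Agent.H770.QF.om.eq_1]
  try have : _root_.True := by simp only [_root_.Cfsg.Agent.H24.Q5.Om.eq_1]
  try have : _root_.True := by simp only [_root_.Cfsg.Agent.H770.QF.mT.eq_1]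
  try have : _root_.True := by simp only [_root_.Cfsg.Agent.H770.QF.mX.eq_1]
  try have : _root_.True := by simp only [_root_.Cfsg.Agent.H772.G2.xb.eq_1]
  try have : _root_.True := by simp only [_root_.Cfsg.Agent.H772.G2.torFun.eq_1]
  try have : _root_.True := by simp only [_root_.Cfsg.Agent.H770.QF.co.eq_1]
  try have : _root_.True := by simp only [_root_.Cfsg.Agent.H24.Q5.mdg.eq_1]
  try have : _root_.True := by simp only [_root_.Cfsg.Agent.H772.G2.xa.eq_1]
  exact _root_.True.intro
end

section
prune_inst 0xfcfffbeff8bfffdfff7e7ff6bfcffdfdbcfffff6dfffcbffe061ffcfdf4b06fde5fbad9fe852fd1ef7623690fa7b53ffffffffe26fd87ffffd5ff45ffbffcffdf7bd8851dc88be0fbc0ffe63f07fce7f000000000000000000000000000000000200000000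

-- part: H353/GT/Lb5
section
prune_inst 0x20000000000000000018001000000004100000000000000048e001020000800020000001380004100000804000000000000000000000000000000000000000000000120030400000200010000000000000000000000000000000000000000000000000000
set_option linter.all false
open scoped Cfsg.Agent.FastGrp

-- part: H353/GT/Ker5
section
/-!
# S5211, the long root parabolic, `p ≥ 5`: the kernel on `Q_b / Z₃` and the Weyl element

* `ker5` : the elements of `Γ` acting trivially on `(a, c)` are inner;
* `weyl5` : if `Γ` contains an element acting on `(a, c)` as `IsWb` and `D` contains the torus then all `w` with `IsWb w` are in `Γ`.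
-/

set_option autoImplicit false

namespace Cfsg.Agent.H353.GT

open Cfsg Cfsg.Agent.H779.G2 Cfsg.Agent.H756.PU Cfsg.Agent.H103.GT
open Cfsg.Agent.H732.PU (Triv Fx fx_step)

universe u

variable {K : Type u} [Field K]

/-- the action on `(a, c)` is trivial -/
def TrivAC (γ : MulAut (Qb K)) : Prop :=
  ∀ e : Qb K, ((γ e : Qb K) : GU K).a = (e : GU K).a ∧ ((γ e : Qb K) : GU K).c = (e : GU K).c

theorem TrivAC.mul {γ δ : MulAut (Qb K)} (h : TrivAC γ) (h' : TrivAC δ) : TrivAC (γ * δ) := fun e =>
  ⟨(h (δ e)).1.trans (h' e).1, (h (δ e)).2.trans (h' e).2⟩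

theorem TrivAC.inv {γ : MulAut (Qb K)} (h : TrivAC γ) : TrivAC γ⁻¹ := fun e => by
  have h1 := h (γ⁻¹ e)
  rw [MulAut.apply_inv_self] at h1
  exact ⟨h1.1.symm, h1.2.symm⟩

theorem trivAC_one : TrivAC (1 : MulAut (Qb K)) := fun _ => ⟨rfl, rfl⟩

variable (K) in
/-- the group of these automorphisms -/
def NAC : Subgroup (MulAut (Qb K)) where
  carrier := {γ | TrivAC γ}
  one_mem' := trivAC_one
  mul_mem' := fun h h' => h.mul h'
  inv_mem' := fun h => h.inv

/-! ### The chain `Q_b > Z₃ > Z₂ > 1` -/

section chain
variable (h2 : (2 : K) ≠ 0) (h3 : (3 : K) ≠ 0)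
include h3

theorem mem_Z2_iff_cent (e : Qb K) : (e : GU K) ∈ Z2 K ↔ ∀ f : Qb K, e * f = f * e := by
  rw [← cent_Qb h3]
  constructor
  · intro h f
    exact Subtype.ext ((h f f.2 :))
  · intro h z hz
    exact congrArg Subtype.val (h ⟨z, hz⟩)

theorem map_Z2 (γ : MulAut (Qb K)) {e : Qb K} (he : (e : GU K) ∈ Z2 K) : ((γ e : Qb K) : GU K) ∈ Z2 K := by
  rw [mem_Z2_iff_cent h3] at he ⊢
  intro f
  have h := he (γ⁻¹ f)
  have h' := congrArg γ h
  rwa [map_mul, map_mul, MulAut.apply_inv_self] at h'

include h2

omit h3 in
/-- every element of `Z₃` is a commutator modulo `Z₂` -/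
theorem dec_Z3 {e : Qb K} (he : (e : GU K) ∈ Z3 K) : ∃ z : Qb K, (z : GU K) ∈ Z2 K ∧
    e = (⟨x1 1, x1_mem 1⟩ : Qb K) * (⟨x3 (-((e : GU K).d) / 2), Z4_le_Qb (x3_mem _)⟩ : Qb K) * (⟨x1 1, x1_mem 1⟩ : Qb K)⁻¹ *
      (⟨x3 (-((e : GU K).d) / 2), Z4_le_Qb (x3_mem _)⟩ : Qb K)⁻¹ * z := by
  obtain ⟨ha, hb, hc⟩ := mem_Z3.1 he
  set g : Qb K := ⟨x1 1, x1_mem 1⟩ with hg
  set f : Qb K := ⟨x3 (-((e : GU K).d) / 2), Z4_le_Qb (x3_mem _)⟩ with hf
  refine ⟨(g * f * g⁻¹ * f⁻¹)⁻¹ * e, ?_, by rw [mul_inv_cancel_left]⟩
  rw [Subgroup.coe_mul, Subgroup.coe_inv]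
  have e1 : ((g * f * g⁻¹ * f⁻¹ : Qb K) : GU K) = (g : GU K) * f * (g : GU K)⁻¹ * (f : GU K)⁻¹ := rfl
  rw [e1]
  refine ⟨?_, ?_, ?_, ?_⟩
  · rw [GU.mul_a, GU.inv_a, cm_a, ha]; ring
  · rw [GU.mul_b, GU.inv_b, cm_b, hb]; ring
  · rw [GU.mul_c, GU.inv_c, GU.inv_b, cm_a, cm_b, cm_c, ha, hc]
    simp only [hg, hf, x1, x3]; ring
  · rw [GU.mul_d, GU.inv_d, GU.inv_c, GU.inv_b, cm_a, cm_b, cm_c, cm_d, ha]
    simp only [hg, hf, x1, x3]
    field_simp
    ring

/-- `Z₃` is characteristic in `Q_b` -/
theorem map_Z3 (γ : MulAut (Qb K)) {e : Qb K} (he : (e : GU K) ∈ Z3 K) : ((γ e : Qb K) : GU K) ∈ Z3 K := by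
  obtain ⟨z, hz, h1⟩ := dec_Z3 h2 he
  rw [h1]
  simp only [map_mul, map_inv]
  exact ((Z3 K).mul_mem (com_Qb _ (γ _).2 _ (γ _).2) (Z2_le_Z3 (map_Z2 h3 γ hz)) :)

theorem map_d {γ : MulAut (Qb K)} (hγ : TrivAC γ) {e : Qb K} (he : (e : GU K) ∈ Z3 K) :
    ((γ e : Qb K) : GU K).d = (e : GU K).d := by
  obtain ⟨z, hz, he'⟩ := dec_Z3 h2 he
  set g : Qb K := ⟨x1 1, x1_mem 1⟩ with hg
  set f : Qb K := ⟨x3 (-((e : GU K).d) / 2), Z4_le_Qb (x3_mem _)⟩ with hf
  have hγz := map_Z2 h3 γ hz
  have h4 : γ e = γ g * γ f * (γ g)⁻¹ * (γ f)⁻¹ * γ z := by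
    rw [he']
    simp only [map_mul, map_inv]
  rw [h4]
  have e2 : ((γ g * γ f * (γ g)⁻¹ * (γ f)⁻¹ * γ z : Qb K) : GU K) =
    ((γ g : Qb K) : GU K) * ((γ f : Qb K) : GU K) * ((γ g : Qb K) : GU K)⁻¹ * ((γ f : Qb K) : GU K)⁻¹ * ((γ z : Qb K) : GU K) := rfl
  obtain ⟨q1, q2, q3, q4⟩ := mem_Z2.1 hγz
  have hgb : ((γ g : Qb K) : GU K).b = 0 := (γ g).2
  have hfb : ((γ f : Qb K) : GU K).b = 0 := (γ f).2
  rw [e2, GU.mul_d, cm_b, cm_c, cm_d, q1, q4, (hγ g).1, (hγ g).2, (hγ f).1, (hγ f).2, hgb, hfb]
  simp only [hg, hf, x1, x3]
  field_simp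
  ring

/-- conjugates of `TrivAC` automorphisms -/
theorem TrivAC.conj {γ : MulAut (Qb K)} (hγ : TrivAC γ) (g : MulAut (Qb K)) : TrivAC (g * γ * g⁻¹) := by
  have key : ∀ e : Qb K, (((g * γ * g⁻¹) e * e⁻¹ : Qb K) : GU K) ∈ Z3 K := by
    intro e
    set! e' := g⁻¹ e with he'
    have h1 : e = g e' := by rw [he', MulAut.apply_inv_self]
    have h4 : (g * γ * g⁻¹) e * e⁻¹ = g (γ e' * e'⁻¹) := by
      rw [map_mul, map_inv, ← h1]; rfl
    rw [h4]
    apply map_Z3 h2 h3
    have hb : (e' : GU K).b = 0 := e'.2
    have hb' : ((γ e' : Qb K) : GU K).b = 0 := (γ e').2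
    refine ⟨?_, ?_, ?_⟩
    · rw [Subgroup.coe_mul, Subgroup.coe_inv, GU.mul_a, GU.inv_a, (hγ e').1]; ring
    · rw [Subgroup.coe_mul, Subgroup.coe_inv, GU.mul_b, GU.inv_b, hb', hb]; ring
    · rw [Subgroup.coe_mul, Subgroup.coe_inv, GU.mul_c, GU.inv_c, GU.inv_a, (hγ e').2, hb', hb]; ring
  intro e
  obtain ⟨k1, k2, k3⟩ := mem_Z3.1 (key e)
  have hb : (e : GU K).b = 0 := e.2
  have hb' : (((g * γ * g⁻¹) e : Qb K) : GU K).b = 0 := ((g * γ * g⁻¹) e).2
  rw [Subgroup.coe_mul, Subgroup.coe_inv, GU.mul_a, GU.inv_a] at k1
  rw [Subgroup.coe_mul, Subgroup.coe_inv, GU.mul_c, GU.inv_c, GU.inv_a, hb', hb] at k3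
  exact ⟨by linear_combination k1, by linear_combination k3⟩

/-- `Z₂ = [Q_b, Z₃]` is fixed -/
theorem fix_Z2 {γ : MulAut (Qb K)} (hγ : TrivAC γ) : Fx (Z2 K) γ := by
  intro e he
  obtain ⟨ha, hb, hc, hd⟩ := mem_Z2.1 he
  set! g : Qb K := ⟨⟨-(e : GU K).e / 3, 0, -(e : GU K).f / 3, 0, 0, 0⟩, rfl⟩ with hg
  set! f : Qb K := ⟨x4 1, Z3_le_Qb (x4_mem _)⟩ with hf
  have hef : ∀ g' f' : GU K, g'.a = (g : GU K).a → g'.c = (g : GU K).c → g'.b = 0 → f'.a = 0 → f'.b = 0 → f'.c = 0 →
      f'.d = 1 → g' * f' * g'⁻¹ * f'⁻¹ = (e : GU K) := by
    intro g' f' k1 k2 k3 k4 k5 k6 k7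
    ext
    · rw [cm_a, ha]
    · rw [cm_b, hb]
    · rw [cm_c, hc, k3, k4, k5]; ring
    · rw [cm_d, hd, k3, k4, k5, k6]; ring
    · rw [cm_e, k1, k2, k3, k4, k5, k6, k7]
      simp only [hg]
      field_simp
      ring
    · rw [cm_f, k1, k2, k3, k4, k5, k6, k7]
      simp only [hg]
      field_simp
      ring
  have h1 : e = g * f * g⁻¹ * f⁻¹ := (Subtype.ext (hef g f rfl rfl rfl rfl rfl rfl rfl).symm : _)
  have h4 : γ e = γ g * γ f * (γ g)⁻¹ * (γ f)⁻¹ := by
    rw [h1]
    simp only [map_mul, map_inv]
  rw [h4]
  apply Subtype.ext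
  apply hef
  · exact (hγ g).1
  · exact (hγ g).2
  · exact (γ g).2
  · exact (hγ f).1
  · exact (γ f).2
  · exact (hγ f).2
  · exact map_d h2 h3 hγ (x4_mem 1)

theorem triv_Z3_Z2 {γ : MulAut (Qb K)} (hγ : TrivAC γ) : Triv (Z3 K) (Z2 K) γ := by
  intro e he
  obtain ⟨ha, hb, hc⟩ := mem_Z3.1 he
  have hd := map_d h2 h3 hγ he
  have h1 := (hγ e).1
  have h2' := (hγ e).2
  have hb' : ((γ e : Qb K) : GU K).b = 0 := (γ e).2
  refine ⟨?_, ?_, ?_, ?_⟩
  · rw [GU.mul_a, GU.inv_a, h1]; ring
  · rw [GU.mul_b, GU.inv_b, hb', hb]; ring
  · rw [GU.mul_c, GU.inv_c, GU.inv_a, h2', hb', ha, hb]; ring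
  · rw [GU.mul_d, GU.inv_d, GU.inv_a, hd, hb', ha, hb]; ring

omit h2 h3 in
theorem triv_Qb_Z3 {γ : MulAut (Qb K)} (hγ : TrivAC γ) : Triv (Qb K) (Z3 K) γ := by
  intro e _
  have hb : (e : GU K).b = 0 := e.2
  have h1 := (hγ e).1
  have h2' := (hγ e).2
  have hb' : ((γ e : Qb K) : GU K).b = 0 := (γ e).2
  refine ⟨?_, ?_, ?_⟩
  · rw [GU.mul_a, GU.inv_a, h1]; ring
  · rw [GU.mul_b, GU.inv_b, hb', hb]; ring
  · rw [GU.mul_c, GU.inv_c, GU.inv_a, h2', hb', hb]; ring

theorem ker_pow [Finite K] {γ : MulAut (Qb K)} (hγ : TrivAC γ) : γ ^ (Nat.card K ^ 5) = 1 := by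
  have f1 := fix_Z2 h2 h3 hγ
  have f2 : Fx (Z3 K) (γ ^ Nat.card (Z2 K)) := fx_step f1 (triv_Z3_Z2 h2 h3 hγ)
  have g2 : TrivAC (γ ^ Nat.card (Z2 K)) := (NAC K).pow_mem (show γ ∈ NAC K from hγ) _
  have f3 : Fx (Qb K) ((γ ^ Nat.card (Z2 K)) ^ Nat.card (Z3 K)) := fx_step f2 (triv_Qb_Z3 g2)
  rw [← pow_mul, card_Z2, card_Z3, ← pow_add] at f3
  exact MulEquiv.ext fun e => f3 e e.2

end chain

theorem ne_of_le {p n : ℕ} (h : HypG K p n) (h5 : 5 ≤ p) {m : ℕ} (hm : 0 < m) (hm' : m < p) : (m : K) ≠ 0 := by
  have := h.char
  intro h0
  rw [CharP.cast_eq_zero_iff K p] at h0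
  exact absurd (Nat.le_of_dvd hm h0) (by omega)

/-- the elements of `Γ` acting trivially on `(a, c)` are inner -/
theorem ker5 {p n : ℕ} (h : HypG K p n) (h5 : 5 ≤ p) {Γ : Subgroup (MulAut (Qb K))}
    (syl : ∀ P : Subgroup (MulAut (Qb K)), P ≤ Γ → IsPGroup p P → ∃ g ∈ Γ, ∀ x ∈ P, g * x * g⁻¹ ∈ autInducedBy ⊤ (Qb K))
    {γ : MulAut (Qb K)} (hγ : γ ∈ Γ) (hac : TrivAC γ) : γ ∈ Inn (Qb K) := by
  have := h.fin
  have h2 : (2 : K) ≠ 0 := by exact_mod_cast ne_of_le h h5 (m := 2) (by omega) (by omega)
  have h3 : (3 : K) ≠ 0 := by exact_mod_cast ne_of_le h h5 (m := 3) (by omega) (by omega)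
  have hP : IsPGroup p ↥(Γ ⊓ NAC K) := by
    rintro ⟨x, hx, hx1⟩
    refine ⟨n * 5, Subtype.ext ?_⟩
    show x ^ p ^ (n * 5) = 1
    rw [pow_mul, ← h.card]
    exact ker_pow h2 h3 hx1
  obtain ⟨g, hg, hs⟩ := syl _ inf_le_left hP
  have h4 : g⁻¹ * γ * g ∈ Γ ⊓ NAC K := by
    refine ⟨Γ.mul_mem (Γ.mul_mem (Γ.inv_mem hg) hγ) hg, ?_⟩
    have h6 := TrivAC.conj h2 h3 hac g⁻¹
    rwa [inv_inv] at h6
  have h7 := hs _ h4
  have h8 : g * (g⁻¹ * γ * g) * g⁻¹ = γ := by group
  rw [h8, Cfsg.Agent.H802.mem_autInducedBy_iff] at h7
  obtain ⟨x, -, hx⟩ := h7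
  have hxb : x.b = 0 := by
    have h9 := (hac ⟨x1 1, x1_mem 1⟩).2
    rw [hx, cj_c] at h9
    simp only [x1] at h9
    linear_combination h9
  exact ⟨⟨x, hxb⟩, MulEquiv.ext fun e => Subtype.ext (hx e).symm⟩

end Cfsg.Agent.H353.GT
end

-- part: H904/GT/Pi
section
/-!
# S5211, the long root parabolic, `p` odd: the action on `Q_b / Z₃ = K × K` (helper904)

Coordinates `uu g = (c, a)`; conjugation by `x` is `tau x.b`.
-/

set_option autoImplicit false
set_option linter.unusedSectionVars false

namespace Cfsg.Agent.H904.GT

open Cfsg Cfsg.FusionSystem Cfsg.Agent.H756.PU Cfsg.Agent.H7.PU.Core Cfsg.Agent.H779.G2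
open Cfsg.Agent.H802 (exists_conjAut mem_autInducedBy_iff)

universe u

variable {K : Type u} [Field K] {p n : ℕ}

/-- coordinates -/
def uu (x : GU K) : K × K := (x.c, x.a)

theorem b_Qb (e : Qb K) : (e : GU K).b = 0 := e.2

theorem mul_a' (e e' : Qb K) : ((e * e' : Qb K) : GU K).a = (e : GU K).a + (e' : GU K).a := rfl

theorem mul_c' (e e' : Qb K) : ((e * e' : Qb K) : GU K).c = (e : GU K).c + (e' : GU K).c := by
  have h1 : ((e * e' : Qb K) : GU K) = (e : GU K) * (e' : GU K) := rfl
  rw [h1, GU.mul_c, b_Qb]
  ring

theorem mul_d' (e e' : Qb K) : ((e * e' : Qb K) : GU K).d =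
    (e : GU K).d + (e' : GU K).d + 2 * (e : GU K).c * (e' : GU K).a := by
  have h1 : ((e * e' : Qb K) : GU K) = (e : GU K) * (e' : GU K) := rfl
  rw [h1, GU.mul_d, b_Qb]
  ring

theorem mul_e' (e e' : Qb K) : ((e * e' : Qb K) : GU K).e =
    (e : GU K).e + (e' : GU K).e + 3 * (e : GU K).d * (e' : GU K).a + 3 * (e : GU K).c * (e' : GU K).a ^ 2 := by
  have h1 : ((e * e' : Qb K) : GU K) = (e : GU K) * (e' : GU K) := rfl
  rw [h1, GU.mul_e, b_Qb]
  ring

theorem mul_f' (e e' : Qb K) : ((e * e' : Qb K) : GU K).f =
    (e : GU K).f + (e' : GU K).f + 3 * (e : GU K).d * (e' : GU K).c + 6 * (e : GU K).c * (e' : GU K).a * (e' : GU K).c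
      + 3 * (e : GU K).c ^ 2 * (e' : GU K).a := by
  have h1 : ((e * e' : Qb K) : GU K) = (e : GU K) * (e' : GU K) := rfl
  rw [h1, GU.mul_f, b_Qb, b_Qb]
  ring

theorem ext' {e e' : Qb K} (ha : (e : GU K).a = (e' : GU K).a) (hc : (e : GU K).c = (e' : GU K).c)
    (hd : (e : GU K).d = (e' : GU K).d) (he : (e : GU K).e = (e' : GU K).e) (hf : (e : GU K).f = (e' : GU K).f) : e = e' :=
  Subtype.ext (GU.ext ha (by rw [b_Qb, b_Qb]) hc hd he hf)

theorem uu_mul (e e' : Qb K) : uu ((e * e' : Qb K) : GU K) = uu (e : GU K) + uu (e' : GU K) :=
  Prod.ext (mul_c' e e') (mul_a' e e')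

theorem uu_inv (e : Qb K) : uu ((e⁻¹ : Qb K) : GU K) = - uu (e : GU K) := by
  have h1 := uu_mul e⁻¹ e
  rw [inv_mul_cancel] at h1
  exact eq_neg_of_add_eq_zero_left h1.symm

theorem uu_zero_iff (e : Qb K) : uu (e : GU K) = 0 ↔ (e : GU K).a = 0 ∧ (e : GU K).c = 0 := by
  constructor
  · intro h1
    exact ⟨congrArg Prod.snd h1, congrArg Prod.fst h1⟩
  · rintro ⟨h1, h2⟩
    exact Prod.ext h2 h1

/-- an element of `Q_b` with given coordinates -/
def el (a c d e f : K) : Qb K := ⟨⟨a, 0, c, d, e, f⟩, rfl⟩

theorem el_a (a c d e f : K) : (el a c d e f : GU K).a = a := rfl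
theorem el_c (a c d e f : K) : (el a c d e f : GU K).c = c := rfl
theorem el_d (a c d e f : K) : (el a c d e f : GU K).d = d := rfl
theorem el_e (a c d e f : K) : (el a c d e f : GU K).e = e := rfl
theorem el_f (a c d e f : K) : (el a c d e f : GU K).f = f := rfl

/-- the commutators -/
theorem comm (x y : Qb K) : uu ((x * y * x⁻¹ * y⁻¹ : Qb K) : GU K) = 0 ∧
    ((x * y * x⁻¹ * y⁻¹ : Qb K) : GU K).d =
      2 * ((x : GU K).c * (y : GU K).a - (y : GU K).c * (x : GU K).a) := by
  obtain ⟨z, hz⟩ : ∃ z, z = x * y * x⁻¹ * y⁻¹ := ⟨_, rfl⟩
  have hz0 : uu (z : GU K) = 0 := by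
    rw [hz, uu_mul, uu_mul, uu_mul, uu_inv, uu_inv]
    abel
  obtain ⟨hz1, hz2⟩ := (uu_zero_iff z).1 hz0
  have hxy : x * y = z * (y * x) := by rw [hz]; group
  have ed := congrArg (fun w : Qb K => (w : GU K).d) hxy
  simp only [mul_d', mul_a', hz2] at ed
  rw [← hz]
  exact ⟨hz0, by linear_combination -ed⟩

theorem two_ne (h : HypG K p n) (h2 : p ≠ 2) : (2 : K) ≠ 0 := by
  have := h.char
  intro h3
  have h4 : ((2 : ℕ) : K) = 0 := by exact_mod_cast h3
  rw [CharP.cast_eq_zero_iff K p] at h4
  exact h2 ((Nat.prime_dvd_prime_iff_eq h.pp Nat.prime_two).1 h4)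

theorem three_ne (h : HypG K p n) (h3 : p ≠ 3) : (3 : K) ≠ 0 := by
  have := h.char
  intro h5
  have h4 : ((3 : ℕ) : K) = 0 := by exact_mod_cast h5
  rw [CharP.cast_eq_zero_iff K p] at h4
  exact h3 ((Nat.prime_dvd_prime_iff_eq h.pp Nat.prime_three).1 h4)

theorem three_eq (h : HypG K p n) (h3 : p = 3) : (3 : K) = 0 := by
  have := h.char
  subst h3
  have := CharP.cast_eq_zero K 3
  exact_mod_cast this

/-- central elements, `p = 3` -/
theorem central_iff3 (h2 : (2 : K) ≠ 0) (h3 : (3 : K) = 0) (e : Qb K) :
    (∀ y : Qb K, e * y = y * e) ↔ uu (e : GU K) = 0 := by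
  constructor
  · intro hc
    have h1 : ∀ y : Qb K, 2 * ((e : GU K).c * (y : GU K).a - (y : GU K).c * (e : GU K).a) = 0 := by
      intro y
      rw [← (comm e y).2]
      have : e * y * e⁻¹ * y⁻¹ = 1 := by rw [hc y]; group
      rw [this]
      rfl
    have h4 := h1 (el 1 0 0 0 0)
    have h5 := h1 (el 0 1 0 0 0)
    simp only [el_a, el_c] at h4 h5
    rw [uu_zero_iff]
    constructor
    · have : 2 * (e : GU K).a = 0 := by linear_combination -h5
      exact (mul_eq_zero.1 this).resolve_left h2
    · have : 2 * (e : GU K).c = 0 := by linear_combination h4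
      exact (mul_eq_zero.1 this).resolve_left h2
  · intro h0 y
    obtain ⟨h4, h5⟩ := (uu_zero_iff e).1 h0
    apply ext'
    · rw [mul_a', mul_a', add_comm]
    · rw [mul_c', mul_c', add_comm]
    · rw [mul_d', mul_d', h4, h5]; ring
    · rw [mul_e', mul_e', h4, h5, h3]; ring
    · rw [mul_f', mul_f', h4, h5]
      linear_combination ((e : GU K).d * (y : GU K).c) * h3

/-- central elements, `p ≠ 3` -/
theorem central_iff5 (h2 : (2 : K) ≠ 0) (h3 : (3 : K) ≠ 0) (e : Qb K) :
    (∀ y : Qb K, e * y = y * e) ↔ uu (e : GU K) = 0 ∧ (e : GU K).d = 0 := by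
  constructor
  · intro hc
    have h1 : ∀ y : Qb K, 2 * ((e : GU K).c * (y : GU K).a - (y : GU K).c * (e : GU K).a) = 0 := by
      intro y
      rw [← (comm e y).2]
      have : e * y * e⁻¹ * y⁻¹ = 1 := by rw [hc y]; group
      rw [this]
      rfl
    have h4 := h1 (el 1 0 0 0 0)
    have h5 := h1 (el 0 1 0 0 0)
    simp only [el_a, el_c] at h4 h5
    have ha : (e : GU K).a = 0 := by
      have : 2 * (e : GU K).a = 0 := by linear_combination -h5
      exact (mul_eq_zero.1 this).resolve_left h2
    have hc' : (e : GU K).c = 0 := by
      have : 2 * (e : GU K).c = 0 := by linear_combination h4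
      exact (mul_eq_zero.1 this).resolve_left h2
    refine ⟨(uu_zero_iff e).2 ⟨ha, hc'⟩, ?_⟩
    have h6 := congrArg (fun w : Qb K => (w : GU K).e) (hc (el 1 0 0 0 0))
    simp only [mul_e', el_a, el_c, el_d, el_e, ha, hc'] at h6
    have : 3 * (e : GU K).d = 0 := by linear_combination h6
    exact (mul_eq_zero.1 this).resolve_left h3
  · rintro ⟨h0, h6⟩ y
    obtain ⟨h4, h5⟩ := (uu_zero_iff e).1 h0
    apply ext'
    · rw [mul_a', mul_a', add_comm]
    · rw [mul_c', mul_c', add_comm]
    · rw [mul_d', mul_d', h4, h5]; ring
    · rw [mul_e', mul_e', h4, h5, h6]; ring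
    · rw [mul_f', mul_f', h4, h5, h6]; ring

/-- central elements modulo the centre, `p ≠ 3` -/
theorem central2_iff5 (h2 : (2 : K) ≠ 0) (h3 : (3 : K) ≠ 0) (e : Qb K) :
    (∀ y z : Qb K, (e * y * e⁻¹ * y⁻¹) * z = z * (e * y * e⁻¹ * y⁻¹)) ↔ uu (e : GU K) = 0 := by
  constructor
  · intro hc
    have h1 : ∀ y : Qb K, 2 * ((e : GU K).c * (y : GU K).a - (y : GU K).c * (e : GU K).a) = 0 := by
      intro y
      rw [← (comm e y).2]
      exact ((central_iff5 h2 h3 _).1 (hc y)).2
    have h4 := h1 (el 1 0 0 0 0)
    have h5 := h1 (el 0 1 0 0 0)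
    simp only [el_a, el_c] at h4 h5
    rw [uu_zero_iff]
    constructor
    · have : 2 * (e : GU K).a = 0 := by linear_combination -h5
      exact (mul_eq_zero.1 this).resolve_left h2
    · have : 2 * (e : GU K).c = 0 := by linear_combination h4
      exact (mul_eq_zero.1 this).resolve_left h2
  · intro h0 y
    rw [central_iff5 h2 h3]
    refine ⟨(comm e y).1, ?_⟩
    obtain ⟨h4, h5⟩ := (uu_zero_iff e).1 h0
    rw [(comm e y).2, h4, h5]
    ring

/-- `Z₃` is invariant under all automorphisms of `Q_b` -/
theorem inv_Z3 (h : HypG K p n) (h2 : p ≠ 2) (γ : MulAut (Qb K)) {e : Qb K} (he : uu (e : GU K) = 0) :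
    uu ((γ e : Qb K) : GU K) = 0 := by
  have h2' := two_ne h h2
  by_cases h3 : p = 3
  · have h3' := three_eq h h3
    rw [← central_iff3 h2' h3'] at he ⊢
    intro y
    obtain ⟨z, rfl⟩ := γ.surjective y
    rw [← map_mul, he, map_mul]
  · have h3' := three_ne h h3
    rw [← central2_iff5 h2' h3'] at he ⊢
    intro y z
    obtain ⟨y, rfl⟩ := γ.surjective y
    obtain ⟨z, rfl⟩ := γ.surjective z
    rw [← map_inv, ← map_inv, ← map_mul, ← map_mul, ← map_mul, ← map_mul, he, map_mul]

section Pi

variable (h : HypG K p n) (h2 : p ≠ 2)
include h h2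

omit h h2 in
/-- a section -/
theorem uu_el (u : K × K) (d e f : K) : uu (el u.2 u.1 d e f : GU K) = u := rfl

omit h h2 in
/-- the induced map -/
def fn (γ : MulAut (Qb K)) (u : K × K) : K × K := uu ((γ (el u.2 u.1 0 0 0) : Qb K) : GU K)

theorem fn_uu (γ : MulAut (Qb K)) (e : Qb K) : fn γ (uu (e : GU K)) = uu ((γ e : Qb K) : GU K) := by
  have h1 : uu (((el (uu (e : GU K)).2 (uu (e : GU K)).1 0 0 0)⁻¹ * e : Qb K) : GU K) = 0 := by
    rw [uu_mul, uu_inv, uu_el, neg_add_cancel]
  have h3 := inv_Z3 h h2 γ h1
  rw [map_mul, map_inv, uu_mul, uu_inv, neg_add_eq_zero] at h3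
  exact h3

theorem fn_mul (γ γ' : MulAut (Qb K)) (u : K × K) : fn (γ * γ') u = fn γ (fn γ' u) := by
  conv_lhs => rw [← uu_el u 0 0 0]
  conv_rhs => rw [← uu_el u 0 0 0]
  rw [fn_uu h h2, fn_uu h h2, fn_uu h h2]
  rfl

theorem fn_add (γ : MulAut (Qb K)) (u v : K × K) : fn γ (u + v) = fn γ u + fn γ v := by
  conv_lhs => rw [← uu_el u 0 0 0, ← uu_el v 0 0 0, ← uu_mul]
  conv_rhs => rw [← uu_el u 0 0 0, ← uu_el v 0 0 0]
  rw [fn_uu h h2, fn_uu h h2, fn_uu h h2, map_mul, uu_mul]

/-- **The action on `Q_b / Z₃`.** -/
def pi : MulAut (Qb K) →* A2 K where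
  toFun γ := mk
    { toFun := fn γ
      invFun := fn γ⁻¹
      left_inv := fun u => by rw [← fn_mul h h2, inv_mul_cancel]; rfl
      right_inv := fun u => by rw [← fn_mul h h2, mul_inv_cancel]; rfl
      map_add' := fn_add h h2 γ }
  map_one' := Cfsg.Agent.H7.PU.Core.ext' fun u => rfl
  map_mul' γ γ' := Cfsg.Agent.H7.PU.Core.ext' fun u => fn_mul h h2 γ γ' u

theorem pi_uu (γ : MulAut (Qb K)) (e : Qb K) : pi h h2 γ (uu (e : GU K)) = uu ((γ e : Qb K) : GU K) := fn_uu h h2 γ e

theorem pi_ext {γ : MulAut (Qb K)} {g : A2 K} (hg : ∀ e : Qb K, g (uu (e : GU K)) = uu ((γ e : Qb K) : GU K)) :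
    pi h h2 γ = g := by
  apply Cfsg.Agent.H7.PU.Core.ext'
  intro u
  rw [← uu_el u 0 0 0, pi_uu, hg]

theorem pi_eq_one_iff {γ : MulAut (Qb K)} : pi h h2 γ = 1 ↔
    ∀ g : Qb K, ((γ g : Qb K) : GU K).a = (g : GU K).a ∧ ((γ g : Qb K) : GU K).c = (g : GU K).c := by
  constructor
  · intro h1 g
    have h3 := pi_uu h h2 γ g
    rw [h1] at h3
    exact ⟨(congrArg Prod.snd h3).symm, (congrArg Prod.fst h3).symm⟩
  · intro h1
    apply pi_ext
    intro e
    exact Prod.ext (h1 e).2.symm (h1 e).1.symm

theorem pi_conj {γ : MulAut (Qb K)} {x : GU K} (hx : ∀ e : Qb K, ((γ e : Qb K) : GU K) = x * e * x⁻¹) :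
    pi h h2 γ = tau x.b := by
  apply pi_ext
  intro e
  rw [hx, tau_apply]
  apply Prod.ext
  · simp only [uu, GU.mul_c, GU.mul_a, GU.mul_b, GU.inv_a, GU.inv_c, b_Qb]
    ring
  · simp only [uu, GU.mul_a, GU.inv_a]
    ring

theorem pi_tor {δ : MulAut (Qb K)} {d : MulAut (GU K)} {s t : K} {τ : K ≃+* K} (hd : IsTor d s t τ) (hδ : IsR d δ)
    (u : K × K) : pi h h2 δ u = (s * t * τ u.1, s * τ u.2) := by
  rw [← uu_el u 0 0 0, pi_uu, hδ]
  exact Prod.ext (hd.c _) (hd.a _)

theorem pi_wb {γ : MulAut (Qb K)} (hγ : IsWb γ) (u : K × K) : pi h h2 γ u = (u.2, - u.1) := by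
  rw [← uu_el u 0 0 0, pi_uu]
  exact Prod.ext (hγ.c _) (hγ.a _)

omit h h2 in
/-- conjugation on `Q_b` -/
theorem exists_conj (x : GU K) : ∃ γ : MulAut (Qb K), ∀ e : Qb K, ((γ e : Qb K) : GU K) = x * e * x⁻¹ := by
  apply exists_conjAut
  rw [Subgroup.mem_normalizer_iff]
  intro g
  show g.b = 0 ↔ (x * g * x⁻¹).b = 0
  rw [GU.mul_b, GU.mul_b, GU.inv_b]
  constructor
  · intro h1; rw [h1]; ring
  · intro h1; linear_combination h1

omit h h2 in
theorem exists_conj_aut (x : GU K) : ∃ γ ∈ autInducedBy ⊤ (Qb K), ∀ e : Qb K, ((γ e : Qb K) : GU K) = x * e * x⁻¹ := by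
  obtain ⟨γ, hγ⟩ := exists_conj x
  exact ⟨γ, (mem_autInducedBy_iff _ _ _).2 ⟨x, Subgroup.mem_top x, hγ⟩, hγ⟩

theorem pi_mem_TG {γ : MulAut (Qb K)} (hγ : γ ∈ autInducedBy ⊤ (Qb K)) : pi h h2 γ ∈ TG K := by
  obtain ⟨x, -, hx⟩ := (mem_autInducedBy_iff _ _ _).1 hγ
  rw [pi_conj h h2 hx]
  exact tau_mem _

theorem exists_of_mem_TG {g : A2 K} (hg : g ∈ TG K) : ∃ γ ∈ autInducedBy ⊤ (Qb K), pi h h2 γ = g := by
  obtain ⟨r, rfl⟩ := hg
  obtain ⟨γ, hγ, hx⟩ := exists_conj_aut (⟨0, r, 0, 0, 0, 0⟩ : GU K)
  exact ⟨γ, hγ, pi_conj h h2 hx⟩

omit h h2 in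
theorem Inn_le : Inn (Qb K) ≤ autInducedBy ⊤ (Qb K) := by
  rintro _ ⟨x, rfl⟩
  exact (mem_autInducedBy_iff _ _ _).2 ⟨x, Subgroup.mem_top _, fun e => rfl⟩

end Pi

end Cfsg.Agent.H904.GT
end

-- part: H904/GT/Frame
section
/-!
# S5211, the long root parabolic, `p` odd: the frame (helper904)

`Γ` acts on `Q_b / Z₃` with kernel in `Inn(Q_b)` (hypothesis `hk`).
-/

set_option autoImplicit false
set_option linter.unusedSectionVars false

namespace Cfsg.Agent.H904.GT

open Matrix Cfsg Cfsg.FusionSystem Cfsg.Agent.H756.PU Cfsg.Agent.H7.PU.Core Cfsg.Agent.H779.G2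
open Cfsg.Agent.H802 (exists_conjAut mem_autInducedBy_iff)

universe u

variable {K : Type u} [Field K] {p n : ℕ}

/-- the situation: `ker` says that an element of `Γ` trivial on `Q_b / Z₃` is inner -/
structure LbH (K : Type u) [Field K] (p n : ℕ) (Γ : Subgroup (MulAut (Qb K))) (D : Subgroup (MulAut (GU K))) : Prop where
  hyp : HypG K p n
  odd : p ≠ 2
  five : 5 ≤ p ^ n
  par : Par p (Qb K) Γ D
  ker : ∀ γ ∈ Γ, (∀ g : Qb K, ((γ g : Qb K) : GU K).a = (g : GU K).a ∧ ((γ g : Qb K) : GU K).c = (g : GU K).c) →
    γ ∈ Inn (Qb K)
  grp : StGrp.{u}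

theorem finite_GU (h : HypG K p n) : Finite (GU K) := by
  have := h.fin
  infer_instance

theorem finite_aut (h : HypG K p n) : Finite (MulAut (Qb K)) := by
  have := finite_GU h
  exact Finite.of_injective (fun e : MulAut (Qb K) => (e : Qb K → Qb K)) DFunLike.coe_injective

theorem IsTor_unique {d d' : MulAut (GU K)} {s t : K} {τ : K ≃+* K} (hd : IsTor d s t τ) (hd' : IsTor d' s t τ) :
    d = d' := by
  ext1 g
  apply GU.ext
  · rw [hd.a, hd'.a]
  · rw [hd.b, hd'.b]
  · rw [hd.c, hd'.c]
  · rw [hd.d, hd'.d]
  · rw [hd.e, hd'.e]
  · rw [hd.f, hd'.f]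

theorem IsWb_unique {w w' : MulAut (Qb K)} (hw : IsWb w) (hw' : IsWb w') : w = w' := by
  ext1 g
  apply ext'
  · rw [hw.a, hw'.a]
  · rw [hw.c, hw'.c]
  · rw [hw.d, hw'.d]
  · rw [hw.e, hw'.e]
  · rw [hw.f, hw'.f]

theorem exists_restr (d : MulAut (GU K)) {s t : K} {τ : K ≃+* K} (hd : IsTor d s t τ) :
    ∃ δ : MulAut (Qb K), IsR d δ := by
  have hmem : ∀ x : GU K, d x ∈ Qb K ↔ x ∈ Qb K := by
    intro x
    show (d x).b = 0 ↔ x.b = 0
    rw [hd.b, mul_eq_zero, map_eq_zero]
    simp [hd.ne2]
  refine ⟨{ toFun := fun e => ⟨d e, (hmem _).2 e.2⟩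
            invFun := fun e => ⟨d.symm e, (hmem _).1 (by rw [MulEquiv.apply_symm_apply]; exact e.2)⟩
            left_inv := fun e => Subtype.ext (d.symm_apply_apply _)
            right_inv := fun e => Subtype.ext (d.apply_symm_apply _)
            map_mul' := fun x y => Subtype.ext (map_mul d _ _) }, fun e => rfl⟩

/-- `SL₂(K)` is generated by the root group and the Weyl element -/
theorem gen (h : HypG K p n) (h2 : p ≠ 2) {Λ : Subgroup (MulAut (Qb K))} (hA : autInducedBy ⊤ (Qb K) ≤ Λ)
    {w : MulAut (Qb K)} (hw : IsWb w) (hwL : w ∈ Λ) (M : Matrix.SpecialLinearGroup (Fin 2) K) :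
    ∃ l ∈ Λ, ∀ u, pi h h2 l u = ml (M : Matrix (Fin 2) (Fin 2) K) u := by
  have htau : ∀ r : K, ∃ l ∈ Λ, pi h h2 l = tau r := by
    intro r
    obtain ⟨γ, hγ, hr⟩ := exists_of_mem_TG h h2 (tau_mem r)
    exact ⟨γ, hA hγ, hr⟩
  have hwi : ∀ u : K × K, (pi h h2 w)⁻¹ u = (- u.2, u.1) := by
    intro u
    apply (pi h h2 w).injective
    rw [ai, pi_wb h h2 hw]
    apply Prod.ext
    · rfl
    · show u.2 = - - u.2
      rw [neg_neg]
  have hc : ∀ M : Matrix (Fin 2) (Fin 2) K, M.det = 1 → M 1 0 ≠ 0 → ∃ l ∈ Λ, ∀ u, pi h h2 l u = ml M u := by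
    intro M hdet h0
    rw [Matrix.det_fin_two] at hdet
    obtain ⟨l1, hl1, e1⟩ := htau ((M 0 0 - 1) / M 1 0)
    obtain ⟨l2, hl2, e2⟩ := htau (- M 1 0)
    obtain ⟨l3, hl3, e3⟩ := htau ((M 1 1 - 1) / M 1 0)
    refine ⟨l1 * (w * l2 * w⁻¹) * l3, mul_mem (mul_mem hl1 (mul_mem (mul_mem hwL hl2) (_root_.InvMemClass.inv_mem hwL))) hl3, fun u => ?_⟩
    rw [map_mul, map_mul, map_mul, map_mul, map_inv, e1, e2, e3, LinearEquiv.mul_apply, LinearEquiv.mul_apply,
      LinearEquiv.mul_apply, LinearEquiv.mul_apply, hwi, pi_wb h h2 hw]
    apply Prod.ext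
    · simp only [tau_apply, ml]
      field_simp
      linear_combination u.2 * hdet
    · simp only [tau_apply, ml]
      field_simp
      ring
  by_cases h0 : (M : Matrix (Fin 2) (Fin 2) K) 1 0 = 0
  · have hdet := M.det_coe
    rw [Matrix.det_fin_two, h0, mul_zero, sub_zero] at hdet
    obtain ⟨l, hl, hlu⟩ := hc !![0, (M : Matrix (Fin 2) (Fin 2) K) 1 1; - (M : Matrix (Fin 2) (Fin 2) K) 0 0,
      - (M : Matrix (Fin 2) (Fin 2) K) 0 1] (by
        rw [Matrix.det_fin_two_of]
        linear_combination hdet) (by
        show - (M : Matrix (Fin 2) (Fin 2) K) 0 0 ≠ 0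
        intro h1
        rw [neg_eq_zero] at h1
        rw [h1, zero_mul] at hdet
        exact zero_ne_one hdet)
    refine ⟨w⁻¹ * l, mul_mem (_root_.InvMemClass.inv_mem hwL) hl, fun u => ?_⟩
    rw [map_mul, map_inv, LinearEquiv.mul_apply, hwi, hlu]
    apply Prod.ext
    · show - (- (M : Matrix (Fin 2) (Fin 2) K) 0 0 * u.1 + - (M : Matrix (Fin 2) (Fin 2) K) 0 1 * u.2) =
        (M : Matrix (Fin 2) (Fin 2) K) 0 0 * u.1 + (M : Matrix (Fin 2) (Fin 2) K) 0 1 * u.2
      ring
    · show 0 * u.1 + (M : Matrix (Fin 2) (Fin 2) K) 1 1 * u.2 =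
        (M : Matrix (Fin 2) (Fin 2) K) 1 0 * u.1 + (M : Matrix (Fin 2) (Fin 2) K) 1 1 * u.2
      rw [h0]
  · exact hc _ M.det_coe h0

namespace LbH

variable {Γ : Subgroup (MulAut (Qb K))} {D : Subgroup (MulAut (GU K))} (h : LbH K p n Γ D)
include h

theorem ker' {γ : MulAut (Qb K)} (hγ : γ ∈ Γ) (h1 : pi h.hyp h.odd γ = 1) : γ ∈ Inn (Qb K) :=
  h.ker γ hγ ((pi_eq_one_iff h.hyp h.odd).1 h1)

theorem Inn_le_G : Inn (Qb K) ≤ Γ := Inn_le.trans h.par.indu

theorem mem_aut_iff {γ : MulAut (Qb K)} (hγ : γ ∈ Γ) : pi h.hyp h.odd γ ∈ TG K ↔ γ ∈ autInducedBy ⊤ (Qb K) := by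
  constructor
  · intro h1
    obtain ⟨x, hx, hxγ⟩ := exists_of_mem_TG h.hyp h.odd h1
    have h2 : x⁻¹ * γ ∈ autInducedBy ⊤ (Qb K) := by
      apply Inn_le
      apply h.ker' (mul_mem (_root_.InvMemClass.inv_mem (h.par.indu hx)) hγ)
      rw [map_mul, map_inv, hxγ, inv_mul_cancel]
    have h3 := mul_mem hx h2
    rwa [mul_inv_cancel_left] at h3
  · intro h1
    exact pi_mem_TG h.hyp h.odd h1

theorem isPGroup_GU : IsPGroup p (⊤ : Subgroup (GU K)) := (h.grp h.hyp).2.1

theorem ker_p {γ : MulAut (Qb K)} (hγ : γ ∈ Γ) (h1 : pi h.hyp h.odd γ = 1) : ∃ k : ℕ, γ ^ p ^ k = 1 := by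
  have h2 := Inn_le (h.ker' hγ h1)
  obtain ⟨k, hk⟩ := Cfsg.Agent.H802.isPGroup_autInducedBy h.isPGroup_GU (Qb K) ⟨γ, h2⟩
  exact ⟨k, congrArg Subtype.val hk⟩

/-- **The hypotheses of `Core`.** -/
theorem core : Hyp K p (Γ.map (pi h.hyp h.odd)) := by
  have := finite_aut h.hyp
  refine ⟨h.hyp.fin, h.hyp.pp, h.hyp.char, ?_, ?_, ?_⟩
  · intro g hg
    obtain ⟨x, hx, rfl⟩ := exists_of_mem_TG h.hyp h.odd hg
    exact ⟨x, h.par.indu hx, rfl⟩
  · intro P hPG hP hTP
    have hP' : IsPGroup p ↥(Γ ⊓ P.comap (pi h.hyp h.odd)) := by
      rintro ⟨x, hx, hx1⟩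
      obtain ⟨k, hk⟩ := hP ⟨pi h.hyp h.odd x, hx1⟩
      have hk' : pi h.hyp h.odd x ^ p ^ k = 1 := congrArg Subtype.val hk
      obtain ⟨m, hm⟩ := h.ker_p (pow_mem hx (p ^ k)) (by rw [map_pow, hk'])
      refine ⟨k + m, Subtype.ext ?_⟩
      show x ^ p ^ (k + m) = 1
      rw [pow_add, pow_mul, hm]
    obtain ⟨g, hg, hs⟩ := h.par.syl _ inf_le_left hP'
    have hA : autInducedBy ⊤ (Qb K) ≤ Γ ⊓ P.comap (pi h.hyp h.odd) := fun x hx =>
      ⟨h.par.indu hx, hTP (pi_mem_TG h.hyp h.odd hx)⟩
    have hcard : Nat.card ↥(Γ ⊓ P.comap (pi h.hyp h.odd)) ≤ Nat.card ↥(autInducedBy ⊤ (Qb K)) := by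
      refine Nat.card_le_card_of_injective (fun x => ⟨g * x.1 * g⁻¹, hs x.1 x.2⟩) ?_
      intro x y hxy
      have h1 : g * x.1 * g⁻¹ = g * y.1 * g⁻¹ := congrArg Subtype.val hxy
      exact Subtype.ext (mul_left_cancel (mul_right_cancel h1))
    have heq := Subgroup.eq_of_le_of_card_ge hA hcard
    intro y hy
    obtain ⟨x, hx, rfl⟩ := hPG hy
    have h2 : x ∈ Γ ⊓ P.comap (pi h.hyp h.odd) := ⟨hx, hy⟩
    rw [← heq] at h2
    exact pi_mem_TG h.hyp h.odd h2
  · by_contra hno
    push Not at hno
    apply h.par.nn
    intro γ hγ x hx
    have h1 := hno (pi h.hyp h.odd γ) ⟨γ, hγ, rfl⟩ (pi h.hyp h.odd x) (pi_mem_TG h.hyp h.odd hx)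
    rw [← map_inv, ← map_mul, ← map_mul] at h1
    exact (h.mem_aut_iff (mul_mem (mul_mem hγ (h.par.indu hx)) (_root_.InvMemClass.inv_mem hγ))).1 h1

/-- elements which normalize the root group -/
theorem norm_form {g : A2 K} (hg : g ∈ Γ.map (pi h.hyp h.odd)) (hn : ∀ t ∈ TG K, g * t * g⁻¹ ∈ TG K) :
    ∃ (r : K) (d : MulAut (GU K)) (s t : K) (τ : K ≃+* K) (δ : MulAut (Qb K)), d ∈ D ∧ IsTor d s t τ ∧ IsR d δ ∧
      g = tau r * pi h.hyp h.odd δ := by
  obtain ⟨γ, hγ, rfl⟩ := hg
  have h1 : NormAut ⊤ γ := by
    intro x hx
    have h2 := hn _ (pi_mem_TG h.hyp h.odd hx)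
    rw [← map_inv, ← map_mul, ← map_mul] at h2
    exact (h.mem_aut_iff (mul_mem (mul_mem hγ (h.par.indu hx)) (_root_.InvMemClass.inv_mem hγ))).1 h2
  obtain ⟨x, d, hd, hx⟩ := h.par.norm γ hγ h1
  rcases (h.grp h.hyp).2.2.2.2.1 d (h.par.D_le hd) with ⟨s, t, τ, hdt⟩ | ⟨s, t, τ, α', ρ, hα', hρ, hdr⟩
  · obtain ⟨δ, hδ⟩ := exists_restr d hdt
    refine ⟨x.b, d, s, t, τ, δ, hd, hdt, hδ, ?_⟩
    obtain ⟨c, -, hc⟩ := exists_conj_aut x
    rw [← pi_conj h.hyp h.odd hc, ← map_mul]
    congr 1
    ext1 e
    apply Subtype.ext
    rw [MulAut.mul_apply, hc, hδ, hx]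
  · exfalso
    have h2 := hx (el 1 0 0 0 0)
    have h3 := congrArg GU.b h2
    rw [b_Qb, hdr, MulAut.mul_apply, GU.mul_b, GU.mul_b, GU.inv_b, hα'.b, hρ.b, el_a, one_pow, map_one] at h3
    apply hα'.ne2
    linear_combination -h3

/-- the diagonal elements -/
theorem diag_step {ψ : K →+ K}
    (h1 : ∀ M : Matrix.SpecialLinearGroup (Fin 2) K, ∃ l ∈ LG (Γ.map (pi h.hyp h.odd)), ∀ u,
      sh ψ (l u) = ml (M : Matrix (Fin 2) (Fin 2) K) (sh ψ u)) {t : K} (ht : t ≠ 0) :
    (∃ d ∈ D, IsTor d t⁻¹ (t ^ 2) (RingEquiv.refl K)) ∧ ∃ r : K, ∀ u : K, r * (t⁻¹ * u) + ψ (t⁻¹ * u) = t * ψ u := by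
  have hH := h.core
  obtain ⟨l, hl, hM⟩ := h1 ⟨!![t, 0; 0, t⁻¹], by rw [Matrix.det_fin_two_of, mul_inv_cancel₀ ht]; ring⟩
  have hM' : ∀ u, sh ψ (l u) = (t * (sh ψ u).1, t⁻¹ * (sh ψ u).2) := by
    intro u
    rw [hM]
    apply Prod.ext
    · show t * _ + 0 * _ = _
      ring
    · show 0 * _ + t⁻¹ * _ = _
      ring
  have hinj : ∀ u v, sh ψ u = sh ψ v → u = v := by
    intro u v huv
    have e2' : (sh ψ u).2 = (sh ψ v).2 := by rw [huv]
    have e1' : (sh ψ u).1 = (sh ψ v).1 := by rw [huv]
    have e2 : u.2 = v.2 := e2'
    have e1 : u.1 + ψ u.2 = v.1 + ψ v.2 := e1'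
    rw [e2] at e1
    exact Prod.ext (add_right_cancel e1) e2
  have htau : ∀ r u, sh ψ (tau r u) = tau r (sh ψ u) := by
    intro r u
    apply Prod.ext
    · show u.1 + r * u.2 + ψ u.2 = u.1 + ψ u.2 + r * u.2
      ring
    · rfl
  have hn : ∀ s ∈ TG K, l * s * l⁻¹ ∈ TG K := by
    rintro _ ⟨r, rfl⟩
    refine ⟨t * r * t, ?_⟩
    rw [mul_inv_eq_iff_eq_mul]
    apply Cfsg.Agent.H7.PU.Core.ext'
    intro u
    rw [LinearEquiv.mul_apply, LinearEquiv.mul_apply]
    apply hinj
    rw [hM', htau, htau, hM']
    apply Prod.ext
    · show t * ((sh ψ u).1 + r * (sh ψ u).2) = t * (sh ψ u).1 + t * r * t * (t⁻¹ * (sh ψ u).2)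
      field_simp
    · rfl
  obtain ⟨r, d, s, t', τ, δ, hd, hdt, hδ, hlr⟩ := h.norm_form (LG_le hH.le hl) hn
  have hlu : ∀ u : K × K, l u = (s * t' * τ u.1 + r * (s * τ u.2), s * τ u.2) := by
    intro u
    rw [hlr, LinearEquiv.mul_apply, pi_tor h.hyp h.odd hdt hδ, tau_apply]
  have hx1 : ∀ x, s * t' * τ x = t * x := by
    intro x
    have h2 := congrArg Prod.fst (hM' (x, 0))
    rw [hlu] at h2
    simp only [sh, map_zero, mul_zero, add_zero] at h2
    exact h2
  have hx2 : ∀ x, s * τ x = t⁻¹ * x := by
    intro x
    have h2 := congrArg Prod.snd (hM' (0, x))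
    rw [hlu] at h2
    exact h2
  have ex2 : s = t⁻¹ := by
    have := hx2 1
    rwa [map_one, mul_one, mul_one] at this
  have ex1 : t' = t ^ 2 := by
    have := hx1 1
    rw [map_one, mul_one, mul_one, ex2] at this
    field_simp at this
    exact this
  have eτ : τ = RingEquiv.refl K := by
    ext x
    have := hx2 x
    rw [ex2] at this
    exact mul_left_cancel₀ (inv_ne_zero ht) this
  rw [ex1, ex2, eτ] at hdt
  refine ⟨⟨d, hd, hdt⟩, r, fun u => ?_⟩
  have h2 := congrArg Prod.fst (hM' (0, u))
  rw [hlu] at h2
  simp only [sh, map_zero, mul_zero, zero_add, hx2] at h2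
  exact h2

/-- **The image of `Γ` contains `SL₂(K)`.** -/
theorem main1 :
    (∀ M : Matrix.SpecialLinearGroup (Fin 2) K, ∃ l ∈ LG (Γ.map (pi h.hyp h.odd)), ∀ u, l u = ml (M : Matrix (Fin 2) (Fin 2) K) u) ∧
    (∀ l ∈ LG (Γ.map (pi h.hyp h.odd)), ∃ M : Matrix.SpecialLinearGroup (Fin 2) K, ∀ u, l u = ml (M : Matrix (Fin 2) (Fin 2) K) u) ∧
    HasTor D (fun t => t⁻¹) (fun t => t ^ 2) := by
  have hH := h.core
  have := h.hyp.fin
  obtain ⟨ψ, h1, h2⟩ := hH.exists_shear
  obtain ⟨k, hk⟩ := Cfsg.Agent.H7.PU.Shear.lin1 (by rw [h.hyp.card]; exact h.five) ψ (fun t ht => (h.diag_step h1 ht).2)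
  obtain ⟨h3, h4⟩ := Cfsg.Agent.H7.PU.Shear.exact hk h1 h2
  refine ⟨h3, h4, ?_⟩
  intro t ht α hα
  obtain ⟨⟨d, hd, hdt⟩, -⟩ := h.diag_step h1 ht
  rw [IsTor_unique hα hdt]
  exact hd

theorem hasTor : HasTor D (fun t => t⁻¹) (fun t => t ^ 2) := h.main1.2.2

/-- every element of `SL₂(K)` is the image of an element of `Γ` -/
theorem exists_lift (M : Matrix.SpecialLinearGroup (Fin 2) K) :
    ∃ γ ∈ Γ, ∀ u, pi h.hyp h.odd γ u = ml (M : Matrix (Fin 2) (Fin 2) K) u := by
  obtain ⟨l, hl, hlu⟩ := h.main1.1 M
  obtain ⟨γ, hγ, hγl⟩ := LG_le h.core.le hl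
  exact ⟨γ, hγ, fun u => by rw [hγl, hlu]⟩

/-- **`Γ = Gen`, as soon as the Weyl element is in `Γ`.** -/
theorem eq_Gen {w : MulAut (Qb K)} (hw : IsWb w) (hwG : w ∈ Γ) : Γ = Gen IsWb D := by
  have hH := h.core
  obtain ⟨h3, h4, -⟩ := h.main1
  have hAG : autInducedBy ⊤ (Qb K) ≤ Gen IsWb D := fun x hx => Subgroup.subset_closure (Or.inl (Or.inl hx))
  have hwL : w ∈ Gen IsWb D := Subgroup.subset_closure (Or.inl (Or.inr hw))
  have hle : Gen IsWb D ≤ Γ := by
    refine (Subgroup.closure_le _).2 ?_
    rintro x ((hx | hx) | ⟨d, hd, hx⟩)
    · exact h.par.indu hx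
    · rw [IsWb_unique hx hw]
      exact hwG
    · exact h.par.D_res d hd x hx
  apply le_antisymm _ hle
  intro γ hγ
  obtain ⟨g, hg⟩ : ∃ g, g = pi h.hyp h.odd γ := ⟨_, rfl⟩
  have hgG : g ∈ Γ.map (pi h.hyp h.odd) := ⟨γ, hγ, hg.symm⟩
  -- move the fixed vector
  have hv0 : g (1, 0) ≠ 0 := by
    intro h5
    have h6 : g (1, 0) = g 0 := by rw [h5, map_zero]
    have h7 := congrArg Prod.fst (g.injective h6)
    exact one_ne_zero h7
  obtain ⟨N, hN⟩ := Hyp.exists_to_one (F := K) (w := ![(g (1, 0)).1, (g (1, 0)).2]) (by
    intro h5
    apply hv0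
    exact Prod.ext (congrFun h5 0) (congrFun h5 1))
  obtain ⟨l, hl, hlN⟩ := h3 N
  have hlv : l (g (1, 0)) = (1, 0) := by
    rw [hlN]
    have e0 := congrFun hN 0
    have e1 := congrFun hN 1
    simp only [Matrix.mulVec, dotProduct, Fin.sum_univ_two, Matrix.cons_val_zero, Matrix.cons_val_one,
      Matrix.cons_val_fin_one] at e0 e1
    exact Prod.ext e0 e1
  have hn : ∀ t ∈ TG K, (l * g) * t * (l * g)⁻¹ ∈ TG K := by
    rintro _ ⟨r, rfl⟩
    have h5 : l * g * tau r * (l * g)⁻¹ ∈ LG (Γ.map (pi h.hyp h.odd)) := by
      have h6 : l * g * tau r * (l * g)⁻¹ = l * (g * tau r * g⁻¹) * l⁻¹ := by group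
      rw [h6]
      exact mul_mem (mul_mem hl (conj_mem_LG hgG (tau_mem r))) (_root_.InvMemClass.inv_mem hl)
    obtain ⟨M, hM⟩ := h4 _ h5
    have h6 : (l * g)⁻¹ (1, 0) = (1, 0) := by
      apply (l * g).injective
      rw [ai, LinearEquiv.mul_apply, hlv]
    have h7 := hM (1, 0)
    rw [LinearEquiv.mul_apply, LinearEquiv.mul_apply, h6, tau_apply, mul_zero, add_zero, LinearEquiv.mul_apply,
      hlv] at h7
    have e0 : (M : Matrix (Fin 2) (Fin 2) K) 0 0 = 1 := by
      have := congrArg Prod.fst h7
      simp only [ml] at this
      simpa using this.symm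
    have e1 : (M : Matrix (Fin 2) (Fin 2) K) 1 0 = 0 := by
      have := congrArg Prod.snd h7
      simp only [ml] at this
      simpa using this.symm
    have hdet := M.det_coe
    rw [Matrix.det_fin_two, e0, e1, one_mul, mul_zero, sub_zero] at hdet
    refine ⟨(M : Matrix (Fin 2) (Fin 2) K) 0 1, ?_⟩
    apply Cfsg.Agent.H7.PU.Core.ext'
    intro u
    rw [hM, tau_apply, ml, e0, e1, hdet, one_mul, zero_mul, zero_add, one_mul]
  obtain ⟨r, d, s, t, τ, δ, hd, hdt, hδ, hlg⟩ := h.norm_form (mul_mem (LG_le hH.le hl) hgG) hn
  have h5 : l⁻¹ * tau r ∈ LG (Γ.map (pi h.hyp h.odd)) := mul_mem (_root_.InvMemClass.inv_mem hl) (TG_le_LG _ (tau_mem r))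
  obtain ⟨M, hM⟩ := h4 _ h5
  obtain ⟨lam, hlam, hlamM⟩ := gen h.hyp h.odd hAG hw hwL M
  have h6 : pi h.hyp h.odd lam = l⁻¹ * tau r := by
    apply Cfsg.Agent.H7.PU.Core.ext'
    intro u
    rw [hlamM, hM]
  have h7 : pi h.hyp h.odd γ = pi h.hyp h.odd (lam * δ) := by
    rw [map_mul, h6, mul_assoc, ← hlg, ← hg]
    group
  have hδG : δ ∈ Gen IsWb D := Subgroup.subset_closure (Or.inr ⟨d, hd, hδ⟩)
  have hm : lam * δ ∈ Gen IsWb D := mul_mem hlam hδG
  have h8 : γ * (lam * δ)⁻¹ ∈ Inn (Qb K) := by
    apply h.ker' (mul_mem hγ (_root_.InvMemClass.inv_mem (hle hm)))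
    rw [map_mul, map_inv, h7, mul_inv_cancel]
  have h9 := mul_mem (hAG (Inn_le h8)) hm
  rwa [inv_mul_cancel_right] at h9

end LbH

end Cfsg.Agent.H904.GT
end

-- part: H904/GT/Kap
section
/-!
# S5211, the long root parabolic, `p` odd: comparison with the Weyl element (helper904)

`κ = g w⁻¹` with `g ∈ Γ`, `w` the Weyl element, both with the same image on `Q_b / Z₃`, commutes with the torus modulo `Inn(Q_b)`.
-/

set_option autoImplicit false
set_option linter.unusedSectionVars false

namespace Cfsg.Agent.H904.GT

open Matrix Cfsg Cfsg.FusionSystem Cfsg.Agent.H756.PU Cfsg.Agent.H7.PU.Core Cfsg.Agent.H779.G2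
open Cfsg.Agent.H802 (exists_conjAut mem_autInducedBy_iff)

universe u

variable {K : Type u} [Field K] {p n : ℕ}

/-- the restriction of `tor(s, t)` to `Q_b` -/
structure IsTb (δ : MulAut (Qb K)) (s t : K) : Prop where
  a : ∀ g : Qb K, ((δ g : Qb K) : GU K).a = s * (g : GU K).a
  c : ∀ g : Qb K, ((δ g : Qb K) : GU K).c = s * t * (g : GU K).c
  d : ∀ g : Qb K, ((δ g : Qb K) : GU K).d = s ^ 2 * t * (g : GU K).d
  e : ∀ g : Qb K, ((δ g : Qb K) : GU K).e = s ^ 3 * t * (g : GU K).e
  f : ∀ g : Qb K, ((δ g : Qb K) : GU K).f = s ^ 3 * t ^ 2 * (g : GU K).f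

theorem tb_wb {δ δ' w : MulAut (Qb K)} {s t : K} (ht : t ≠ 0) (hδ : IsTb δ s t) (hδ' : IsTb δ' (s * t) t⁻¹)
    (hw : IsWb w) : w * δ' = δ * w := by
  ext1 g
  rw [MulAut.mul_apply, MulAut.mul_apply]
  apply ext'
  · rw [hw.a, hδ.a, hδ'.c, hw.a]
    field_simp
  · rw [hw.c, hδ.c, hδ'.a, hw.c]
  · rw [hw.d, hδ.d, hδ'.d, hδ'.a, hδ'.c, hw.d]
    field_simp
  · rw [hw.e, hδ.e, hδ'.f, hδ'.a, hδ'.c, hw.e]
    field_simp
  · rw [hw.f, hδ.f, hδ'.e, hδ'.a, hδ'.c, hw.f]
    field_simp

theorem LbH.exists_tb {Γ : Subgroup (MulAut (Qb K))} {D : Subgroup (MulAut (GU K))} (h : LbH K p n Γ D) (hF : Full D)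
    {s t : K} (hs : s ≠ 0) (ht : t ≠ 0) : ∃ δ ∈ Γ, IsTb δ s t := by
  obtain ⟨α, hα⟩ := (h.grp h.hyp).2.2.1 s t (RingEquiv.refl K) hs ht
  obtain ⟨δ, hδ⟩ := exists_restr α hα
  refine ⟨δ, h.par.D_res α (hF s t α hα) δ hδ, ?_⟩
  constructor
  · intro g; rw [hδ, hα.a]; rfl
  · intro g; rw [hδ, hα.c]; rfl
  · intro g; rw [hδ, hα.d]; rfl
  · intro g; rw [hδ, hα.e]; rfl
  · intro g; rw [hδ, hα.f]; rfl

/-- **Equivariance modulo inner automorphisms.** -/
theorem LbH.equi {Γ : Subgroup (MulAut (Qb K))} {D : Subgroup (MulAut (GU K))} (h : LbH K p n Γ D) (hF : Full D)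
    {w g : MulAut (Qb K)} (hw : IsWb w) (hg : g ∈ Γ) (hgw : pi h.hyp h.odd g = pi h.hyp h.odd w)
    {s t : K} (hs : s ≠ 0) (ht : t ≠ 0) : ∃ δ : MulAut (Qb K), IsTb δ s t ∧ ∃ q : Qb K, ∀ x : Qb K,
      (g * w⁻¹) (δ x) = q * δ ((g * w⁻¹) x) * q⁻¹ := by
  obtain ⟨δ, hδΓ, hδ⟩ := h.exists_tb hF hs ht
  obtain ⟨δ', hδ'Γ, hδ'⟩ := h.exists_tb hF (mul_ne_zero hs ht) (inv_ne_zero ht)
  have h1 := tb_wb ht hδ hδ' hw
  have h2 : (g * w⁻¹) * δ * (g * w⁻¹)⁻¹ * δ⁻¹ = g * δ' * g⁻¹ * δ⁻¹ := by
    have h3 : w⁻¹ * δ * w = δ' := by rw [mul_assoc, ← h1]; group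
    rw [← h3]
    group
  have h3 : (g * w⁻¹) * δ * (g * w⁻¹)⁻¹ * δ⁻¹ ∈ Inn (Qb K) := by
    apply h.ker'
    · rw [h2]
      exact mul_mem (mul_mem (mul_mem hg hδ'Γ) (_root_.InvMemClass.inv_mem hg)) (_root_.InvMemClass.inv_mem hδΓ)
    · have h4 : pi h.hyp h.odd (g * w⁻¹) = 1 := by rw [map_mul, map_inv, hgw, mul_inv_cancel]
      rw [map_mul, map_mul, map_mul, map_inv, h4, map_inv]
      group
  obtain ⟨q, hq⟩ := h3
  refine ⟨δ, hδ, q, fun x => ?_⟩
  have h4 : MulAut.conj q * (δ * (g * w⁻¹)) = (g * w⁻¹) * δ := by
    rw [hq]
    group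
  have h5 := congrArg (fun θ : MulAut (Qb K) => θ x) h4
  exact h5.symm

/-- an element of `Γ` with the image of the Weyl element -/
theorem LbH.exists_g {Γ : Subgroup (MulAut (Qb K))} {D : Subgroup (MulAut (GU K))} (h : LbH K p n Γ D)
    {w : MulAut (Qb K)} (hw : IsWb w) : ∃ g ∈ Γ, pi h.hyp h.odd g = pi h.hyp h.odd w := by
  obtain ⟨g, hg, hu⟩ := h.exists_lift ⟨!![0, 1; -1, 0], by rw [Matrix.det_fin_two_of]; ring⟩
  refine ⟨g, hg, ?_⟩
  apply Cfsg.Agent.H7.PU.Core.ext'
  intro u
  rw [hu, pi_wb h.hyp h.odd hw]
  apply Prod.ext
  · show 0 * u.1 + 1 * u.2 = u.2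
    ring
  · show -1 * u.1 + 0 * u.2 = - u.1
    ring

/-! ### additive functions on `Q_b` -/

theorem conj_c (q y : Qb K) : ((q * y * q⁻¹ : Qb K) : GU K).c = (y : GU K).c := by
  obtain ⟨z, hz⟩ : ∃ z, z = q * y * q⁻¹ := ⟨_, rfl⟩
  have h1 : z * q = q * y := by rw [hz]; group
  have h3 := congrArg (fun w : Qb K => (w : GU K).c) h1
  simp only [mul_c'] at h3
  rw [← hz]
  linear_combination h3

theorem conj_a (q y : Qb K) : ((q * y * q⁻¹ : Qb K) : GU K).a = (y : GU K).a := by
  obtain ⟨z, hz⟩ : ∃ z, z = q * y * q⁻¹ := ⟨_, rfl⟩
  have h1 : z * q = q * y := by rw [hz]; group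
  have h3 := congrArg (fun w : Qb K => (w : GU K).a) h1
  simp only [mul_a'] at h3
  rw [← hz]
  linear_combination h3

theorem conj_d (q y : Qb K) : ((q * y * q⁻¹ : Qb K) : GU K).d =
    (y : GU K).d + 2 * ((q : GU K).c * (y : GU K).a - (y : GU K).c * (q : GU K).a) := by
  have hc := conj_c q y
  obtain ⟨z, hz⟩ : ∃ z, z = q * y * q⁻¹ := ⟨_, rfl⟩
  have h1 : z * q = q * y := by rw [hz]; group
  have h2 := congrArg (fun w : Qb K => (w : GU K).d) h1
  simp only [mul_d'] at h2
  rw [← hz] at hc ⊢
  rw [hc] at h2
  linear_combination h2

/-- an additive function -/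
def Ad (f : Qb K → K) : Prop := ∀ x y, f (x * y) = f x + f y

namespace Ad

variable {f : Qb K → K} (hf : Ad f)
include hf

theorem one : f 1 = 0 := by
  have := hf 1 1
  rw [one_mul] at this
  exact left_eq_add.1 this

theorem inv (x : Qb K) : f x⁻¹ = - f x := by
  have := hf x⁻¹ x
  rw [inv_mul_cancel, hf.one] at this
  exact eq_neg_of_add_eq_zero_left this.symm

theorem comm (x y : Qb K) : f (x * y * x⁻¹ * y⁻¹) = 0 := by
  rw [hf, hf, hf, hf.inv, hf.inv]
  ring

theorem eq (x : Qb K) : f x = f (el (x : GU K).a 0 0 0 0) + f (el 0 (x : GU K).c 0 0 0) + f (el 0 0 (x : GU K).d 0 0)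
    + f (el 0 0 0 (x : GU K).e 0) + f (el 0 0 0 0 (x : GU K).f) := by
  rw [← hf, ← hf, ← hf, ← hf]
  congr 1
  apply ext'
  · simp only [mul_a', el_a]; ring
  · simp only [mul_c', el_c]; ring
  · simp only [mul_d', mul_c', el_a, el_c, el_d]; ring
  · simp only [mul_e', mul_d', mul_c', el_a, el_c, el_d, el_e]; ring
  · simp only [mul_f', mul_d', mul_c', el_a, el_c, el_d, el_f]; ring

theorem e_add (x y : K) : f (el 0 0 0 (x + y) 0) = f (el 0 0 0 x 0) + f (el 0 0 0 y 0) := by
  rw [← hf]
  congr 1
  apply ext'
  · simp only [mul_a', el_a]; ring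
  · simp only [mul_c', el_c]; ring
  · simp only [mul_d', el_a, el_c, el_d]; ring
  · simp only [mul_e', el_a, el_c, el_d, el_e]; ring
  · simp only [mul_f', el_a, el_c, el_d, el_f]; ring

end Ad

theorem add_neg' {g : K → K} (hg : ∀ x y, g (x + y) = g x + g y) (x : K) : g (-x) = - g x := by
  have h0 : g 0 = 0 := by
    have := hg 0 0
    rw [add_zero] at this
    exact left_eq_add.1 this
  have := hg (-x) x
  rw [neg_add_cancel, h0] at this
  exact eq_neg_of_add_eq_zero_left this.symm

end Cfsg.Agent.H904.GT
end

-- part: H353/GT/Lb5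
section
/-!
# S5211: the Weyl element of the long root parabolic and `StLb` for `p ≥ 5` (task LB-5)

The frame is helper904's `LbH`; the kernel is `ker5`.
-/

set_option autoImplicit false

namespace Cfsg.Agent.H353.GT

open Cfsg Cfsg.Agent.H779.G2 Cfsg.Agent.H756.PU Cfsg.Agent.H103.GT
open Cfsg.Agent.H732.PU (Triv Fx fx_step)
open Cfsg.Agent.H904.GT (LbH)

universe u

variable {K : Type u} [Field K]

/-- `T` acts on `Q_b` as the torus element `(s, t)` -/
structure TorQ (T : MulAut (Qb K)) (s t : K) : Prop where
  a : ∀ g : Qb K, ((T g : Qb K) : GU K).a = s * (g : GU K).a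
  c : ∀ g : Qb K, ((T g : Qb K) : GU K).c = s * t * (g : GU K).c
  d : ∀ g : Qb K, ((T g : Qb K) : GU K).d = s ^ 2 * t * (g : GU K).d
  e : ∀ g : Qb K, ((T g : Qb K) : GU K).e = s ^ 3 * t * (g : GU K).e
  f : ∀ g : Qb K, ((T g : Qb K) : GU K).f = s ^ 3 * t ^ 2 * (g : GU K).f

/-- restriction of torus elements to `Q_b` -/
theorem exists_torQ {s t : K} (hs : s ≠ 0) (ht : t ≠ 0) :
    ∃ (α : MulAut (GU K)) (T : MulAut (Qb K)), IsTor α s t (RingEquiv.refl K) ∧ IsR α T ∧ TorQ T s t := by
  obtain ⟨α, hα⟩ := exists_tor (K := K) (RingEquiv.refl K) hs ht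
  have hm : ∀ x : GU K, α x ∈ Qb K ↔ x ∈ Qb K := by
    intro x
    show (α x).b = 0 ↔ x.b = 0
    rw [hα.b]
    simp [ht]
  refine ⟨α, { toFun := fun e => ⟨α e, (hm _).2 e.2⟩
               invFun := fun e => ⟨α.symm e, (hm _).1 (by rw [MulEquiv.apply_symm_apply]; exact e.2)⟩
               left_inv := fun e => Subtype.ext (α.symm_apply_apply _)
               right_inv := fun e => Subtype.ext (α.apply_symm_apply _)
               map_mul' := fun x y => Subtype.ext (map_mul α _ _) }, hα, fun e => rfl, ?_⟩
  exact ⟨fun g => hα.a g, fun g => hα.c g, fun g => hα.d g, fun g => hα.e g, fun g => hα.f g⟩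

section coords

variable (y x : Qb K)

theorem cb_a : ((MulAut.conj y x : Qb K) : GU K).a = (x : GU K).a := cj_a _ _

theorem cb_c : ((MulAut.conj y x : Qb K) : GU K).c = (x : GU K).c := by
  have h1 : (y : GU K).b = 0 := y.2
  have h2 : (x : GU K).b = 0 := x.2
  rw [MulAut.conj_apply, Subgroup.coe_mul, Subgroup.coe_mul, Subgroup.coe_inv, cj_c, h1, h2]
  ring

theorem cb_d : ((MulAut.conj y x : Qb K) : GU K).d =
    (x : GU K).d - 2 * (y : GU K).a * (x : GU K).c + 2 * (y : GU K).c * (x : GU K).a := by
  have h1 : (y : GU K).b = 0 := y.2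
  have h2 : (x : GU K).b = 0 := x.2
  rw [MulAut.conj_apply, Subgroup.coe_mul, Subgroup.coe_mul, Subgroup.coe_inv, cj_d, h1, h2]
  ring

variable {y x}

theorem cb_e (ha : (y : GU K).a = 0) (hc : (y : GU K).c = 0) : ((MulAut.conj y x : Qb K) : GU K).e =
    (x : GU K).e + 3 * (y : GU K).d * (x : GU K).a := by
  have h1 : (y : GU K).b = 0 := y.2
  have h2 : (x : GU K).b = 0 := x.2
  rw [MulAut.conj_apply, Subgroup.coe_mul, Subgroup.coe_mul, Subgroup.coe_inv, cj_e, h1, h2, ha, hc]
  ring

theorem cb_f (ha : (y : GU K).a = 0) (hc : (y : GU K).c = 0) : ((MulAut.conj y x : Qb K) : GU K).f =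
    (x : GU K).f + 3 * (y : GU K).d * (x : GU K).c := by
  have h1 : (y : GU K).b = 0 := y.2
  have h2 : (x : GU K).b = 0 := x.2
  rw [MulAut.conj_apply, Subgroup.coe_mul, Subgroup.coe_mul, Subgroup.coe_inv, cj_f, h1, h2, ha, hc]
  ring

end coords

/-- the decomposition `x = x1(a) x3(c) z`, `z ∈ Z₃` -/
theorem dec_Qb (x : Qb K) : ∃ z : Qb K, (z : GU K) ∈ Z3 K ∧
    x = (⟨x1 (x : GU K).a, x1_mem _⟩ : Qb K) * (⟨x3 (x : GU K).c, Z4_le_Qb (x3_mem _)⟩ : Qb K) * z := by
  have hb : (x : GU K).b = 0 := x.2
  refine ⟨⟨x4 (x : GU K).d * x5 (x : GU K).e * x6 (x : GU K).f, ?_⟩, ?_, ?_⟩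
  · exact (Qb K).mul_mem ((Qb K).mul_mem (Z3_le_Qb (x4_mem _)) (Z2_le_Qb (x5_mem _))) (Z1_le_Qb (x6_mem _))
  · exact (Z3 K).mul_mem ((Z3 K).mul_mem (x4_mem _) (Z2_le_Z3 (x5_mem _))) (Z1_le_Z3 (x6_mem _))
  · apply Subtype.ext
    have h1 := decomp (x : GU K)
    have h2 : x2 (x : GU K).b = (1 : GU K) := by rw [hb]; rfl
    rw [h2, mul_one] at h1
    rw [Subgroup.coe_mul, Subgroup.coe_mul]
    show (x : GU K) = x1 (x : GU K).a * x3 (x : GU K).c * (x4 (x : GU K).d * x5 (x : GU K).e * x6 (x : GU K).f)
    conv_lhs => rw [h1]
    simp only [mul_assoc]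

section main
variable (h2 : (2 : K) ≠ 0) (h3 : (3 : K) ≠ 0)
include h2 h3

/-- first normalization: `k` can be made trivial on the coordinate `d` -/
theorem step1 {k : MulAut (Qb K)} (hk : TrivAC k)
    (hT : ∀ s t : K, s ≠ 0 → t ≠ 0 → ∀ T : MulAut (Qb K), TorQ T s t → ∃ y : Qb K, k * T = MulAut.conj y * T * k) :
    ∃ y0 : Qb K, ∀ x : Qb K, (((MulAut.conj y0 * k) x : Qb K) : GU K).d = (x : GU K).d := by
  -- the homomorphism `δ`
  have hmul : ∀ x y : Qb K, ((k (x * y) : Qb K) : GU K).d - ((x * y : Qb K) : GU K).d =
      (((k x : Qb K) : GU K).d - (x : GU K).d) + (((k y : Qb K) : GU K).d - (y : GU K).d) := by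
    intro x y
    have hb : (x : GU K).b = 0 := x.2
    have hb' : ((k x : Qb K) : GU K).b = 0 := (k x).2
    rw [map_mul, Subgroup.coe_mul, Subgroup.coe_mul, GU.mul_d, GU.mul_d, (hk x).2, (hk y).1, hb, hb']
    ring
  obtain ⟨-, T1, -, -, hT1⟩ := exists_torQ (K := K) one_ne_zero h2
  obtain ⟨-, T2, -, -, hT2⟩ := exists_torQ (K := K) h2 (inv_ne_zero h2)
  obtain ⟨u, hu⟩ := hT _ _ one_ne_zero h2 T1 hT1
  obtain ⟨v, hv⟩ := hT _ _ h2 (inv_ne_zero h2) T2 hT2
  have hd1 : ∀ a : K, ((k ⟨x1 a, x1_mem a⟩ : Qb K) : GU K).d = -2 * (u : GU K).c * a := by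
    intro a
    have e1 : T1 ⟨x1 a, x1_mem a⟩ = ⟨x1 a, x1_mem a⟩ := by
      have hb : ((T1 ⟨x1 a, x1_mem a⟩ : Qb K) : GU K).b = 0 := (T1 _).2
      apply Subtype.ext
      ext
      · rw [hT1.a]; simp [x1]
      · rw [hb]; simp [x1]
      · rw [hT1.c]; simp [x1]
      · rw [hT1.d]; simp [x1]
      · rw [hT1.e]; simp [x1]
      · rw [hT1.f]; simp [x1]
    have e2 : k (T1 ⟨x1 a, x1_mem a⟩) = MulAut.conj u (T1 (k ⟨x1 a, x1_mem a⟩)) := by
      have := congrArg (fun γ : MulAut (Qb K) => γ ⟨x1 a, x1_mem a⟩) hu
      exact this
    have e3 := congrArg (fun x : Qb K => (x : GU K).d) e2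
    simp only [e1] at e3
    rw [cb_d, hT1.d, hT1.c, hT1.a, (hk _).1, (hk _).2] at e3
    simp only [x1] at e3 ⊢
    linear_combination -e3
  have hd3 : ∀ c : K, ((k ⟨x3 c, Z4_le_Qb (x3_mem c)⟩ : Qb K) : GU K).d = 2 * (v : GU K).a * c := by
    intro a
    have e1 : T2 ⟨x3 a, Z4_le_Qb (x3_mem a)⟩ = ⟨x3 a, Z4_le_Qb (x3_mem a)⟩ := by
      have hb : ((T2 ⟨x3 a, Z4_le_Qb (x3_mem a)⟩ : Qb K) : GU K).b = 0 := (T2 _).2
      apply Subtype.ext
      ext
      · rw [hT2.a]; simp [x3]
      · rw [hb]; simp [x3]
      · rw [hT2.c]; simp [x3, h2]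
      · rw [hT2.d]; simp [x3]
      · rw [hT2.e]; simp [x3]
      · rw [hT2.f]; simp [x3]
    have e2 : k (T2 ⟨x3 a, Z4_le_Qb (x3_mem a)⟩) = MulAut.conj v (T2 (k ⟨x3 a, Z4_le_Qb (x3_mem a)⟩)) := by
      have := congrArg (fun γ : MulAut (Qb K) => γ ⟨x3 a, Z4_le_Qb (x3_mem a)⟩) hv
      exact this
    have e3 := congrArg (fun x : Qb K => (x : GU K).d) e2
    simp only [e1] at e3
    rw [cb_d, hT2.d, hT2.c, hT2.a, (hk _).1, (hk _).2] at e3
    simp only [x3] at e3 ⊢
    field_simp at e3
    linear_combination -e3
  refine ⟨⟨⟨(v : GU K).a, 0, (u : GU K).c, 0, 0, 0⟩, rfl⟩, fun x => ?_⟩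
  rw [MulAut.mul_apply, cb_d, (hk x).1, (hk x).2]
  obtain ⟨z, hz, hx⟩ := dec_Qb x
  have h4 := hmul ((⟨x1 (x : GU K).a, x1_mem _⟩ : Qb K) * (⟨x3 (x : GU K).c, Z4_le_Qb (x3_mem _)⟩ : Qb K)) z
  rw [← hx] at h4
  have h5 := hmul (⟨x1 (x : GU K).a, x1_mem _⟩ : Qb K) (⟨x3 (x : GU K).c, Z4_le_Qb (x3_mem _)⟩ : Qb K)
  rw [hd1, hd3] at h5
  rw [map_d h2 h3 hk hz] at h4
  simp only [x1, x3] at h4 h5 ⊢
  linear_combination h4 + h5

omit h3 in
/-- a homomorphism to `K` trivial on `Z₂` is trivial on `Z₃` -/
theorem hom_Z3 {φ : Qb K → K} (hφ : ∀ x y, φ (x * y) = φ x + φ y) (hz : ∀ z : Qb K, (z : GU K) ∈ Z2 K → φ z = 0)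
    {x : Qb K} (hx : (x : GU K) ∈ Z3 K) : φ x = 0 := by
  obtain ⟨z, h1, h4⟩ := dec_Z3 h2 hx
  have hone : φ 1 = 0 := by
    have := hφ 1 1
    rw [one_mul] at this
    linear_combination -this
  have hinv : ∀ y, φ y⁻¹ = - φ y := by
    intro y
    have := hφ y y⁻¹
    rw [mul_inv_cancel, hone] at this
    linear_combination -this
  rw [h4, hφ, hφ, hφ, hφ, hinv, hinv, hz z h1]
  ring

/-- automorphisms trivial on `(a, c)` commuting with the torus modulo `Inn(Q_b)` are inner -/
theorem inner_of_comm {k : MulAut (Qb K)} (hk : TrivAC k)
    (hT : ∀ s t : K, s ≠ 0 → t ≠ 0 → ∀ T : MulAut (Qb K), TorQ T s t → ∃ y : Qb K, k * T = MulAut.conj y * T * k) :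
    k ∈ Inn (Qb K) := by
  obtain ⟨y0, hy0⟩ := step1 h2 h3 hk hT
  set k' := MulAut.conj y0 * k with hk'
  suffices hs : k' ∈ Inn (Qb K) by
    have h1 : k = (MulAut.conj y0)⁻¹ * k' := by rw [hk', inv_mul_cancel_left]
    rw [h1]
    exact (Inn (Qb K)).mul_mem ((Inn (Qb K)).inv_mem ⟨y0, rfl⟩) hs
  have hkk : TrivAC k' := by
    intro e
    rw [hk', MulAut.mul_apply, cb_a, cb_c]
    exact hk e
  have hT' : ∀ s t : K, s ≠ 0 → t ≠ 0 → ∀ T : MulAut (Qb K), TorQ T s t → ∃ y : Qb K, k' * T = MulAut.conj y * T * k' := by
    intro s t hs ht T hTT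
    obtain ⟨y, hy⟩ := hT s t hs ht T hTT
    refine ⟨y0 * y * T y0⁻¹, ?_⟩
    have e1 : T * (MulAut.conj y0)⁻¹ = MulAut.conj (T y0⁻¹) * T := by
      refine MulEquiv.ext fun x => ?_
      simp only [MulAut.mul_apply, MulAut.conj_inv_apply, MulAut.conj_apply, map_mul, map_inv, inv_inv]
    have e2 : k = (MulAut.conj y0)⁻¹ * k' := by rw [hk', inv_mul_cancel_left]
    calc k' * T = MulAut.conj y0 * (k * T) := by rw [hk', mul_assoc]
      _ = MulAut.conj y0 * (MulAut.conj y * T * k) := by rw [hy]
      _ = MulAut.conj y0 * MulAut.conj y * (T * (MulAut.conj y0)⁻¹) * k' := by rw [e2]; group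
      _ = MulAut.conj (y0 * y * T y0⁻¹) * T * k' := by rw [e1, map_mul, map_mul]; group
  clear_value k'
  -- now everything in terms of `k'`
  have hmul_e : ∀ x y : Qb K, ((k' (x * y) : Qb K) : GU K).e - ((x * y : Qb K) : GU K).e =
      (((k' x : Qb K) : GU K).e - (x : GU K).e) + (((k' y : Qb K) : GU K).e - (y : GU K).e) := by
    intro x y
    have hb : (x : GU K).b = 0 := x.2
    have hb' : ((k' x : Qb K) : GU K).b = 0 := (k' x).2
    rw [map_mul, Subgroup.coe_mul, Subgroup.coe_mul, GU.mul_e, GU.mul_e, (hkk x).2, (hkk y).1, hb, hb', hy0]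
    ring
  have hmul_f : ∀ x y : Qb K, ((k' (x * y) : Qb K) : GU K).f - ((x * y : Qb K) : GU K).f =
      (((k' x : Qb K) : GU K).f - (x : GU K).f) + (((k' y : Qb K) : GU K).f - (y : GU K).f) := by
    intro x y
    have hb : (x : GU K).b = 0 := x.2
    have hb' : ((k' x : Qb K) : GU K).b = 0 := (k' x).2
    have hc : (y : GU K).b = 0 := y.2
    have hc' : ((k' y : Qb K) : GU K).b = 0 := (k' y).2
    rw [map_mul, Subgroup.coe_mul, Subgroup.coe_mul, GU.mul_f, GU.mul_f, (hkk x).2, (hkk y).1, (hkk y).2, hb, hb', hc, hc', hy0]
    ring
  have hZe : ∀ {x : Qb K}, (x : GU K) ∈ Z3 K → ((k' x : Qb K) : GU K).e - (x : GU K).e = 0 := fun {x} hx =>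
    hom_Z3 h2 (φ := fun x => ((k' x : Qb K) : GU K).e - (x : GU K).e) hmul_e
      (fun z hz => by rw [fix_Z2 h2 h3 hkk z hz, sub_self]) hx
  have hZf : ∀ {x : Qb K}, (x : GU K) ∈ Z3 K → ((k' x : Qb K) : GU K).f - (x : GU K).f = 0 := fun {x} hx =>
    hom_Z3 h2 (φ := fun x => ((k' x : Qb K) : GU K).f - (x : GU K).f) hmul_f
      (fun z hz => by rw [fix_Z2 h2 h3 hkk z hz, sub_self]) hx
  -- the torus equations
  have hE : ∀ s t : K, s ≠ 0 → t ≠ 0 → ∀ T : MulAut (Qb K), TorQ T s t → ∃ η : K, ∀ x : Qb K,
      ((k' (T x) : Qb K) : GU K).e = s ^ 3 * t * ((k' x : Qb K) : GU K).e + 3 * η * (s * (x : GU K).a) ∧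
      ((k' (T x) : Qb K) : GU K).f = s ^ 3 * t ^ 2 * ((k' x : Qb K) : GU K).f + 3 * η * (s * t * (x : GU K).c) := by
    intro s t hs ht T hTT
    obtain ⟨y, hy⟩ := hT' s t hs ht T hTT
    have hy' : ∀ x, k' (T x) = MulAut.conj y (T (k' x)) := fun x => congrArg (fun γ : MulAut (Qb K) => γ x) hy
    have hd : ∀ x : Qb K, 2 * (y : GU K).c * (s * (x : GU K).a) = 2 * (y : GU K).a * (s * t * (x : GU K).c) := by
      intro x
      have h6 := congrArg (fun x : Qb K => (x : GU K).d) (hy' x)
      rw [cb_d, hy0, hTT.d, hTT.d, hy0, hTT.a, hTT.c, (hkk x).1, (hkk x).2] at h6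
      linear_combination -h6
    have hc0 : (y : GU K).c = 0 := by
      have h6 := hd ⟨x1 1, x1_mem 1⟩
      simp only [x1] at h6
      apply mul_left_cancel₀ (mul_ne_zero h2 hs)
      linear_combination h6
    have ha0 : (y : GU K).a = 0 := by
      have h6 := hd ⟨x3 1, Z4_le_Qb (x3_mem 1)⟩
      simp only [x3] at h6
      apply mul_left_cancel₀ (mul_ne_zero h2 (mul_ne_zero hs ht))
      linear_combination -h6
    refine ⟨(y : GU K).d, fun x => ⟨?_, ?_⟩⟩
    · rw [hy', cb_e ha0 hc0, hTT.e, hTT.a, (hkk x).1]
    · rw [hy', cb_f ha0 hc0, hTT.f, hTT.c, (hkk x).2]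
  obtain ⟨-, T1, -, -, hT1⟩ := exists_torQ (K := K) one_ne_zero h2
  obtain ⟨-, T2, -, -, hT2⟩ := exists_torQ (K := K) h2 (inv_ne_zero h2)
  obtain ⟨η1, h11⟩ := hE _ _ one_ne_zero h2 T1 hT1
  obtain ⟨η2, h22⟩ := hE _ _ h2 (inv_ne_zero h2) T2 hT2
  have t11 : ∀ a, T1 ⟨x1 a, x1_mem a⟩ = ⟨x1 a, x1_mem a⟩ := by
    intro a
    have hb : ((T1 ⟨x1 a, x1_mem a⟩ : Qb K) : GU K).b = 0 := (T1 _).2
    apply Subtype.ext
    ext
    · rw [hT1.a]; simp [x1]
    · rw [hb]; simp [x1]
    · rw [hT1.c]; simp [x1]
    · rw [hT1.d]; simp [x1]
    · rw [hT1.e]; simp [x1]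
    · rw [hT1.f]; simp [x1]
  have t13 : ∀ a, T1 ⟨x3 a, Z4_le_Qb (x3_mem a)⟩ = ⟨x3 (2 * a), Z4_le_Qb (x3_mem _)⟩ := by
    intro a
    have hb : ((T1 ⟨x3 a, Z4_le_Qb (x3_mem a)⟩ : Qb K) : GU K).b = 0 := (T1 _).2
    apply Subtype.ext
    ext
    · rw [hT1.a]; simp [x3]
    · rw [hb]; simp [x3]
    · rw [hT1.c]; simp [x3]
    · rw [hT1.d]; simp [x3]
    · rw [hT1.e]; simp [x3]
    · rw [hT1.f]; simp [x3]
  have t23 : ∀ a, T2 ⟨x3 a, Z4_le_Qb (x3_mem a)⟩ = ⟨x3 a, Z4_le_Qb (x3_mem a)⟩ := by
    intro a
    have hb : ((T2 ⟨x3 a, Z4_le_Qb (x3_mem a)⟩ : Qb K) : GU K).b = 0 := (T2 _).2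
    apply Subtype.ext
    ext
    · rw [hT2.a]; simp [x3]
    · rw [hb]; simp [x3]
    · rw [hT2.c]; simp [x3, h2]
    · rw [hT2.d]; simp [x3]
    · rw [hT2.e]; simp [x3]
    · rw [hT2.f]; simp [x3]
  have he1 : ∀ a, ((k' ⟨x1 a, x1_mem a⟩ : Qb K) : GU K).e = -3 * η1 * a := by
    intro a
    have h6 := (h11 ⟨x1 a, x1_mem a⟩).1
    rw [t11] at h6
    simp only [x1] at h6 ⊢
    linear_combination -h6
  have hf1 : ∀ a, ((k' ⟨x1 a, x1_mem a⟩ : Qb K) : GU K).f = 0 := by
    intro a
    have h6 := (h11 ⟨x1 a, x1_mem a⟩).2
    rw [t11] at h6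
    simp only [x1] at h6 ⊢
    apply mul_left_cancel₀ h3
    linear_combination -h6
  have he3 : ∀ a, ((k' ⟨x3 a, Z4_le_Qb (x3_mem a)⟩ : Qb K) : GU K).e = 0 := by
    intro a
    have h6 := (h22 ⟨x3 a, Z4_le_Qb (x3_mem a)⟩).1
    rw [t23] at h6
    simp only [x3] at h6 ⊢
    field_simp at h6
    apply mul_left_cancel₀ h3
    linear_combination -h6
  have hf3 : ∀ a, ((k' ⟨x3 a, Z4_le_Qb (x3_mem a)⟩ : Qb K) : GU K).f = -3 * η2 * a := by
    intro a
    have h6 := (h22 ⟨x3 a, Z4_le_Qb (x3_mem a)⟩).2
    rw [t23] at h6
    simp only [x3] at h6 ⊢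
    field_simp at h6
    linear_combination -h6
  have hη : η1 = η2 := by
    have h6 := (h11 ⟨x3 1, Z4_le_Qb (x3_mem 1)⟩).2
    rw [t13, hf3, hf3] at h6
    simp only [x3] at h6
    apply mul_left_cancel₀ (mul_ne_zero h2 h3)
    linear_combination -h6
  refine ⟨⟨x4 (-η1), Z3_le_Qb (x4_mem _)⟩, MulEquiv.ext fun x => Subtype.ext ?_⟩
  obtain ⟨z, hz, hx⟩ := dec_Qb x
  have a1 := hmul_e ((⟨x1 (x : GU K).a, x1_mem _⟩ : Qb K) * (⟨x3 (x : GU K).c, Z4_le_Qb (x3_mem _)⟩ : Qb K)) z
  have a2 := hmul_e (⟨x1 (x : GU K).a, x1_mem _⟩ : Qb K) (⟨x3 (x : GU K).c, Z4_le_Qb (x3_mem _)⟩ : Qb K)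
  have b1 := hmul_f ((⟨x1 (x : GU K).a, x1_mem _⟩ : Qb K) * (⟨x3 (x : GU K).c, Z4_le_Qb (x3_mem _)⟩ : Qb K)) z
  have b2 := hmul_f (⟨x1 (x : GU K).a, x1_mem _⟩ : Qb K) (⟨x3 (x : GU K).c, Z4_le_Qb (x3_mem _)⟩ : Qb K)
  rw [← hx, hZe hz] at a1
  rw [← hx, hZf hz] at b1
  rw [he1, he3] at a2
  rw [hf1, hf3] at b2
  have hb : (x : GU K).b = 0 := x.2
  have hb' : ((k' x : Qb K) : GU K).b = 0 := (k' x).2
  have hb'' : ((MulAut.conj (⟨x4 (-η1), Z3_le_Qb (x4_mem _)⟩ : Qb K) x : Qb K) : GU K).b = 0 :=
    (MulAut.conj (⟨x4 (-η1), Z3_le_Qb (x4_mem _)⟩ : Qb K) x).2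
  ext
  · rw [cb_a, (hkk x).1]
  · rw [hb', hb'']
  · rw [cb_c, (hkk x).2]
  · rw [cb_d, hy0]; simp only [x4]; ring
  · rw [cb_e rfl rfl]
    simp only [x1, x3, x4] at a1 a2 ⊢
    linear_combination -a1 - a2
  · rw [cb_f rfl rfl]
    simp only [x1, x3, x4] at b1 b2 ⊢
    linear_combination -b1 - b2 + 3 * (x : GU K).c * (-hη)

end main

/-- **the Weyl element** -/
theorem weyl5 {p n : ℕ} (h : HypG K p n) (h5 : 5 ≤ p) {Γ : Subgroup (MulAut (Qb K))}
    (ker : ∀ γ ∈ Γ, TrivAC γ → γ ∈ Inn (Qb K)) (inn : Inn (Qb K) ≤ Γ)
    (tor : ∀ s t : K, s ≠ 0 → t ≠ 0 → ∀ T : MulAut (Qb K), TorQ T s t → T ∈ Γ)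
    {g : MulAut (Qb K)} (hg : g ∈ Γ)
    (hga : ∀ e : Qb K, ((g e : Qb K) : GU K).a = -(e : GU K).c) (hgc : ∀ e : Qb K, ((g e : Qb K) : GU K).c = (e : GU K).a)
    {w : MulAut (Qb K)} (hw : IsWb w) : w ∈ Γ := by
  have h2 : (2 : K) ≠ 0 := by exact_mod_cast ne_of_le h h5 (m := 2) (by omega) (by omega)
  have h3 : (3 : K) ≠ 0 := by exact_mod_cast ne_of_le h h5 (m := 3) (by omega) (by omega)
  set! k := g * w⁻¹ with hk
  have hkac : TrivAC k := by
    intro e
    have e1 : w (w⁻¹ e) = e := MulAut.apply_inv_self _ _ _
    have e2 := hw.a (w⁻¹ e)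
    have e3 := hw.c (w⁻¹ e)
    rw [e1] at e2 e3
    refine ⟨?_, ?_⟩
    · show ((g (w⁻¹ e) : Qb K) : GU K).a = _
      rw [hga, e2]
    · show ((g (w⁻¹ e) : Qb K) : GU K).c = _
      rw [hgc, e3]
  have hin : k ∈ Inn (Qb K) := by
    apply inner_of_comm h2 h3 hkac
    intro s t hs ht T hT
    obtain ⟨-, T', -, -, hT'⟩ := exists_torQ (K := K) (mul_ne_zero hs ht) (inv_ne_zero ht)
    have hwT : w * T' = T * w := by
      refine MulEquiv.ext fun x => Subtype.ext ?_
      have hb : ((w (T' x) : Qb K) : GU K).b = 0 := (w (T' x)).2
      have hb' : ((T (w x) : Qb K) : GU K).b = 0 := (T (w x)).2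
      rw [MulAut.mul_apply, MulAut.mul_apply]
      ext
      · rw [hw.a, hT'.c, hT.a, hw.a]; field_simp
      · rw [hb, hb']
      · rw [hw.c, hT'.a, hT.c, hw.c]
      · rw [hw.d, hT'.a, hT'.c, hT'.d, hT.d, hw.d]; field_simp
      · rw [hw.e, hT'.a, hT'.c, hT'.f, hT.e, hw.e]; field_simp
      · rw [hw.f, hT'.a, hT'.c, hT'.e, hT.f, hw.f]; field_simp
    have hT'Γ : T' ∈ Γ := tor _ _ (mul_ne_zero hs ht) (inv_ne_zero ht) T' hT'
    have hTΓ : T ∈ Γ := tor s t hs ht T hT
    have hm : k * T * k⁻¹ * T⁻¹ ∈ Γ := by
      have e1 : k * T * k⁻¹ * T⁻¹ = g * T' * g⁻¹ * T⁻¹ := by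
        have e2 : T' = w⁻¹ * (T * w) := by rw [← hwT, inv_mul_cancel_left]
        rw [hk, e2]; group
      rw [e1]
      exact Γ.mul_mem (Γ.mul_mem (Γ.mul_mem hg hT'Γ) (Γ.inv_mem hg)) (Γ.inv_mem hTΓ)
    have hac : TrivAC (k * T * k⁻¹ * T⁻¹) := by
      have e1 : k * T * k⁻¹ * T⁻¹ = k * (T * k⁻¹ * T⁻¹) := by group
      rw [e1]
      exact hkac.mul (TrivAC.conj h2 h3 hkac.inv T)
    obtain ⟨y, hy⟩ := ker _ hm hac
    refine ⟨y, ?_⟩
    rw [hy]; group
  have e1 : w = k⁻¹ * g := by rw [hk]; group
  rw [e1]
  exact Γ.mul_mem (Γ.inv_mem (inn hin)) hg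

/-- the torus elements are restrictions -/
theorem TorQ.isR {K : Type u} [Field K] {T : MulAut (Qb K)} {s t : K} (hT : TorQ T s t) {α : MulAut (GU K)}
    (hα : IsTor α s t (RingEquiv.refl K)) : IsR α T := by
  intro e
  have hb : (e : GU K).b = 0 := e.2
  have hb' : ((T e : Qb K) : GU K).b = 0 := (T e).2
  ext
  · rw [hT.a, hα.a]; rfl
  · rw [hb', hα.b, hb]; simp
  · rw [hT.c, hα.c]; rfl
  · rw [hT.d, hα.d]; rfl
  · rw [hT.e, hα.e]; rfl
  · rw [hT.f, hα.f]; rfl

/-- **(LB-5)** `StLb` for `p ≥ 5` -/
theorem stLb_five {K : Type u} [Field K] {p n : ℕ} (h : HypG K p n) (h5 : 5 ≤ p)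
    (Γ : Subgroup (MulAut (Qb K))) (D : Subgroup (MulAut (GU K))) (hp : Par p (Qb K) Γ D) :
    HasTor D (fun t => t⁻¹) (fun t => t ^ 2) ∧ (Full D → Γ = Gen IsWb D) := by
  have hL : LbH K p n Γ D := by
    refine ⟨h, by omega, ?_, hp, fun γ hγ hac => ker5 h h5 hp.syl hγ hac, stGrp⟩
    calc 5 ≤ p := h5
      _ = p ^ 1 := (pow_one p).symm
      _ ≤ p ^ n := Nat.pow_le_pow_right (by omega) h.hn
  refine ⟨hL.hasTor, fun hF => ?_⟩
  obtain ⟨w, hw⟩ := (stGrp h).2.2.2.2.2.1
  refine hL.eq_Gen hw ?_
  obtain ⟨g, hg, hgw⟩ := hL.exists_g hw
  have hgu : ∀ e : Qb K, Cfsg.Agent.H904.GT.uu ((g e : Qb K) : GU K) = ((e : GU K).a, -(e : GU K).c) := by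
    intro e
    rw [← Cfsg.Agent.H904.GT.pi_uu hL.hyp hL.odd g e, hgw, Cfsg.Agent.H904.GT.pi_wb hL.hyp hL.odd hw]
    rfl
  refine weyl5 h h5 (fun γ hγ hac => ker5 h h5 hp.syl hγ hac) hL.Inn_le_G ?_ hg
    (fun e => congrArg Prod.snd (hgu e)) (fun e => congrArg Prod.fst (hgu e)) hw
  intro s t hs ht T hT
  obtain ⟨α, hα⟩ := exists_tor (K := K) (RingEquiv.refl K) hs ht
  exact hp.D_res α (hF s t α hα) T (hT.isR hα)

end Cfsg.Agent.H353.GT
end

private theorem dce_2ff2b95cd14c : _root_.True := by
  try have : _root_.True := by simp only [_root_.Cfsg.Agent.H904.GT.pi.congr_simp]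
  try have : _root_.True := by simp only [_root_.Cfsg.Agent.H904.GT.uu.eq_1]
  try have : _root_.True := by simp only [_root_.Cfsg.Agent.H7.PU.Core.ml.eq_1]
  exact _root_.True.intro
end

-- part: H650/Q5/HNLit
section
set_option linter.all false

/-!
# Packed matrices of four elements of the Harada–Norton group in the 133-dimensional representation (helper650)

`lit93`, `lit94`, `lit95`, `lit24` : the results number 93, 94, 95, 24 of the program of `H536/T5/DataA.lean`.
-/

set_option autoImplicit false
set_option maxRecDepth 10000

namespace Cfsg.Agent.H650.Q5.HNLit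

/-- packed matrix of `R 93` -/
def lit93 : ℕ := Cfsg.Agent.Lib.PackMatGroup.asm 2261 [
0xc0007000740030000900090004c000e0012000a80068000a0008000e80064003c00130003000740018001900078000c000800080005800400014000a0002000380002001a00038001c00080018000e80078003c00080005000680024001d000c80028000c0016000c0003c0018000b000e0002c000c001500010000000320012000680028001c00090000800180028001200058002c003c0005000f0004400380001,
0x900038001800380017000400050002c000900058003000220016000a0005800360011000e80040000e0011000a8005800360009000180028000400140004800340000001d0005800480000000000050000c0014000d000180028000e000e000000038001e0005000f00044001c000d00000005000280016000380018000c0009000d00064000e000c000100058003c0000000c8005400080011000b8004400060011,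
0xb0007800480020001200058006000040003000e0003c00020005000480058000a001d0007800300014001b000d80074003a0005000e0002400140013000b8004c0014001100058007800380014000480020001400120008000740016000f000e000480020000e0007800540036000d000980010000c0003000280064001e0019000480020002c000a000c8004c00320006000d000740020000b000d0002c0012001d,
0x1e0002000500004001d000a00014000a001d000f0005400180004000c00078000a0015000180054001a001700010004c002400090003000680026001c000f0005c0034000e000e8000800100000000980048000e001a00068000800020016000b00068000400110002000180006000a00050005c00220002000f00048002a0002000a8000000160008000a000600036001b000c00038003a000d000000000001a0012,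
0x1e000c00058001a0019000e80040003c0006000880014002a00090005800280032001d000a8004c0016001000018005c0010001b00058002400200014000480010000a0005000c8006c002c0011000b000040038001d0001000400006001700050000c00060006000d0006c00060006000b00038002a00080001800100036000e000a0003c0020001100078001c001c0001000080014003c0003000b800040006001a,
0x8000500078001a0012000a000580010000e000e800300012000d0007800100022000300050000400100004000b80054000c0000000c80040000e001700090005c000c000000050003400360019000a0000000040017000100060000e00130004800580030000a000c000700014001c000580050002a00190001000640032000f00048006c00160001000a800000008001a00078003c00060008000e8004000120009,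
0x4000f0001400360015000e0005c0022001c0006800600020001b00040001400080002000280014002e000600028000c0024001e000e80018000c0017000a0001000140007000d0000400080016000800004002c00110006800100034001100050002c003c0001000d0004400180019000400040001e000e000680004002400170005000380026000c000200024001a0013000300024003200110004000440028000c,
0xf0004800080032000f000100018003c0008000f0000c001800180009000300028000c0009800300000000b0003800000038000200050003000320008000c0005c0012001a000c0005c0018000a00008002c0034000300040002c00180016000e8004c000e000e00050002400180018000480024002600130003000380014001c00060002c00140018000c0004c0010000b000c000000034000c00050006400020004,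
0x1000d8006000380000000200068001e001900088001c002c001900000002800020005000200010002c0002000000014000e001c000400068003400130006800780000000a000b80030003a00180007000700032001a000c000540000001500030007800160002000d8002400060008000a80074001a0010000300058000a001600030003c000a0018000f00020001c0008000c800440026001b0003800040028001b,
0x1700068002800360008000600034003c001b000800014000e00030002000640030000b000c0007800320017000c8001400260019000500020001a0000000b8003400000009000d80000002e00160002000280030000e000e800340002001b000c80018000200120003000200014001c0009800440014001500098003800260016000d0006c0010001700010002c0036000c0009000600026000600018001c003c001b,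
0x38000e001e00080000c0028000d00060005c0002001c00010004800280002000300048001000030004800280006000500058007000100015000580078000400050004800180036000100020002000180007000f00040000c0010000180068000a0005000c8002400140016000300018000e000f000d80044002c0013000d0002c000c000300070004c00340009000580014001a000e000c80068001e0014,
0x130008800200022000a00048004400360012000d000380030000e00080004c0014000400018000400160001000f0007000260017000180068000e001e0006000580012001b0004000700022001c00038006000020008000600018002a001e000e0003c002e000e0008800340010001100048006c000e000e000180078002e0014000780004001a0000000e80000001e001e000c00060003a0019000600050000a0013,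
0x13000d0003400180014000c00040002200030003800100008000000000006000200002000a0002c00240019000180038001c00080002800140028001400068000800120017000e8000c00180016000280058001a000400020005000320004000b00058001400030004000280008000b00008001000360016000680014002600130007000540030001d00080003c00260006000800020001000150005000680016000d,
0x1d000e000040018000f000c8004400340017000e800380024000e000180044002a00100000800640002001400060000c000c00140004000040034000e000d80064000a001a0003800380034000e000a00024001a000f000080000000c0005000c800580018001e000080004002a0016000c80070002a0010000a00030002a000300088003800200014000b8005c001e0018000d00030001400120006000440002001a,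
0xd00000002000320006000d000780004000100008002000360010000580018003c000400070005c00180012000500054002e000700038006000220019000980060001a0002000d8000c00220007000b00054000400010008800040014000d000980058002c0005000d0004c0036000b0004800080026000d000080020001e001c000a000200008001600068007000280013000e8003c0026001b000e0002c001e001d,
0x1c00088000000120008000800024001e000200088001c00120011000d0006c000a001c000e0001400100005000a000700016001600068002400160009000900054002400050003000700036000c0001000100020000c000000010000a001d0007800680006001d00080001c000c0009000e8006c0004001700078005c000c000c000a8002c0020000600020007800060003000b800540012000100028001000000009,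
0x16000e80060002c0003000100040003a0004000b0003c000a0009000b80030002e0003000280068002c0019000c000180004000e00058003400200019000080048003600140008800740012000700018003c0016000000090006800040009000180010000e0011000e800200008001900088004c002e000e000700070002a001500020006c000e0014000900010000a0004000c8003000020018000b0001c00320007,
0xb000080000001200090009800280020001200038003c0034001b000c000080028001100040000800040011000b80004001e001b000a800000024001400038000800060000000e0001c003a0014000080050002a00170009000380012000d000a8006000340010000480054001e000c00048006800140018000880028000c00170008000100020001800058000c00240011000100078003400020006800780038001d,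
0x130001000100030001c00048004c003c000f000300054002a0008000800000002a000e00030000400040009000e800000004001100040000c000c00130001000300016001d0003800340028000e00050002c00040014000e0001800000013000280000002c0005000b00014002a0015000980068000c0012000780078000a0012000100040002e00100000800540020001b000d000580016001c00050001c00340000,
0x1b000d8003800040005000880034000e0012000200038003400150007000440008000f00078005400180006000680010001a00170001800600024001500030006800280019000f000500004001400028001c001800190001800100008001a000400010002a0016000f0004c00080016000500068002c001200058000800220005000c0001400280014000980054000c0004000f000500034001e0001000340028000c,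
0x8000380010003a001600068002c0010001c000c800000030001e000700010001c000a000b000140016001100020001400200000000680058000e0009000e80074003c000000000003c00260015000600038000c001b00020000000040014000600044002e00020008000540032001300008003800080019000c00008003c001a000600074003600180005800140018000500088000c0026001c000500034002e0014,
0xe0000800300000001e00038004c00020014000380034000200140001000740030001c000c80064000e0015000780008002e0005000e000200028000400028001c0022000a000c00014002a000b000c80058001c0012000c80008001c0018000a000740026000800038001c003400170005800640030000c000d00060002a000b000a00038003a0010000e000640002001100020002800360002000a8001800240011,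
0x500028002800240019000e8003400300017000980018003a000700028000c000c0006000a000680038001900070007000260009000480070000c001c0006000480024001d0008000600020001700010001c00180003000d00004003a001800088006c00080012000400064000000120008000240028000500040006c002400070000000680016001d000a8002c000200010009800140034000f0007800380036000a,
0x6000d00040001a000f0001800640034000b000f000780000001a0004000540038001d0000000040008000e00048000c0026001800098002c0020000c00058006800240008000880054001e000f000c000040038000b000d800680032000c000400004001c0012000c8000c002c0000000c0004400180001000d00064000200000003800580036001100030004c0018001b0002800600010000d000680008002a0003,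
0x5000b800240016000c000a80070002a0004000a00018002e00080006000140024001b000f000540006001d000e800280018001a00068000c00340014000800070001a000b0009800500022001d0000800300032001800028006c002c000b00060001800340015000c0006c0006000a00028000800160014000d000180038000a000c800540036000f000b00034001a001300020004c0022001b000c8002000320010,
0x18000b8001c0022000d000f0004400120014000f000080000000f000e00000000400120009000300034000f0000000440014001700038007800360006000e00038000400160003800400012000f000e800100028001b000680050001c001200020000c0022001c00080002000260005000d8004c000e0014000400068003c0019000f0003c0026001d000b000240038001900040006c0004000a00088002000280012,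
0x40001800240034000c000a000180032001a000c80048003600140009800240016000400038000c0030001200010003c00240019000d8005400080001000e8004c0022000e000e80024002e0006000700004002a0010000e00020002a001b000f0003000380013000980064000a000f000d000340016001700070000c002800030007800040032000100050000c003a0018000e0005800120004000e0005c00320000,
0x20008000500018001d000500050002a001e000c0001800240010000300028000400100006800440008000400040004400100017000180060003c001600010004c00020001000600014002e00160007800240012001a000e00068001000140009800080022001500060003c003c0013000980000002a000a00040002c000c0009000d80020001600120003000380020000a00038003c003c000c00068006c002e000f,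
0xe0003000280012000c000e8001000160011000600064001c001e00038000000280008000100018001a0011000300010003c000c00008003800020002000b0002c002a000500070000000120019000900010003a0004000500038000a0008000e000200024001000038000c0030000d000c80004002e001d00070000c00380013000200010001e0014000c8004c001e000d00070005c0000000c00070001c0036001a,
0x18000000074003a001900038003800320009000c000180038000d000c800600034001800038004400360012000580018002c001600008006c002e0010000600060000a0009000000064002c000c0003800440016000d00018006c0000000a000080054003c0001000f0004400180007000d80048003a000c0000000040036001a00048002400320016000b8000800100000000c80048002e0001000b8000c002c001b,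
0xd000d800480006001b000500068001a000c000580060001400020006800640016000700058004c00160014000e0005c00060002000e0006c002c0005000400014001e000e0009800480030001e000900074001e001c000b80028003200020001000440000000900090002c00020014000a0000c003a000a00068002c0032001b000d80014001c000000028001000220001000500038002c0003000e0003c00300017,
0xe000900040000a000000010003c0008001700098002000340004000280030001a00130007000540014000400040001c00300016000d000580008001c00080002400020007000d8001c0012000d000d000040026000a000e0002c0010000f000a0002c0038000a000e000600012001a00068000400220007000280028002800190008000680014000c00040003800380001000a00028002c001e00020006c001e000e,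
0x16000d80068002c001e000a0005c0006000000000006c0014000000040001c00320014000e80070000c000000068006000320010000280018002e0012000a0002000240011000f0001c000200010004800480002000b000e8002800060014000d000300008001d0003800040034000300088004c0032000c0005000380020001300070001c00120001000c000100038000e000300058002e00170004000580038001a,
0x1e000500048000e001600038002c0008000f00028002c0038001100020003c00160000000300000003a001200020007000000014000100014002c0004000c8003c00060012000a0004c0034001b000b000780034000b0008800040006000a000400044000000140000000780024001b00070000c0028000d00058003c0024000100008006c0006000a00058004400340004000100078002a0009000f0000000220009,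
0x80004c000600050003800480030000d00070003c001a0010000b80038002c0015000700068000a00090002000480008001c00040003c0016000f000a000400030000d00060003000040009000a8002400080013000980064003c000f0002800740008000700030003800260019000780064001c00030007000500038000b00090000c0026001e0009800580038000f000280024002a0018000980040000a0013,
0x98004800300018000c0002000380009000c800000008001400068003c002a0005000980074000400010002000200004000e00088003800220019000300034002c0012000280040001c0006000d8007800260001000900068003c0019000100070000e00000009000000012000e000a8006800000003000680078002c0009000980064003c000e00058002400260000000480040002c000b00088001800180011,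
0x1d0004800080036001600068006c00100005000480060001e0016000e800400034000c0003800500036001700038000c0008001a000b0004c003c000400098003c0034001a000f0006400360003000e00014000e0007000100054000e00000005000540004001700048004c00320017000c800700014001000048005c002e000a000b000180018001d0004000640024001a000b000640014000f000700030002e000a,
0x180004800240030001000018001c0014001d000b00050003800140005000340006000d000c00040001800050003000280030001700038001c003a0008000e80070000e0017000580060000e0000000d8000800200000000900054000c0019000380040000400010002000540032001a00080007000100016000a8000800140019000a80054001e0019000c00044000200080003800400016000f00048003c000c000f,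
0x17000c00068003a0006000c8003c00080018000980050002400000006000100034001a0001800780034001b00038002c000e0003000c8004000280010000a00054000a000b00058005800340015000300008001a000c000580044001a00080002800340012000d00008007000160015000680004003a0003000900050000e001300018000c00080015000d80038000c001e00028006800240018000380024003c001b,
0xa0008000780018000300038004c001c001d00018003400000000000e8002400300005000a8002c00280005000d0004c000a0003000d8002c0038001600058001400160011000400000000c000000028000c00340001000780000000e0011000f00018001400060005800640000001c00000000400080007000c0004c002800020008800100016001b000a8000800240010000b80050001a00070003000680018000d,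
0x14000500008000a00070001000640002001d00000005c0022000b00010006000300009000e0001c001200160002800480026000f0000800700006000b000c80038000a0012000a80000000e0015000200040002c0008000780064000a001b000d8002c000e0016000880024001e001500090002c002a0011000000070001a0006000c0002c000e0006000a000240036000f00030007400260003000c0000c000c001e,
0x1600080006c001200070003000140018001700088001c002a0005000a8005c000e0000000b80008000c001a000c80024000a0015000900024001600060003800740012000c000400064000a0011000b000040008001c000680058001a001200068002c0022000d000000010002e0003000280008003c00170007000080010000500088004800340011000700034000a0012000f0006800300014000780034001a0000,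
0x1e000a0000c00200007000c800280030001d000e800040004000c000600058003a0010000b00038001e00180000000340010001c000d0001c0000000900080000000100018000b8003c000a00110006000080024001d00020002c003a0001000c0004c000a001b000900048000c0000000d0001c0024001a000700004000e001b00060006c001a0012000b0005c002e0014000880024001e0018000f0000000300007,
0x1a000200054002c000800038003800360015000b0003400180015000b8005c003a0018000b000780010001400058002c0014000c000280078000e0013000b000680016000a000380018001e000e0004800200032000c0003000780012000d000680048001c001a000380024001a001b00010001c000a001100018001800280002000e00008001c00150008000640038001d000600058003c001a00058004c002c0010,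
0xb00068003c003c000a000c80010000e0015000980044002c0017000c000500024000200050005400260004000a8002c00280003000b0000800060016000480014003a000f000c80050000e000500070004c00300006000d800340024001d0006800740016001d0005800240004001500060004400180014000b0005c001a0000000500078000a000a00098007400320014000c800100000000f00050000400260002,
0xb0004000240036000f000c8005c0024000d00058004000220015000b000740008001800068001400260008000680014002800190002800440018000100078007800060018000a000080010000e000780044001e000200098004c003000020002000180020001500030000400320005000600064002c000b00080000c0018001c000580054002a001b0000000700014000a0009800280020000a000080064002a001c,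
0x80009800400002001a000700068002a0014000c00058002a0000000880028001a0011000000054003c001600090007800060006000e8005800040002000b800140030001300030003800220015000c000340006001e000c8004c0020000a000180000001800010008800480028000f000b800540018000600068002000240002000c80020001c0019000c80014000e001800090004400020017000b8006000140001,
0x4000c0001800040009000a80070000a000e000800030000a000c00028000c0012000b000c80010003c0012000b8001400060003000f00064001a00050004000380030001500018004400020005000e000100006000600008004c0008000800030002c0004001b00000006c000e0016000d0006c001e0018000b00054002200050008000200038001c000c000180016001400008007800360013000080018000c0009,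
0x9000f000040030001e00080007400240017000700058001e0003000e8006c000400070004000100016001d0001000600038001300020002c001c0009000a800000020000a000d8004c00160000000580058001a0001000400048001e000900088005c0016001c000f00060002200130000000400034001c00010004c001c00040000800380032001d0006000680010000d0004000380010001200038006800320001,
0x300030005800340008000380038002e000400078006800140016000b8003800060006000a8005c0012000400028006000260019000900074000a000300068000c00360012000b8004000320019000c800100024001800018000400180006000880018002a001d000e000180038000f000e80058002c001b000e0001800000009000800010000e0016000a0007400160005000600030000a0004000280030001e0018,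
0xc00088002800220014000e0006400340006000f000400000001a000880030001c00010004800140010001d00010004400260004000d00070000c000d0002000140014000e000a8002c002e000f000a00078003a000c000280038002a000e00028007400080002000e800400008001c000380044001e0006000600070002c0012000980070002c0006000a0003c0002001000050001c000c00120001800600036000e,
0x13000b0002c0000000f0007800140008000f00038001c000a001a000e8005800080011000500064003a0010000c00070000c0016000b8003400380012000480028000a0004000e0000c000a0001000b80078000e001700048006000300013000a00000000c000c000c80064000c0009000b000580036001c000b000280000001400040002000060007000700018001c001b000d0003c002c0019000a0004400100001,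
0x1b000d80034003c000d000a0001400320008000000074003a000d0007800600030000d000d8002400180001000c8001000200016000780010001c001100060002400340006000d80054002a0008000200028000c001d000a80050001e000b00048002c00140019000c000280004000900078006c00040017000980030000200090007000780010001a000480038003c0018000e0001c002a0009000f0002000120018,
0x1400058000c00100003000200078002c0016000d80070003000190009800600010001600028002c0010000200010002800100014000b8003c0032000f000a00040000800180002800780024001100038002c0032000d00038006800140004000980048001a00040001800640008001c000880024003c001d00048002800000004000480048000e001e0009800240010001000090000c003c0019000380078002c0010,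
0xb000a0005c0024001200088005c002e000b000b80038002c0003000e000540016001100038002c0010000e000d8006800340015000a0006c0000001400090001c003800160007000680030001400070002c00200006000200034000e001c00050004800260009000c0006800300016000b00048003000080006000700004001800000006c0010001c0003000140016001b000a80014000e001a000d800100032000a,
0x6000f0000c002a00130007800580014001e000d80014002400030006000400030001500080007400200006000c0004400200011000d80008000200150008000540018000b000b8002400120018000c80038001000150007800480032001e00020004000020005000b80038000e0015000500000002c0018000d000200036001d0007000780024000d000d80040001c00190008800780012000e000300058002c0013,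
0x4000f00020000a001e000180000002a000a00048003c001a001b00028001400100016000b80058002a001100030002c002c000f0009800080016001600008004c0016000200090000c002e000c000b8005000060002000380014000e0015000f0005000000016000c000780026000f00070004c001c000f000700068002200120000800580002000500070005c001c001700028001800280015000e00000002e000b,
0x16000b800280014001d000b0001000180011000a00064002e0006000c800700022001c0005800500030000100028002800020017000400064000e001a000d8005c0036000100078005c0034000d000200074001c001000058002c0030001900038005800020007000d800380036000c000e800080018000500040001c002c001c000e000580008001800050000c002a0009000b00028000e00190006800040002001a,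
0x12000300028002c000e00020002c002e001900050005c0022000a000b8003c000c001000058007800320001000700060003a000f000d800600034000c000500054001c001c00018005c0022000700088002c000a0015000b8004c002c0008000e8002c0034000700020006000160016000a0006000060005000d0004400100006000a800140014000100000004800260000000900024002c001500030007000340001,
0xa000c8006400120003000880074002800000003000080010001b00060001400240001000c800380032001500048000c0014000f000600068002c001d000600070003c001d000280034002e0015000b00044002e001a000e8002400340007000c800640026000b00040006400280006000b8002400180007000b0003c002a0019000c0001400200017000080028002c0011000700034001e001b000d8004c0002000f,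
0x60008800740026000600078000c0016000000060005400160011000a80020000e000d000800070001e00130005800280004000900010003400060017000d800300026001a00070005c0018001a0006800440024000400088006000360011000d00014001a0011000e8003400300001000b8000c000e00040008000380004001b00000007800020016000900050002a0005000880078003c001400068006800000013,
0xb0005000040022001900038004c00100014000b80038000c00000005000540018001a0008800040038001e00070007800220018000300044002a00080000800780008000d00038006000000008000d0001400160003000080060000c000f000700040002400080005000740028000f0003800540006000e000280020001200030001000700008001b00088002c00360010000a000340018000f0002000080000000b,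
0x90007000740000000b0000000400024000800080005800100009000900070002a000800038000400240009000d80064001a0009000d00030003c0008000b800340012000a000e0007400160015000e80048003400010006800280036001c000600078002e0016000200060002c001700070000c0002001100078000000180012000c0003400020012000c800380030000900060005000300002000c800200026000c,
0xd00010006c0020000500098004c002c001a000d00074001a001400030003400380001000380050001a001c000c0001c0020001500010001800340007000a800200022000e0000000680012001d000e00068003a001c00008002400100008000a0006400300002000b8002800320015000c00060001c001200080002800300003000a800100026000b00000000c001000020000800500020001c00060004c00320002,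
0x1000a8006400320001000e80014001c000700060005000200004000b00040001a0003000b0004000220007000180018001c001c000380014002a001200090004400040004000a80074001000020005800400034000a000300004003a000e000e80074000e00080005800100028001a0000800640024000c000600038001a00190006000700000001600018003c00240009000d80068000a0019000880004000c0012,
0x8000800048003a0003000e0002800060011000d80054003c0017000c80024001a0016000e800540034000b00030005c001a000a00008002000020018000a0004400280008000d0005000120012000580048002a00130005000280022001400070002400120005000980020003a001e000280054001a0011000600050003c00010004000780000001c00070007000220010000a000400022000000000003000240007,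
0x4000a8000c0006001b0002000200030000a000280034000a000b00000001c002a000c0004000480036001c000d800500008001000078006000180000000e800240006001700020005c003600000003800700034001600008001000100001000e00024001a001b000c80078001800080008800600034000f0003000600020001c000e800400026001c000b8007000160009000a000400008000d0007000680020001e,
0x170002800600010001c000e80054001600130007000540036000100088006c0036000000058006c002a001e0001000500002001d000d0004000060018000a00044000e000000078007400360002000c0002c00220014000e800180032001e00058003000060012000b8006000160017000480004001c00080003800180020001700068004800020018000d00060001c001e0000800200004001300078001000000018,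
0x16000780050002e000b000c80044000a0002000a800300034000500080004c00360010000500028001a001d000b0004c001c000500010002400020011000280004000a0017000b0002c0038000e000c00020001c0005000c00074001a0013000c0001400240016000d8001c0038000d000900004001800100003000640038000500080007000220002000e0006c00080011000380078000c001300098001400320005,
0x1600028001c00160017000a0006000080011000380040002a0002000380028000c0012000f0004c0018001300030006c001e00100009800300014000e00018004000180009000a0001c00200008000a00044000c000e0008000640022000b00038002c003a0017000600020003c001100098005c0022001800058001c002c0008000000008000800180000800240036000c000b8005400280018000c8003800240017,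
0x19000900010000e0003000700008001e001e000500070003c0011000a0004c0016001500040002c00180007000780038001a0014000c0005800120011000a800540036000b000f00038002c0010000280004002a0002000e000600016001000010000c00240006000c800140008001c000d8002c002a0013000980044001a0015000a8001000340017000800010001c001d00030003400140004000d800040012000b,
0x8000e0001c003c0016000d000080034000d00038003c0022000f000000064000600070003800040020000500028007400340012000b8002000360013000e0001c002c0006000a80058001200180005000240030001100008006800260018000a80040002600140007800140028001200048004400060009000d8006c0032000f00020001c001a001c000d000380006001c00038001000140001000b0000c001a0004,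
0x9000d800680010000e000d80078000e0001000880018002e0004000b0002400320010000e80004000c001d000480038003a000e000880014000c000f000080074003c001000020001000220016000e000680024000b000f00068000e0001000e0004800160007000f00030000c001c000c0005800140000000e8004c002c001100068001800000017000a80078001e0015000b800180000001800048006c0016000e,
0xd00038003c002c000200090005400160016000b0004c00240017000200010001c0007000c000340012000e000800070002e001d000d000280006000d000c0007800300000000e80078002600160001800280032000e00060001c00100015000400044000a00170006000180020001800048003c003c001e000000054000e0009000a80004002000080008800300014001200020004000320007000b80030000c0010,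
0xe0008800340000000c000a000400024000f00038005400220011000a0000c0010001d00040003c0028000b000980054001e0001000b80068002e0003000900034001c0000000b00030001e001a00068003c003c000900090002c0014001a00018000c002a0014000a8000c0000001d000b0006c0022001e000900050002a000000080001c000c000f000f00024000000120006000440034001300068002400380008,
0x12000f0002c0010001a0006000480014001700070007000200003000880018000a00080008000480032000700038004800360008000f0001000200004000c800080004000900080005c00120008000f0006c0020000e00028002400120019000400034003a0010000b8006c002a001400010003400080007000c000340030000a000e0003c00340006000b800540024000c000200070003c00150005800640032000a,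
0x1500050000c0036001800000004000360002000d0004c001e00140005000600000001300010006c00220004000d00024002a000d0008000280022000400038004c000c001b000c0005c0030000200040003000040001000c800500028000c00060000c002e000f000780078000e001c000b00018001e0003000d80068003600050000000700008001e00018005000240008000e000400010000f00058001c003c000c,
0x13000080044003600020001000180038000800060000c000a00040006800240034000d000980074001e001e00098006c000a0003000700058001a001200038001000020000000e0001000000013000d000140030000f000d8005c00160015000480004001a000500028005400040018000a800300036001300060001800360015000700050003a0015000a800580036000a000a000040032001d0008800600024001e000e80044000e0010000880000001a00090005000240006000f00018001c00300003000c8002c002c001400058000800000019000e80038001600180004800280026000e00098002000000019000f00048001c0013000900018003a001900040002400320009000000018002c0000000600038003a0001,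
0x60005800740030001c000d000000004001100028007400140005000a0006c0024001800018001c00000017000a8000c003600140008000540022001300000002c0026000c000b80030003a001d00070000c00160008000780070000e000c0002800200010000d00080002c001c000e000f000040008001100040005c0024000900048004800120013000f0004c0014001300070002400320009000b8000c001e000f000e800040034001e00010003400280015000600048001c001b000c800700002000b000280004000600030009000000024000a000480028002a0018000a00008003c000c00070000400140001000a00074001e000e00070003c003a0008000580044003a0010000c0000c00120001000480040002a0017,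
0x50005800740022000b00070002000260005000780060003c00090006800780016000d000a0005000300001000300038001c000f000c80064001c001d00070001400260014000b000000014000f0005000140028000d00060002400200015000480054002800090003000740008001600048002c00080003000900014000400070006800400004001800068005400200017000a000440014000800038000c0010000500040002c00100014000e80010001600160000000780004001000090003c0026000e000080078001800110003800780002000c00098005c000400110006800100000000c00038004c0026001100080003c000e000000048003c00040007000d000540002001300050003c0020000e000900008003a001e,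
0x400048001c0000001a00058004400380005000d000780002000f00028001c003a0014000800078003c001d000c0001c000e0018000700028003a0001000c80058001a001800070001000060012000c8003c00280006000d00018001e000900050004c0018000c000e000080000001a000b000080018000900098003c003c000a000500020001c001100048005c002a0017000c00004000e0009000d00060000c000000018000c00220008000a8002c003a00030008000480034001100088006c002e0013000600044000a000500000006c00200015000100008001000150001800400030000f000a800040034001e000280028002e0011000a800680004001b00048002c0030001700008003c000800060007000680008000b,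
0x14000c800280024000a0009000740014001400048006c002e0015000400078001600180007000440004001a000c8001c001a001100008000000320002000000000003c000b000000030002a001a000c8001000320018000c00040002800160006000580034000a00088003800320003000e000300030000c00008003c0028001a0004000400028001d0000000580014001000088005000120005000a80044000e0001000080050001000170005000480008001d000e00078001c000e000500028001e000a000b0007400280005000b800600026001600008004c00300018000d00068003c0005000100058003a0017000b00034000c000d000d800140002001700058006400380000000d00014001e000300018003000340017,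
0x200020005800020018000b8005800260003000d0002c0012000f0000800600006000000058002c0004000800070005c000a0010000700038002a000d00018005c00080006000800074001a001a000c00014003c001b000d8004c0018000f00038000400260001000f00024001c001e00030000c0036001000090005c000e0006000b00064001c000d000700004001c000f000b0000c001c000c000c0002c0034000700088001000240014000d800480018001000030004c0002000000030000800040007000b0002c0002001c00020003c0020001400038000400020017000b0006c0020001b000e8003c0036000a00088003800300004000000008000c000300030003c002800160006800480036001d00030007000000012,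
0x1b000500028003c001d000980034003a0019000780034000c001b000a800580022001200068001000300004000a00014002a000a000e80078002c0017000d000300010000d000780054002a000500018001c001a000e00090003000320016000200010001a000a000e0006c00120003000b0002800220018000b0005800140011000100048000c001a00058001c0018001700028006c002c0016000a0001800040008000c00050003a001d000d00078003c000d00050000c0028001c00068005000220014000200064000e001e0002800300020001d000580004003c000600038005c0022000a00010001800080013000c00068000800090004000640014000300040005000000019000d800200014001c00018002800220016,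
0x500070006000020004000e800600028001c0002000200016001e00018005c003a0014000700038002a000a00098004c00060011000500010001c001d0009000640008001200028006c000a001c000d80020002400060008000500028000c00000003400360012000680028000c001400080000400100003000e800500024001100070003400360019000400028001e001700080000000180011000c00044000a0019000d8003000160003000900024001a001e00028005c001c0017000980020000c0002000e0005c001e0000000c8006400320001000b0003400320002000380040002e001e00030000c001e0015000280018003c000000010002800020018000c800500032001400080007000020018000b800380008001a,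
0x11000200074002a00150003000400032000a000680048003c000400040003c0028000400070004c00260008000980034003c0004000000000000e001a00048005c000a0003000800034001e000a000d000040010001a000280020001e00150001800180024001c0002800680012001600040002000380005000d80028000a0014000c800340022000b00060005c000a001000050004c00000008000600000002c001400000003400060015000980060001e00100005800200024001e00038005c0020001d00080001000200016000200054003c00100008000440030001c000680020001c0007000b0002c0026001500008000400360000000d800700036000200040006800220015000c8006c0028001b00098003c00080012,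
0x1500010007400360018000100010001a001c0008000040020001b000e8006c00180016000c80024000000050004000380010000e00078001800260007000e80018002a0003000a00020002c0001000900038003a0011000a00010002400060006800080022001a000c000300004000f00000003c001c0017000e800340028001e000e0005c001c0006000d8002000300001000400064002a0014000400050003400000001000540018000a00030000800280003000c8003c003a000d00000004c00320009000e00064000e0012000b0001400000006000b800100026000300010000400280017000a8003c0012001a0009800580028000500090005c00160018000a000400010000b00038007800240009000e80020000e000f,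
0x8000f000340000000100018005c003a0016000880074001a000000030000800020010000a8002c0034000f000880038001c0007000480074002a000f00030005800120015000900070000e000e000f0006c0028000c000f000700000001b00008005000060009000b8000000360006000d0005c000e0019000500014001800090007800300000000e000d8002800300018000f0005000360017000e00060002c0004000d80008002c0001000c000480006001800060007800080016000c8000800360009000700058003400070008800680016001800038000400100007000b000380002000a000700058002e000b000d000600002001b000480060002c0009000a800480022000a0004000580034000100078006c0010000c,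
0x1e000600008002a0011000800040001c001600018004000240000000100020001e0002000200000002c000a000b000140000001b000e000700030001b000a8002c00320009000280020003a000e00038003800380014000f0006000160015000c8005c0026001e000e000040030000900028005c00340012000800038001c00080000800140022001400078004c0038000b00038006c0012000c00050005c0008001700068002c000800010000000040004000f00090006c0008000200028003000320011000500074000a001a000d8004c001e0011000880030003a001e000200020002800090005800280000001c00058006800160005000900008000a000600058001800380008000e000200006001c000500020001e000b,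
0x3000d80060001a00150007800680030001c0007800700008001b000b800640020001100080005c0006001d000b00058002a0003000d8004c00020018000e80060003a000b00078002400000017000b8005c00180012000400034003c0000000500010001e0015000a000700030001e00058003c001200140002000280032000b00088000c00260002000b800380010001e0006800400012000f0002800400016001a000a8000c0030000000020004400000003000e000240014001e000180044002a000a00090005c001a001500030004800260013000b80008000400080000000200018001b000b0002c00000000000680060002e0000000a8005c000800090007000700024000d0007800540010000c00040001400200011,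
0x18000480078002a000c000f000080012000b00068005c00000019000c80028001400170000800500038000e00008006c00340004000c80018000c000b00010003800200007000d0003400060018000600030000c00140003000000010001a00058007400160015000380014002600180005000240008001800050005400200007000300068003a001e00078002c0028001600070002800040009000d00058002e001500010000800180007000e80000002c001a000d0002000120017000a00040001c000600048001c00320011000d80078002a0015000e0006000020004000e00038000a000b000700024000c0003000e0006800200010000d0005c003c0004000a00024000c0013000600068002e00100001800600036001e,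
0x4000b00070001a001e0009000680000000700088005000200003000b0004c00240012000e8004c003c0003000900028001c0014000c0002800080006000b800040028000200080001c0016001500090004c00240013000c0000c000c0017000080018000200120009000040022000a000d8003c002c0007000600070002a0011000d0006400140006000b8000400080001000d800740020001b000280078000c0006000d8004800200007000b00010002600010003000140032001200030002000000008000b00074000a0003000480000003a001c000c000140018001c000a8006000020010000e00010000a0013000c800300026000d000c8005c001c001700020002400060012000900028000c001b00058000c002a0018,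
0x1000048003c0002001c000b80024002400170009000680014001900018006800020012000b8002c0030001e000d8000c0002000200070006c00060007000400038002e000e000400014001c0007000a00028002e000e00080000c0006000c000d0006c003c001e00050007400080003000300034003800120007800380010000c000d8001c0014000b000480034001c00030005000100000001800020004c0026001600070001c00360010000080038000e0018000d0003000020019000b8007000140006000a80068003800180009000700032001e000100020000600190008800080032000e000600044001c0005000d0002c003c001a00090004000100011000f000100004001800008006c0030000c000e00024003a0010,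
0x19000c00058000000120000800000012000d000c8001400060006000a800540030000c0003800700002000a000480018000c00140005800580014001a000900028002c0007000180008000a001700048000c001c000b0000000300010001700028006c0014000e00020005400060016000e8005c00180013000a8007800160003000900028000e001300010007000340007000880064002e00120001000300026000900078004c00360012000d800000022001600038003000020018000f0007400000017000400058000c001800098004c0032001c000d80020001000040002000040024000f000a00058003c001e000a8000800080003000200024002e000300028002c0024001a000b80064003c00010006800280038000a,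
0x1c000d8005400380004000900020003a0000000680004002e000c000600004003c0016000d000380022000f000a80054003c000b000000014001c001d000f0003c00280015000780020001e00010000000440026000f000700000000c00090009800300036001000048004c003a0007000500070002a00090006800240016001700008000c0028000300008006400060001000a8002c00060008000d0003000340000000800048001e00150006000480020001400018006c000400120001800540010001400010003400280004000e800300004001300020005400240008000500050002a000b000000034000e00110005000380000000b0005800080004001b000d000700010001500010007400040001000b80070002e000e,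
0x18000c00054000c0006000600004003a001a0004800040022001500080004400140006000b0003c00340012000880040001e0006000d8001c0028000400068002c00380017000e80060003a000f000d80068000600090004000600006000d000000030000a0005000580070000e001e000a80020000c000f00048006800100004000300018002a0018000700044001e001b000c80070002c00090001800780038001800080003c0014001e000380030003c0013000c0005000060005000f000140004001000050006800300007000b0005c002a0003000980048002c00130008000540004001600010005c00200001000400070002c0015000580004003c000500000002400180005000380030001e000c000e8004800040002,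
0x17000a0001c0012000200058001c0018001d00010002c00200007000c800680014000a00000004c0004000700058002400140015000f0004c00280008000a00064002c001b000b80010003a0003000e00064000e001b00058002c0008000500040000c000e0012000a000040030001e000a000400004001500098006000020018000b0001c003c0000000b800100010001c000a80040000400180001000480012000c000a0007400300010000d800380032001b00058005c002c000100028001c0026001400028004400120014000c000380038001500020005c00300017000980028002a0013000100030000a000c0008000040026001a000f0005c0010001b000380064000400110005000640014001200070003c002a0004,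
0x1c000d800240016000a000c00004002a000d000700014000a00080001800180020001b00038000c0022001300018003c0018000c000a000100030001700028001400060011000a800740024001400040007000220009000d80000003c000d000f000700030000b000c8005c001e00020004800600014001800068004c0000000d00090005c001a0001000780044000c000f000880050000a000d00048001c002e0000000400020003000160009800780038000b0009800540030001e000200058001a0002000b000200020000c000d000640026001d000f0001000160011000d0002c0016000800008004c0026000a0004800340030001800080006c00160011000a800600032000c000c80070003c001d00060000c00260014,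
0x5000580004001e000f000b80020002400090002000440038001a00098003800300002000d0005400180005000b0004c0008000700000001000260003000c0006c000a000e000180008003c0015000c000400010001200090003400340004000b00000002c001900048006800180019000200038001e0008000d80068003a0003000600070001e0004000d80054003a0018000680024001a00130004800080032001e000600054000c0015000a80054003a001500018007000260004000200038002c000a000a8004400180004000b00028003a001700068001400360005000300064000e0014000300000002e001a000e000380032000700048002400040003000900018000e001d000a8002c0034000d0004000580022000d,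
0x130002000340002001a000800000001e000b000f00024000800080009000080004001700028000c001c000f000a8002c0020000c00078006000000013000380028003a0011000a8005c002a0016000b80034000a0015000a0006c0014000d000c800740038001e000580054000e0008000500044002c000b00008005c0002000f000b000580012000c000b0005000300003000e8006000280018000e000000020000d000f000400032001a000c800600008001e000000078001e000c0008000640028000f000180040001c000c000e00014003a0006000a000240002000e000480068000c00180006000140004000b00028003400380017000880064001c001a000c0003400020003000d00050000200180000000400018000c,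
0xa000f00014001800170001000640012000e000c0006400220007000080070002e000b00078000c002e001e000880024001a0001000c8001800340005000200004002c0001000d800000038001c00058004400340003000c80000000a000800000005c002a0016000b80008000e000100070002000060015000780004000a0015000580048000e00060003800080014000c00000004c0032000f0007000440024001c000a80058000e001a000780028001e000d000580064000e001b000b80060000e0007000e8006c000c00020006000580012001c00020006400000012000e0001c0014001d000c00030003a00100005000400022000000030006400060013000f000480000001d00020006800120000000c00060003a0002,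
0x1000140000000000000001c000000190002800680038000900080004c00280010000d0004800040016000a00014001c000c0009000740016000c000f0003000380007000b8001400240014000c000380024001e00060000400280002000e80028000c001c000080008002400030002000740004001b000800004002e0018000c800500020000700088006400380011000e0000c00380006000d8006c0018000b000980050003a000d000e0005000360003000380078002e001d00070003000040015000980074001a000f0004000400018001c00080003c0012001400068007000240007000800060002a001c00068002c0010000400050004000060008000800050000000190000800240006001800018000400000013,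
0x10000a000640032001a000b800300000001e00030005400200000000a800580032000b000d80044002c0015000f00068000800030000800140006001d0001000000000000700090004c00140016000e00000000400040006000100018001b0008800540002000b0005800780018001e0009800300004001900080002c003c000e000f00048000200140004000740004000e00018003400180004000980014002e00010005000440038000b000e000140002000b0007800740022000a000e8002c0008001900030003c000000170004800380018001300060004000140006000b00030002c0000000880010000e00120003800600002001a000b8001400180018000900050002c000500030006c00140008000e80010003c000d,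
0x90005800340004001c000b0000c0002000600018004c0038001d00028003000020006000100008001400140001000780038001a0004800200022000c00080001c003600150000000740020000300038004c003c001d0000800040038000500010003c00260007000e80010001e000d000b00054003000000005800180030000e000e800500024000e000700068002400060006800640010001e000b000040036001700030002c00240016000180068002000070001000480018000c0007800040010000e00008005c003a000e0007000200016000a0000000380022001d000500038003200010000000500008000900020004000080005000880068001c000a000a8000c0034001a000800064000a000b000580068000c000a,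
0x500098006c002a001a00030001c00100019000c800480010001d00048005c001a0008000c80000002400160009000440014000f000c800040026000f000780060001c0001000a0000c00120001000c8002c000a000d00010006c000a0011000480064001a001d00038007400100005000680034001c0013000700058000c001b00090004800320000000100064002a00000003000200028000200068000000260016000300040000c000b0001800280006001e00008001c00200005000b80060002e001300020003000200006000c00014000e001e000d8003c0028001b000c00064003c00090000800600022000800088006c000a000200080002c003a0019000c80004001e0019000700054000c001700040003400280018,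
0xd00060000c0030000e000a000680036000200050001800360001000d80064000c001e000100020000e0018000700074003c0012000f000040004001a000100034000a000b0007800680000001b0005000700024000b000100030002a0016000b000200018001a00030004c00020005000b00024000a000f000d0002c000a0006000a8003c000c001b000080028000a000300038001c00300005000f00010001c0001000000008001c001e000a8003c00180007000600034001a0005000a800740002001a0008000600038001200040006000360016000100040001c0013000f00058003200130003000740000001500010005c0032001600090004400120015000d800100006001500068006400000010000800024000e0015,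
0xc000380074001c0000000b0004c00000001000f00008003a001c000c8004800160000000c000580030000c00040004400040019000200048001a001500088003400000014000800060001e001e000480014002a0015000e800300026001e000c800680038001a00018006400260016000f00000002e001e000780008002a0008000800068002c00190002800380038000400068004000100007000d00060000a001200008007000220002000b0005000300004000a0005c00200013000e80074002c000c000b00058003a001e0009000380000000f000f0003c0008000c0000000400028001a000100010001800190003000740018001800000003800300002000580048001c000200028001000160015000b0001000120000,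
0x7000300028000400070005000480012001300068004000100005000800008003a00190003800040022000000040005c0008001a0009800300030001400010006000340006000300038000e000f000400018003a000c000a000040010000400020006800020001000a8000c001e001200018003c001c001400010003c000c0012000c00038001a0008000a8002c000a000f0009800180010001500060007400200019000a0002c0006000c00068004000260012000d800500000001500080001000280011000280044001a000e000300020001a000c000800024001e0011000200000003a001500028000000060016000b8002c003c000b000580028001c00190008800740020001b0004000040022001300018002c0016001a,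
0xb00090007000240011000280028002a001c00058000c003c000900078006c0038001000030001000320011000d80018002a00070008000140032000600030000c00140005000780030001a000d00068001c002c000b00080007400120005000980018003a0008000a00034000e00170005800340032001d000d00040000800040002800300038000100028001000220006000e8004800180013000600020000e001200050003400200006000b8003400280007000b0000000080004000800048000a000200058001c00360009000180074001c000a00088005c001c0002000b80030001c00110009800780032000e000d00024003800090001000340022000400060006000260001000f000700012000400048001800080019,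
0x800020006c00160007000100074002c0017000700064000a000400080005c0000001e000c8001000240016000700070002a000f000e80028002a000a000100048000a000900090003400280012000d00010001e001a00028004800300019000e0005400340014000e8005000000008000b8001c0012000a000900050003a000f0005000480038001c0007800280012000a0008800600024000200008002c0028001b0007800600024000d000480010001e0005000c8003800040001000280028002a00070004000140008000c00098003c0006000600088005800180004000d800300010000c00008002800320004000980028000a000e0006800040002000600070002800120000000d0006000080000000c00028002c0014,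
0x1500020002c0024001400038000000180005000d000580034001c000a00008002a001e000e8005c0036000d000d000600032001d000b0002000020019000f0003c00160003000780078003c0019000300004002c000d00050005c00020002000380060003a0003000f00000000a0006000200034002c0017000800040002e000b000a000780002001b00058000000140014000f0004c001c0003000a0006000080014000680020002e000e00048003c002e000d0008000000002000100060006400200010000b0004800260008000f00000001a001400040000c0018001400070000c0032001900000001c0036000000030002c000e00190003000000030001400040002c0016000b000280018001a001a000a8006c0030001e,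
0x40001000440006000300028006c000e0012000e0005000220007000e0007800120006000300044001e001d000b0001c0034001d00010003400380001000780030002e001a00030000800020017000880058001a0017000a8001c00260008000d80010003c00160007800040016000f0009800580014000900018006400100007000c80070001e000500078004c0026001000078007800260003000800008002c0002000c00070002e0011000d0002c002a0006000e8006000100003000b80058002e0011000e0001c0012000b000e0002c00380004000e80038003c0002000800000002c00180001000080032001000058002800340008000a8003c0010001200018005800320016000f0004c003a0018000c8001c00340010,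
0x28006c00140013000780068001400010005800300034000b000d000040020001b00028007400320014000e000640034000e000800070003c0015000e8006c000e000800038006c0002000f00070006c0004000e000a00034003800130009800540030000d000280054001c000b0006800540034001d000000040002c000e000480038002e000c000a8001c00140003000d00038001e001d000d80070003a001200098005400160015000a000000002000a00088004000160005000b800140036000d0009800380038000d000a8000400320010000a800440012000e0005800100026000a0007800400000001a000000020003a0006000980040000c0005000b8003800220017000e80018003a000f000480070002e0011,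
0x1d000980000002a001900088002c000e0007000200064001c000a000b00074000e0008000f0000c002c0002000e8003c0006000a00090007400220016000c00030001a0010000980070002c0019000980058003c00040001800300010001a000e0005800380009000d00010000c000700000000c002e0000000180044002e0012000c00050001c001d00028002000100013000900030001800140003800240006000600048006c002c001900080002c0034000f00070004000360005000380010003a000e00068005800220004000e8005c00100007000d8005000060018000380014000a001e000b8002c001a00080002800000008001b00060000c00340017000800024001a00120001800440036001e000300038003a0009,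
0x13000180038003c000c0003000100006001d0004000500038000d00008000000000018000080040002000120006000140038000b00040003c002c001400000001400360008000d800680016000c000a800200014000900040005c00140010000880068001e000400000000400340018000e8006000160007000a8001000080015000e00040003a000300008006800160007000c0001400180009000300054003c0019000880024002c0002000100024001600120002800140024001c0006000700028000a0000000240012000b000c00034000c000d000600028000a00180002000500002001c00068002800360010000b000640012001c000700074001a0009000d800640018001c000f0000c0036000700078001000040018,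
0x3000880020000400190005000500032000b000900014002200190009800340028001400090004c001e0019000480044000a000300098005c0018000c000b8003c00280015000600054000c000d000c00044003c0004000000014002200180001800280030001d0003000100036001b000180004000e0000000700000003a0004000e0006c0024001b000c800780016001a00068005800160003000b80064001e0004000700004002c0001000a8003c00080001000a000780034000300020000c0016000400018006800060010000500004001a00160003000100002000d000880020002a001c0009800180024001700060006c002600030001800300038001400040004c000e000b00068001000240018000a80024001a001a,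
0x20002000640012000c00028003c0020000d0004800040026001400020000400360011000c00008000600060003000100036001e00010000400140003000d80070001e001e000d00020001e001e000580060003a001d000800060001c001e00040003c003200170005000080030001400098002400160007000c8006400280000000b0004000120001000000074000a000f000180074003c001600058006800220017000c0000800380013000e8000c001e000e000200010001a001500070006c002e001d00010006c001e000e000a800700016001c000c8000000340008000d00048002c000b000b800600034001a00020003c00200007000e80020002a001c00098001c002c0001000b0006c00200006000200068001e0001,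
0xc00078003c0026001800048000000300018000880078002c001a000c000700024000a0006000780020000f00028007000140011000a000180020000300040007000180009000e00070003400050004000100000001a00040006800120001000680050000800020003000780006001e000e00028000c000b000d000040034000200078001000240001000080044001e0012000b800240000001d000980050002c001900078005000360009000a800780002001a000e0003800180005000c800780028001500020003800220013000880048000e0013000400008001e0007000b000140002000e000980058001a0003000b8006400180007000d8001c0032001900090004c001a001e0008000500020000600018000000340000,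
0x900028001c00140003000a00050000a00090006000640032000e0009800700012001b000c0001c00300008000f0005c002a0007000c80044001e0004000c800780030001400068005c00020017000800070003a000600038005400100017000400000002c0007000d00030000c001800050005c0000001a00060006c0008000e000100028002a000000018003c003a0000000480054000e001900098005000240009000a8005000140008000100070003c000600070000c00240016000f00044003c0019000500030002c00030006800080026001700058001c0006001c000780034000600140002000440010001e000e000500014001b0004800380034001b000e0001c0034000c0003000740012001700040003c001c001a,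
0x300080006c002a0011000c80018002e000700018007400200011000e8000c00260013000c8001c00160007000380020002800080009000740004001e000800070001e001000060007400360019000600060003c0009000380060000c000a000b0007800300008000880018001e000900080005c00320011000380010003c001d000b00008000e000500040005c002c000b000380078000a001d000500018001000030003800080038001a00070003c002e0014000580024000c001c000080078001c000500098003c000e0005000b00004001e001400020003000000000000e0007400040007000680020000800090001800540020000c000600004003c0016000b8005c00200003000100024001a0009000a800040022001d,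
0x3000b00020001c001c0006800440004001d0008800200036000f000700078002400030008800540020000e00030000c001e001400060000c00020005000980018001c001700000001c0032000f00020006c002c0010000b80014001000000002000140002001e000d0003c003a001c000a0004800120019000b8000000080014000080028002a000e00010004400340003000b0001000060009000c80060000e001000088001c000e000a000200000002c00030009000740020001a000000064000e001e000f00078002a0005000b800780000000c000c0001c00040016000f00068002c0017000a00048002a00190003000400004000200098001c0014001b000d000200034000600010004c0006000f000400028001c000a,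
0x1a00098000400320003000d8001c00240008000380000000c001400070002c00020003000080028001000030009800540036000c000200058003a000e000c80014001c0017000080028001e000b000c80064003a001d000e8003c0000000800040003c0016000e000d8001c000800010000800380032001900020001c0010001400000005c0012000000088007000120005000380024002a000f00048006c002000100008000340032000f000d8003c001a000c000b8004c0028000000068004c0000000e000e80054002800050001000100022000a00028003c000c000d00078000c001e0000000c80054001a001000000000000080006000d8001c003c001c000600010002c0014000280058001e00060006800240020000e,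
0x1600048000400120013000b000680030001000098003800380014000b8005c003600090000000600022001a00008004c00220011000b00018000a000a000d0003c002e00080006000280010000e0002000540022001b000080040003a000900000005c001e000000078000400340010000e00044000a0005000c8000c0024000a000c0005c00380013000600038002e0014000380004003c000e000580018002c0019000280010002800120009800600016001b000b80040000a00040002000740036001200008001000360005000d00014000a0015000a8005c002a000c0006800580002001d00040005400320002000f000740030000c00028005c001800090000000780032000b00008000000200003000880008001a000c,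
0x1100080002c001c000800030002800260013000100044003a000e000b00000003600180008800480036000a00098002c002a0002000a000780024001b000900014002200170005800000018000d000100044000c00040000800140008000c00020003800180001000d8004c003c00010008800400012001e000c0007800340019000e8006800000007000c0002000340010000100050003a001e000f000100008001c000e8006800020004000e0000c0032001a0004800040018000a00030005800120006000e00070003600110007800500012001d0004800700026001400010004c0022001b00070003c002e001b00000001c0000000200040003000040004000b8006c0016000b000c0005c00320000000880028000e0001,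
0x1500028002c0010001a00098006c003000040005800740020000f00010001400100014000780034003600000000800480030001e000a0001c002e0007000b8006c0038000f000780040000a000000098002c0018001c000580020000e001800018000c000a001d000280054002c001e0000000100024001c000c0004000240008000d80020001c000c000c80040001a000300038000c0000001d000400078002a000a000d0000c0028001600090003000100001000e00018003c00120002800440012000f0007800640008000c000700030003a0012000c00040000c001c000e8004c00260018000c800700012001300058003c0020000000018007800100009000c0003c002a000a0004800240014001200030005400240002,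
0x13000c80008001c0011000d00064002e0003000000014001e001e000a8001c00280013000100060002400090002800040004001a000b8001000140014000900020001e000f000800038002e000e000b000680028001b000680014003c0007000a0006c000e001c000b8006c003a000400030001000120015000200064002800000000800540038000900040000c00060000000f00074001e0009000e8004800000006000580008000e0011000c800740038000500020002000320012000e800180036001e00028006c0006001a0008800480036000f000480034002a001c0000800280034000c000200048001a0002000e00068002000040004000300022001d000e800640024001c0005000140030001e000600048000e0003,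
0x300010004800320008000480068001e00060009800100012000b000d00034002a00020004800080018000600088003000260005000000014001e000c000b000180008001d0003000180000001200070007000020015000c80014001e0019000c0002800280006000c80028001400190007000680028000d000400000000e0006000600020002e0019000c80024003000060006000180034000c00068003800280010000300038001600140009000380028000d000e80010002e001b000d80078002a000900028000c0018001b000f000040004000800048006c0012000a000f0003400160003000800030000a0001000200038001a000100040007800140012000d80048001c0012000b00078000e001500058003c001c0007,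
0x11000f00054000600060007000640034001800028004c0010001c00098004c0008001d000a0001800240018000c000180024000d000900044000e001a0000800640002000200020001000020010000b800340016000500058002400020004000080014000a000a000e8001c0036001d000a800000012001c000980054001200130003000700010001d00088006c00060017000c800680010000b0000800000014001c00080006c0024001800078000400380018000a8006c0012000e000580078000800090006000200012000d000980028001c001d000c000500010000b0000000780018001600098005000160010000c000000016001600028005c0038000a000100014000200140005800280038000e000000074002e0007,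
0x2000b00050003a00170004800000022001400028001c0026001100038000c002a0004000c0006c00160006000100058002e000300028007800140009000c800780006000600070004800020012000b80028001e00030000000500000001400018001c0010000200050002c002a000300018007800180014000080024002e001b0002000600018001900098002800240008000d0005000100012000180018002a0011000a800540022001d000e800640012001c00018006400340004000180060003a00020008800040014001a00080004400360012000a00078002a0014000e000580022000e000c80034000000050003000100026000400040004c0038000400050001000140012000d0005c002400140000800280030000b,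
0xa000500048000c001a000480074000c001400030006c0024000700050006c00080013000a00030000e000e000b0001c0004001c000c8000c001a0019000c000700034001e00030000c00320002000180008003c000d000d0000c001c0010000b800600002001200000006400360004000b000380028000200068003000100003000e8005c003c0016000c0003c003a00030007800700022001100008005c0002001d00020007800280017000c000480016001a000b0000c00240016000d0002c0030000c00090005c003a000100080004800040007000600064002c0017000800030001c0001000580038000a0014000800014000a000700018002c0004001100038004000240017000d00044003c001b00000005400220006,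
0x18000b8003000120004000d80070000c00000007800180010000900020003c0008001e000600014001a000000010000800140001000d0000c003c000a00080005c00120018000500078003a000000058003000220008000d8005c0002001700080002c0006000a0000000140038001e0008000700030001800018005c00100013000b00008001000070004000280034000d0009000000014000700028000000220003000e0002800080005000680060003c001e000b000380002001c0006000180008000c0000000140034001a000000048002a001d000a00004001c000f00000004c00020015000c00014001e0014000d8004c0034000e000900010002e00150000800740014000c000080000001200130001800700032001c,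
0x14000e000700004001b0008800240026000b00028001400340010000480024002e0005000400054000600080007800100038000600038006800380008000e00060000c001300050005000200014000e000540010000d0007800280032000b000b80064001a0016000b8001c0026000a000e0004800020009000280044002e0019000b0005c000a0019000a0000000320002000d00040003c0017000e000340038001c000700030000c000e00008001c0016000c000380040000e0014000700050002a001500038002000080007000c00000001a0000000d0006400040010000e00030001c000e000d80068000c001000098003000320006000b0005000320003000c0006000360005000d80014001c0008000b80070000c001d,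
0x700064000000030000000280006001a000d0003000000012000480010001e000300060006c00100006000080058001a0006000700010000e001000000004400220005000e00044003a001900028003400100016000d0001c002a000d000a0003c00120004000500028001a000e0008000740026001e00090007400360011000b8000400120007000f0001000120017000d0000c00160007000880018001c000500010006c000a0011000f0003c003c0005000d000100016000700038000400140001000b800540026000a000600034001e0014000280050000a000c000e0006c000a001c000c0005400180008000180058000e00020008800540000001c0004800580032000e00050000800080000000680020003a001b]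

/-- packed matrix of `R 94` -/
def lit94 : ℕ := Cfsg.Agent.Lib.PackMatGroup.asm 2261 [
0xf0004000040024000100060004c00280010000180060000600000005000340032000c0003800040010000b000d000500016000b0007800080028001c00098004c0020000900058003800120018000e00078002a000b000380070002c001e0004000440026001200088007400260015000d0004c0034000f000580030003c001c000280008001c000a000f00070000a001e0005800100028001000048001c00380017,
0x17000b8006c00320012000600018000e0006000980064001200160002000780000000a000800048000a00120007800480002001600060001c0020000000010001400340001000680064002e0005000b80020000c001300008002400320006000280034002e00000008800740038000e0006800600016000f000700040001c001a000a000780002001500090003c002c000b00048003000260012000f0003000280000,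
0x400018002c002400060000000380018001b000d8006c001c0002000c800640020000a00038003c00380013000e0000c00180019000080020001c000d000c8006000080007000c000280038000b000e8004800220006000100070000a000e0008000340032000d000b0004400000017000b000040032000900030002400020001000700048000a000300060005400380005000b0002400340014000600060001e000e,
0x800058005800300000000c000000036001400088000c00180013000580038003800060003000340012001d00088001c003c000a00060000c00120000000a0006400080009000f000480018000c000d80030001a001b000880044001a00030002800780038001b000f000140004001c00000006000000017000b80054003a0015000d00044003a0006000680000000e000f0008800480026000200020006c0028001d,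
0xf000b8004400060005000f000340018000d00018000c003c001c0009000780018001800040000800180013000c8001c0028000b000a800380016001c000f0004400220004000b80030003c000c000e0006c0016000400048000c00120013000580000001600030002000700034000600018003400340006000600010001a00090003000200028001e00070003000080017000800018003c0013000e0005400020019,
0xa00020002c0026000d00048005c001c0004000c0006000000014000b0006c0030001800098000c0036000100008006c00360012000f00010002a000b0004800240002000400038001c00080010000b0004000220013000d80044001e000800040003800140018000d8006c0030001a000b00000003c001b000100070003c0006000780074000a000f000000004002c001600030005000360018000280008000e000b,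
0x130003000500028000f000d800340020000300010003c001a001d000180078000a001300000002c000e000e000a800440026001d00030000c001c0014000900064001a000f000d0000c00300006000d000580006000f000780054001800080002000200008001a00088001c0022000900078003c001e0015000700004001000020001800100020000400020000c002c0007000a00058001e001c00028007800180000,
0x4000800068001e000900078006c0028000e00058004c002a000a000180068001e001e00020004800240006000780030001200000009800700004000d0008000600004001e0001800180014001c00070002c001c000200098007400200013000300074002a001400098000c0002000000048004000200017000e0002c0014001b000a800580002001e00098002400240005000800008000a00080006800700028000e,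
0x1000800038003c0019000480034003800050003800780016000e000680014001c0018000d800180008001800038003000360008000780004001a0006000e0001c000a0009000500058001e000b000d800780038000f0003800380024000e000880048001600130008800580036001b000480078001a00170006000480030001400038003c0012001c0005800600028001500038002c001000090008000340012001b,
0x3000c80064001c00000005800680028000d0004800240018001a0006800680002000300088002800280018000d000280020000c000380058003c0006000f0004c001c0005000e00020002400050004000000016000600080006c0024001d00070001800160011000d8004c000e00100004800680036000c000c8006c0002000700008002c0030000400028002000000008000b80058001c000800000003c001a000f,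
0x1000080008002c000300018002800100019000980048000a0001000d8002c00100000000e0002000040004000b800680038000e0000800400034000700040002c00020019000a000040000001900050007400160011000a800040010000000040003c0004000c00078000000260019000080008000c001e00078004c00100013000780068000c0017000780034001000180009800480038000300008004c00300015,
0xa0000800700036001b000a00030002c0003000a80040003c0008000800040000a0008000500034000e000d000d80064002c0015000a0005400220006000d8001000180013000b0005c001c001800010006c000a001200078006c0008001d000c800180004001b000d80004002c0016000780010000a0008000500064002c001c00080001400120005000a00028000c001600070001c001c001b00068004400080000,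
0x11000a0006c0006000a00010001c003200170000800340016000300080007000200012000e000280024000b00050002c0020000000078003c0026000a0008000080024000b000780020003c000700058000c000c0014000800004002800110002800640022001600010003c0010001c00010001c00200006000280030001c000b0002800080028001200020002c000200040006800100024001c000580068000a0013,
0x9000000008003a000e000980054002a001600098003800060012000e00034003a000500008002800020006000f0002c00080018000c8002c000a00030000800700010000e00018002c001c0012000b0007400380011000000068003200170003000740002000600050001400260004000500024002800130005800240028001a0000000340028001e000700064001c0018000e0002c0002000a000a0005c0000001d,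
0xf000e000600016000a000180050000e00100008000700028001e000f000240032001900020001c001e001200010005c001e0007000f000100030000c000b0005400120008000880018000a001600068004800220017000680060000e000100030001000380006000d0005c00380008000b000440022001b000500030001e000b00050004400280010000d0003c0024000900088002400180010000d000080034000a,
0x190006000580002000e000c000280000000000058003400060006000700074002a0000000f00020003c000e000100068000c000700008007400040005000a00034002e0019000a00060000e001b00048007000200015000800038002e00050002000000022001b00030001800200008000e00030002a001b0005800280000000300008001c002c0010000c00000003a0014000b00000002c001b000a80054003a0011,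
0x1c000c8005400260006000100020001a0002000000058001a000c000a0002000060010000c00040002e000d0007800400008000b000c80038001e0001000f0006c0022001500048000400180004000b80024001c001d00058003c0030001a000e00064001c001e00080005c00100004000c00070000a001c0004800740008001700070006400020011000880064002c000f00058002c000a000b000c8004400020012,
0x200030003c0038000b00098006c00280006000d800440030000d00050004800280016000080034000200130002800240020000b00008000000180000000b8001800080014000b800000010001200070006000260008000d0004000120010000e80018001e001500028005c000c001d000a800080024001c00018004800120013000700034000c0007000300028001c0006000080028002c00000001000480016000b,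
0x4000c800640020000d0002800100028000700000001c000e000300028005000340005000a0000c0030000c00008003400200007000f0006c000c001000018004c0036000800090002400020005000f0000800240014000e8003800140001000d8000c0020000500000000400280006000080044000e0013000580024000c001b0002000540020001a000a00040000000000008000380016000b000c0001400020019,
0x17000580028000a0002000d00018001a000e00068004800260015000d0000c0028001d000b8000800160018000a000780006000d0003000000034001a000880068003a00110002800580000001600088004c00340009000780004000200190004000380000001a00088002c002c00030005000780012000d00038000400160014000b80068003c000d000500014001e000c000580000002a001c000800058003c000b,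
0x150008800180028000600068003800180006000d0002400060002000c0005000140001000b00030000e000800088005c0006000400040003000280017000780040002c001e000e80028001e001700070004c0012000b00050002400000008000d8001c0038000000028004000320006000800070001a000e0008000180002000f00048000800040007000d8004c00140008000b000240012000e00098002400160012,
0x8000c0003400160019000e80068001c000800080004000320019000c00004002e001b0001800180008001500078006000300018000a0004000240017000b800000028001600080000c000a001d000f0001c0028000c000780054002e001b000080068000a000d000900008003a0002000480050002c00170002000600020001a000680048000c000b000c0005800340003000080000002c000700078003c00060017,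
0xf00030002000220003000c00054000e00090008800740038000b0004000240008001e00020002000140017000880050000a001e0002800300002000b000b000340038001300090006000160018000c0000400020014000980030002e001b00078003c0024000d0005000700000000400008001c001a0007000c8005c0006000d000980064000e00130005000680016001500028000c0024001c000e00014003c0013,
0x300000000c00320017000c0004400180019000e00044000a0011000e00044002c0003000600048001e00020005800640026000e000a000040038000f000100028002e0011000a8004c000e0005000b00018000c0010000b800280032001800088006800080006000180078001600150001800680026000a000f00054003000060008800780000000600088000c000600080000000480022000300000001c0002001b,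
0x13000580038001c000e000900020001c00040002800000012001c000e00058000e0011000580054003c0001000e8007000260001000080008003c0017000300028001c0004000c800140016001c000c000140012000d000d0004400240012000a8006c000a000d000200060000a0017000d0004c00180011000d80010002e000d000400008001a0013000300004000a001e00058001c0030001b00050000400100006,
0x5000400030001a001d00038001c0024001e00070004800120000000a00028001e001c000980078002a0011000b8006800180017000400020003c0009000880078000c001d000700050003c001d000000024003a000800050000800200003000700058000600190007000200008001b000f0003000160017000d80058003a000e0009800140028000c000580044002a001300088006c0012001c000e000200010000e,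
0xb000200064003c000800040002c0030000300078003c00260005000a80004003a0010000280014002e0011000e800140032001c0001800280020001c000c000400024001800070000000100012000780034001a0006000580030002c0011000a80058001400140004000300024001300028005c00240019000f0001c0020001300058000c0034000400010006400140003000e8005c0010000a000100048001c0004,
0x110009800140016001e00018002800320003000c800180038000d000000048002c001c00000006400120014000d0001000240008000b000200006001100060006c001a00080000800240016000f000200008002600030002000500000001e000c800100016000d000480048002200020002800740032001e0001000200004000300070007000360012000a000140024001200098006c0022000b000200054002e001c,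
0x17000780078000e0010000a8002000260010000f00018003c0015000e000700006001500088003c002800060006800580018001b000600020003c0001000080020000e001a00048005c002c0015000e00078002c0019000500024001a000f000880020002c00050005000440018000900008006000100014000f0001800000005000400014002a0015000880004000800010009800300022001600070002c001a0004,
0xa000d80008003800170006000080002001c000b80020000a001e000800078002a001c00030000c0008001c00078002c002200040006000180026000000078001c00200009000900054001800180005800480026000600008002c000a000c000d0007800380012000b800500006000700000001800120013000700064000c001700038003800380000000580060003c000c000100054001e001900010003c0004000e,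
0x200040000c0030001500098004c0016001700038003400140005000480078000c000f0004000280038001e00030002c001a0012000100000002e00050002000700016001900010007800020010000c0003c0018001600090006c00100009000f00020000c0010000080004000a0001000e0003c0014000c00068003c001c0003000080068002e000c000a00064000c001700080007400040006000d8006c0036001c,
0x400040001400000003000b000400024001800050000400320003000c0000c002a000a000a0007400320003000a8003800200008000a80020000a000a000c0001c002c001e000200060000a001d000700008000e001e000680064001e001a0001000340000000f000b00028000600140004000040038001e000a000780022000b00090003c002c0015000b000280026000d000e800500020000d000d8001800280017,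
0x1700040007800020011000f0004000060013000100044003c000100018005c00220011000480040003a001b0001000740034001700018000c000a000a000c0006c003a000c000780000001a0002000d80034001c0017000d80040000a001700070000c002e000a000600068002c00120000800600030000b00000004000100012000b00048001e0017000e80018001200000000800200030000900030006400220016,
0x1e000e0002c00380016000980008002c000c000300044002000190006800240018001a00018006c0014000c000a0001400200012000b8000c00340009000e00004003800130007000200038000d0001000100032000500028001400380000000e8001c0028000f000400054002800040008800740036001500078002c003c0002000b0000c003c001200038000000180016000e00024002a0011000c00044002e0002,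
0x150001800380024000d00080005000260003000400050003c0018000800040000e00130008800500010001c00010000c000e001400020000c0036001c000800010002c000000058001c000c001b000500050001c000d000a000640028000d000a000540012000d00010006c00040018000080000001000130005000700016001e000b8003c00380005000e000100020000a00060001400220005000b8000000180013,
0x16000980040001e0007000d800540036000800008001c001e0000000200058001a000200058005000380014000200040002a0011000300064002c000a000a800280024001c000500030000e000700098005c0006001400078001c0000000f000000020000a000200008001000240005000c000300014001d00000006c001a00160006800440012000e000500004000a000000030006400160007000c00064003a0002,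
0x700040000c002a0017000e800540010001800070001800320009000c0005c00260019000680074002e001e000d800300030000b000c8003c0028000400098000800100010000c800140008001100060004c0030000e000d80068002000070003000100028001b0007800240020000d00078004c0016001a000e00030002c000d000a80038003a001400060004c00300009000b800280030000e00038004800340003,
0x1e000e800080012001800080002400360011000600030002c001a00050006c00200003000f00034001a000a000b80034000a000b00018006c00300011000f0005c000e000a0001000400000000000068005c0016000900018006000180010000c0005c001c0003000f0003800060018000c800240008000400090002c00340014000d00064002400070008000380036000300018002c0036000500020003c001e001d,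
0x11000d800140030000e000a000680018000200008003c00140010000080068002e000b000c80044001e001a00068001c001a000a000d8001c0010000f000e8004000320010000d0004c00320004000d800680028001400048003800000014000400030000c0009000f000200002001b000c800040032000e000c00000001e000e00008004c003a0008000d00078001e000c0009000000010001c000b00054001c0008,
0xd0009800400038000e000100018001e001400028000c003a000f00018003000200009000a000280014000c000d000740030000000078002c00300004000400028000e00110004000080010001d00020005800000019000c00018002c00000001000340038000e000480040001c0017000280070000a0013000680028002e001e000f0000000000001000180008001a0014000a0001400060008000f0004c003a0017,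
0xf000800038003400010008800600018000600008004c000a001e0009000480010000f00008003000100008000d000540012001e00080007400160007000b800640016001e000b0002000100018000b8005c00120004000f000380022001d0001800300012001b00008003c001c000d000c00010003a0013000a8005c001c0005000d000080002000100008003c003a0012000480048001a000e000c80018000e000c,
0x8000d0007400220003000700070003200020007000340006001d0005800680022001c000b8001000380003000d800500022000200048004400060006000d8004c002a000200038003400060014000400034001800170006800340018001500068002800320001000580050000e0002000400054001e0010000c8001c0016000a000c000380038001600010000c001c000a000d80034000a0001000f0005000100004,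
0x15000d0001800360018000500050002a001d000180054002a000c00040001400280016000f00018001e0000000300010000a001c00088006400160017000200018000200130002800100006001b000a80020002c000a000c800400016001800070005c00340012000a000640032000d000600030000c001300028003400020014000000020000e001800078002c00100001000b8004c001a001900028003400340006,
0xf0004000280038000d000a8002c00220015000b00064002a001b000e8004c0036001b00048002c0034000b000900030002200110004000440022000f000280034001c001d000e0005c002600060002800000006000600058000c00360005000300030000000190008800200030001700058000c0028001c00098004c00000007000d0006c0024000b000c8006000380002000d0000c0002001e000280024001a0005,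
0xd00018005c000a00030000000680024000c000c80078000200100008000700028001b000a800680032000c00000003c002e000f000c800140004000d000300024001a001c000f00038001c0008000b80068000c001000008004800260005000480078002e000f00010002c0016001d00000004c00140011000c0003000320015000d8003c000e000b00050004c0008000a000a80024000e000800020007000020009,
0x1b000a000280020001500060005c0026000f0005800480012001d000780070002e000e000c0002800160015000980020003c0012000c80040000e0009000f00000001e0011000400070001c001d000c80034001a0019000e80020001e00160006000780016000100068000400320011000580070001e000100018004c0016000f00008006c0006000b000700034000a0001000a000100004001300038006400120018,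
0x9000080070001c000b000400068003c0016000780018001e000b000580014003a0003000d0006c000a001000030000c00340015000f000100008000d000100058003a000b00040002c00280008000100078003a001a00058002c003a0013000d8006800380015000e00038002c0012000c000040002000e0000000040004000f000400018003c000f000a8002000040006000000078002c0018000700050003c0017,
0x15000780014000e000c000a800140000000500038002c001e00060003000240008000a000080058002a001e000b8004c0000001700068003c0018001000098002c0036000c000d000780000001b000a8004c00020011000b800700036000a00030005400020011000000058001a000500070003400040014000780008003a0007000400010003a0010000580000001e000d0007000000016001b00040002c001e0011,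
0x1d00030002000280017000c0006000280014000400058002a0017000300060000e000d0006000540014000f00058001c003c001a000c000280004001e0007000500036000d00018007400040005000b800700032001000050006c002a001b000980044001e000c000500010000400020005800500028000d000380010000a000500040000400040003000b80000002e001c00018004000020004000180070000c001d,
0x150002800500036000200028004c0012001d00038000c000c00070007000180004001b00008003800160016000e8001400100010000d800600024000900018005c003a001d000680078001200110004000780030001900078000c002e001d000d80018000e000f0002000140036001a000e8006c0030000800038003400040012000f000000014001100038000000100019000500000001c000a0009000180018000b,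
0xd0007000340036001300040002c0026000000070005c00040010000100028001a0011000980014002c001500060004400080016000c8005800220017000e000000026001600040005c002c0006000300024003c001600070005c0016001c000c0004c001e001d000a8002000180014000f00034002c001d000380010001e000c0005000140008001d00058005800300011000d80044001c000b00000003000020005,
0x12000200024003c000b000a8003c0006000500018004c003a00050000800400034000800018003000240019000600060000c0009000e800780016000c00048002c001a000c000c000080010001c000e00034001a000f000e800680000001d00050007400000001000b80020003200020006000300038000e0002800240036001a00088006000300011000e80034003c001a00020001c002c00000001800440028000c,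
0xf0003000280010000000008004c002a0010000f00060002c000900018001c000c000e00040005c0026000c00048006c003c001900088001800300007000000018003a000f00018002800220015000f0001800260009000b80040001e0011000d0001000340012000280070003c001100008003c002e0000000b0002c0028000f00070003c002a00190000000540036001800008001c0034000500068005800340014,
0x4000a0000400260015000680000002e001d000600014000a000c00068004800180009000980040001a001e00028002c002a001500020006000220009000000064001a000800078001c0012001d000380018000c001e000880024002a00110001800540030001e000900070002e0003000200028001600170002000780016001d0007800300016000c000f0004400340001000600010001a0015000e00028001a0019,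
0x19000d0004c003000080005800400022001c000200040002200140000000080012000c000780040001e000a000d80074002e001c0007800380032001c000500030001a0003000a80010002600100004800380018000f0008000080028000900038001c0030001400008004800320010000280010001c000900020004c00320011000d00078000400140007800400008000c000a8004c0014000b000c8000c0038001a,
0x100018002000340010000c0007800380016000e80028001600190000000040022000e000a00010001e0006000e00000003a000000000006000320010000a000140004000a00030007800180010000300034000c001200048005c000000150001800080030000b000b8007400120007000780060000800150006800480016001a0001800700030000f000f000240034001b000d000400000000900010002c000c0008,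
0x13000880048000e0004000880048000c0016000200030003c001d0001800380026001700060004c0012000800060002000280009000e000280024000200088006c00020018000080000000a001b0007800780030001e000a800580018000a0007000500012001400058006400380002000b80004002400060009000300014001b000e8004400300015000a000540004000d000d8001c002a0009000a8003c0026001e,
0x180004000580014001c00080004c0030001d0007000240014000700078000c001a000e00068001c000a0014000d8006c0022000a0007800340036000c000b80078002c001e000800010001c000c00008004c00200010000d800580028001b000b00044001400170008800080028000500058002c00140007000d000640020001b0006000340022000c00080004c00300002000e800480028001500038002c0022001e,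
0x13000c00048002e0008000b000200018001c00068001000380006000e8000400380014000a000540024001d000a00078003c0008000780038000c000300038003400120010000a80064001c00040002800680014000600068001000340005000a800400016001600078001000320016000c80008001a000100078002400280013000980064002e001a000580074001a0017000f00004003c001a000300018001a0012,
0x30008000500030001200088002400060000000a00010002e000f000900048000e000100058003c000c001c00018001c002e0002000e00054000a001800098006000380018000a0002800240012000d800280038001d000b0005c000600170006000140018001b000f00020002c0006000c0001400160002000e00064002400120004800600034000a000f0004400140006000700000001a00060007000180026000c,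
0x14000f0003c001e001c000880038001a000c0003800280030000f0006800640008000b000600054002c000400050006c0012001700010007400280018000500024003c000000038006c000a001400040002400360012000b00010003600000000000500006000b000c80014002c0017000d8001c002a001e000b80060003400000006000500036001e000000038001c0012000c00010002a001b00090001c0032000f,
0x1b00010002c00000001000a0001c000c0002000080030001800130009800380030001e0003800680014001d0007800540036001700038000c0012001d00040007800000001000d0007800160008000b80078001c001d000000070002c001b000e00070000c001c000000078000c001000030003400280019000580020002a0011000c000740012000500058006000040006000f0001c0028000800078003800000010,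
0x1b000a80048001e0008000680078002c001c000480028003c0014000280034001c001100060006c00300000000a000080022000300098001400180019000800000000a00030007800100002000900040002c000c0008000680010001c00150008800600024000c0008800580012000e000c0002400360001000300064003c0006000e00060003000190008800740038000100020003c00360000000a0006c000e001c,
0x17000400038003a0014000380028002a000b00098005c0010001e00038005000060000000f00000001c0005000b8007000160016000380048003a00050003800140000001a0002000100008000b0009800500020000900060006c003c000200068003800120001000c0001c0028000c000c80048000a0008000b00074001a000f0003000380022001a0000000380016001a0000000380012000b000780000002e000f,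
0xe000300030003c00160009800340034000900008000c00080012000d0005400260000000f0004800080006000c8002400260019000180034003c000f00070000800080013000f0005c0036000e000400044001400170007800440038000f000d8003400220011000d800740038001e000e00054000a000f000e80044000800080005000040006000900078007800260017000100014000600050008000640022000e,
0x10000d000240014001300000003000240005000e00028000a001d000e800140000000e000d80020002e000f000600020001c001e0001800640006001e00078006400000014000b8001c0030001b000280034001e00150003800080018000e000480074001a001e00068004000120019000780024001e0009000c80014003a000d00080003c00060004000100064000e0015000e000000006000e00090005c00020006,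
0x20002000140012000900050000000360017000c8006c00200008000d000000030000b00058002c0004001700058005400020001000500078003600170007000200030001a000c800640028001500090002c00180001000f000600016001800008005c001000180002800740000000f00028003c0006001e0001000640022000d00040004c00200016000d8003c002600100002800000016001100008007800220002,
0x1d000b800100008000c0004800280008000b00018003c00200014000e80058000a0014000c000580000001b0008800240006001d000380064000a000a00018000c003a000000088006000200011000b8005c000a0006000700070000c000b000b8000800100019000d800540026001e000b80038003c0018000d00028000c000b000d800380012000a000700018001200030002000240014000c000800060002c001d,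
0x18000880018000a0013000600000003c000900068003c00240008000c0006c001c0005000b0006000140001000680070002000070008000740038001800008005400140005000e00064002c0017000a00024002a0010000a00054002a000700030001c00160003000c000040036001300098002000060018000980054000c00140006000240024001d000180050001e000e00020007400080000000e8006c00060000,
0x1a000600024002c000b00038003c0024000b000780050000600050001800140020001b000700050002c000900018001c002c000b00020003c0014001e000280050000200020007000000002000900050006800180002000780044001a000100090001000380013000000000003a0003000a80068001c0018000d000000004001200010005c0030000d000880034002400100006800480000000c00010005800280004,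
0x13000a0001800100017000e80014001c000400048003000040009000b80004002a001d000b00064001e000100078005c000000000001800300012000d00098002c0014000e000d8002c00320013000580040000c00160005800400016000400018002000020008000d0001c0034000f000e8000800340017000280000002c00030003800200016000b000e8001c0034000e00070007400060017000c0003c002c000b,
0x30002000140036001b0007000680038000100048003c0028001c000f000740004000d000280018001e001b000580050001c000000040006c00260016000300028002c000e00060006800120006000e80034003400040007800180028000100018002800320007000500008002a000d000c8003000120001000a00018001a000400050004800340015000e8006800080011000380054001a000c0006000000012001a,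
0x3000180054000e00100007000180014000e000000060003c0010000900010002c000d00048006000140011000d80064000a0002000e80008002c0008000500030003a001900050002800100017000380038000c000b000a800440026000a000c80004001200120006000040026000a000680070002a000d000680050001c000a00020001800020004000b00030001c001200038006800000002000e80078000a0004,
0x140005000100010000e000600054002a000b00080002c0008001c00098005400280016000a800500032000b00058003800320016000080008002800060004800600024001d0009800440016000600040004000380017000c800640036000f0008800300008000700040004c001a0011000580004003a000f00038003c002a001700038003c0004000400060001c003a0018000580010000e001400008006800080012,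
0x1800018004400300001000500024003c00000007800180034001e0004000180002001e00060005400080009000180028002c000a000280054001e001400078007000180011000900020002000160002000180004000c000b8004c002c000100090006c00280000000d80060002800180001800400018001300080004c00100006000800024003a00130008000340028001d000e000680012001300018004000260015,
0xf00030006000020015000400060003c001e00078006c00160010000900010002a000d0004800600012001b000e0003c001e0016000600058002c000d00050007400120001000180028002c001a0000000180024000f000a00058000e0018000a800680036000900098002400180008000c80074001400120006800400022001b00008005c00100008000480044003a001d00030005000300012000c80014002c0000,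
0x18000f0002c0024000f00060002400000000000680044003a001800010000c00380012000c80030002a001d000100068003a0005000f0002400220001000300058003a001d000800058001c001d000280044003a000e00098002400060013000900000001a001e000e800300022000f000e800780028001200068000c000c001e0001800380018000e00050000800060002000f00008003c001800058003c002a000d,
0x1600018006c0022001100088000c001a0006000e000440008001e000080040003a000b000c000640000000900018006c00040018000a0004800020008000880068001c0008000b000480030001b000100004003a000f000d8004000120018000480040000e001d000500050000a0019000a000240012000900010001c00080017000280070003c0003000500024001400060002000240008001900090000c0026001b0002800780010001d000800034003c0007000780040000c0006000b0000c001c001100070000c002e0002000d000240020001700068001c000a000d00020006800080010000080070003c000c000780020003400030000800400032000800070003c00080015000480048003000070002800540032000c,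
0x100002800600030000000028000c00320007000a8006400140016000980068002a0003000700038003a000b000a0004c0010001300000001c0014000300018007000080005000080010002e001d000f0006000140001000e8005c001c0004000e0003000120000000d00010002e0019000500024001e001000030002000260008000e8006c002e001b0000800140038000a000d0004c003a000d000e000600018001a0005800080034000e000b80034003a000500040004800260012000b00040002a0013000e80044002e001d00038004400140003000f000740012000d000a0000c000c0019000b8006400340001000b8006c0036000f000d000680012000e00078004c0006001b0007000740030001c0006000480012000f,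
0x1a0003800180006000500010000c000c000400028003c00100014000e00034002e001e00010003c00280013000d8003800260013000a00030000a001c00010004c001a000a000e800280026001c00038006400020015000a000100026000a00000003800180009000b8006c0010000e00060002c0026001d000a800300030000d00050000c002e000d000c80038003a0016000600050002c000800068006c00260009000480018000e001d0007800640038000700028000800380013000e8001c001a000600098000c00140005000e0004800160003000b0004c000c000d0009000380006000d000a0007400340012000380070002c001c000300028001c0018000e00058001e001c000080038002c0015000b0001000200016,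
0x8000c0002000040011000f00040002a000000030005c002e0007000b00060002600010005000340002000f000b8000c0028000d000500058003a00070003800480002000d0000000700012000100010004400060010000e8003c00380003000a800240032001000030001c002a0008000800050000e00190006800200032001100070002c0026001200088003400240017000e00050002400100006800780020001e00098007400120007000780050000000110003800340010001d0002800280038000b000a0004000340011000b0001000220003000e00030002e0010000c800140022001e00050001800000017000d000200000000800000004000340003000500014002200140005800680038000c000b800580014000c,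
0xd000b8002c002e0000000d800500026000900028003000200003000c00048003a001a0001800580002000a000d00054000e000e00030000c000e0008000900008001a0012000d800340036001600020000c0026000100090005400360018000a80074003a0018000080034000c0006000b000000020000800090003000260012000a80008001a0014000a8001800060011000e00000000e0002000800064001200110001800200030000b000d8004c00240013000380044000a0001000e0000000280004000000074002a0013000b80040001a0019000a8003c00320013000a00010002a0005000f0004c0026001700078004c000e0001000a0007000280007000d00064001a001000090002c001e001500078007800140013,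
0x1a000200000002200160003800240036001d0002800380016000a000d8002000380016000d0003c0000000f00000006c00040008000400048001a000e000d800240032000e00018007800100016000500070000e000a00008006800220006000f00038003c0003000980010000a001900010005000340001000700020001a0003000a000640032001400058000c000e000b000d00040000200030006800280022000700090006400360007000780008000a001000020003800140013000180030002e001b0009000300036001500058004800080018000000034000a0013000d8003c001200110009800280028001600090003800160004000980004000200070008000680018000b000100048002c001d00048006800080010,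
0x1a00068004c0006000600098002c003800020008000640016000500010004400300012000980004002e000700088000c002400120007800080032000400048001800300017000600074001e001500010004c0038000a000f0002400220000000580038000a001900060005c00200011000d000400036001e000c000480026001c00038000800160007000d8003c000c001b000080014000200190006000700018000a00018000400120012000500048000c0017000200000001c001d00018000c003600000003000200018000300098003c00140010000780050000c0007000b80068000e0005000e0004c00320000000000048002e0009000e00044002a001600000006c00340018000f00034002e001000090002400100012,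
0xe0003000440000001a000180028003c0015000900004003a0013000800044001a001a0008800300028000b000480078001a001600018003c000a000f00000002400280009000a000400028001b000f0005c001a0014000400020001a0012000b8002c00320017000b00060001c0016000d8002c0012001700080007400040003000980050003a00050005800380032001a000400070000a001200038007400080008000c80058001e000d000380054002e0004000600014003800070005800700020000f000880030000a0005000c0004c0004001400068001c00140018000d0004c001a00000009000300026000500070005c002200180008000540032000300060002400160013000980050000e0009000800058002c0014,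
0x1400098005c0024001100090001c00320013000b0006c002e000a000b8005c00160001000800030000a001e000b0004c00000010000a800140022001b0004000240020001c000a00008000c0019000f000040028001b000c000500026001e00048007000180002000680038001200070003000080010001c000c8000400340008000100010000c000e000780058003a0014000b8001800000001000180008001e000d000a0000800340002000c800700002000f00028004c002c000d000a8001c002a000e0007800140006001d000d80020000a000200050000400060014000e8005000320012000900034003200030003800600032000100080001000280016000200058003a000800000007400320011000a80030001c000e,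
0x200060006800320002000100074001e00030005000400004001c000200030001e0003000080018002a00000000000280022001d0001000000032000f0003800740010000d0003800780012001200080002c0008001b000a0001c0024000c00058007800020008000d0005c0012000b00078005c0004001b000a80060002600070007800340034001800008001000220004000a8002800300007000e80004002a0009000c000640020000200048001800080001000080074000c0007000580070002400170000000480028000100000005c000a001c000580010000e000800010004800100001000480030002a000b0006800100010001d000d80054000e0002000d8004c00300011000e00028003c0008000a00050000e0009,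
0xa000480004002a0011000b00050003c000e000380018001a0006000100060002c0019000c000700008000a000580068003c0006000e800400032000e000f000080028000d000d80008002a000b000a800140002000e00040004c000400010000800180038000b000d80050001c001700090004c003c0019000400050001c0004000080008001a0007000e8000c001c000f0000800200018000b0008000440022001100028003c000c0009000280048000e0011000880074003c000900008002c002600060001800740012001b000000018000a000a00090006800140011000800018002c001c000000040002e0007000a80074000e0004000c800200024000f000b0003c0008001000030006c00140010000b00004002a0003,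
0x1a00078006c00020010000c8007800160015000580008000200010005800000038000e000780034003200090004000480008001a000a8006c0036001b000a00070003c0001000f000000032000e00018003000200011000c000000002000900088006c002c000c000b80034003c000200000007000300000000900024000e001100000000c00120019000d800240020000e000b000000002000b00050005c0014000f000d00000000a0001000f0006000280019000700070002e000f000180038000200110007000600032000500058002c00260018000c800440012000f000e800340002001400060006000260006000c800700024001400038006c0030001a0004000040002001c000580048000a000800058007800360014,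
0x1400010001c003400080000800440018000e0001000040002001800060000400340004000000020001800010007800000036001a000d80078001e000500078004c0038000800090001c0038001c000a00074001800160004800500030001c0004000340010000c00020000c000e000c000380068001200010007000740000001a000c0001c001800040003000640030000d000b000640018001a000580078001c0011000480070002a000d000a800480020000600080006000000012000d80070003000190002800640010001d00078006c001e0019000980008001a00060006000780020000c00028005800300003000a8006800140001000b8001c00040015000f000080024000d00028006c000a0005000f00024003c0002,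
0x200010006c00080012000000010003800190006800040022000300060001000260016000d0003c0032000600010006800160009000180028001c0002000080000002c000c00058007800320015000880058003200170003000340014001400080001000180018000d00048001c001400010001c00260013000e0005c001e000600030000c00340007000e80004000c0014000980000002c001400078005c003a00140003800380036001b000680004001e0012000f000200008001c000500048001e000400000001c0020000900098004c002a00020009800580006001300090002400120009000500064003c001a000c800380030000500088005400040013000d0005400020014000c00004000a001e000d80074001c0019,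
0x90006000540036001500070001c001e000200070004c0004001d00018000c0036001a0003800140036001d0007800080008001a000080070000c0011000c000700012000100040000c00200001000d00028000a000e000b800400004001c00040001400200002000180034000a0013000a000300012001c0003000140024000f000d00074002c000b0001000080000001e00090001c0014000a000b0002c0002000100090001c003200060000000600008000a000380054003c000300080006c0002000800050002800320001000680038001a00120005000780034001b000e8006c001c0001000e00008002e000b000e00034001c001c00040003800180003000d8004c0012000000010003c000e001100070007000240009,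
0x8000f00064002a000c000e000440030000c00060004800200009000e8002400300017000d000680036000d000200078001c0011000f00068000e000b000280000002c00020000000300018000100018006c00180007000380048001e001d000c800000008000900068004000100014000780064003c0017000180018000a000c00088006c000c000d00040005c000c0016000b800180030001e00040005c00360013000f0000400300018000a800480020000e000c8001800160011000400078002e00190004800500022000b000d8005000240013000180000001e0003000e8002c002e00160005800540012001b00088000400140000000e000280026000c000b000000022001300048005800040014000b80018003a0006,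
0x15000c0004800240017000880038002a001c000b8001c00380019000080050000c0001000600044000a0019000a00018000a000c0007800200006000200008007000300008000500004001a000300028006c0010001b00058003c002e000900080001c001200040005000480014000e0009800780004001e000f000340034000200098004c0024001c00058005c00280007000980074000a001a000780000002a00000005800100028001e0001800780020001700080006c0018000f000b80074002c001d000480008002800000002800240008001d000c000340004000a000100018003a000e00068000c0010000900078004800160003000d8001c00160006000b00014001e000400080005400340015000200048000e0009,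
0x1a000f00074001e001d000e800700000001e000100060000c00050001000000008001c000c0006800000011000f000480004000c00058006400120012000a000340020000c00080006c000e000c000100010001c00060006800040028001700050001000300003000c800580010000c00090002400320006000a0005c00180015000080058000c000e000980004002400120001800340014001a000380024002400100008800100000000800078002c0030001400050000c0032000e000b8001c002c00140002800440022000f000e800080012001600068003800100003000b0004c002600000002000180014001200078003c00140001000c00020000200030002800500000001e00030004c00100001000880014002c0002,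
0x4000c0000c0018000e0007800080010001700098002c0024001b000c80054000c0009000900030002c0008000800064000400190006000100034001e000a8004400060014000c8003c002e0017000700054003800100005000500000001e0003000500004001100040003c003a000e000800038003c0001000e800440010001100000007000040004000d8005c00080007000a000580036000f000e000540010000600048004c001e0008000800020000c000d00048002c0038000e000d80064002a000200090000000020017000c00004000e00050000000000026000a000b000740014000c0009000740018001a000880010000e000500010004800020007000e000000002000500000002800180008000e80078001a001b,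
0x1c000c8006000240019000900000002c000f0003800780002000a000180030001c0006000380070001800050004800780014001c00018007800040011000d0006c0032001800080000000300014000c00028002a0015000880050000c001c0008800080022001a000e800440000001100050007400220006000c0003c0026000c000400000001c0003000b00050002c000e0006800200014000700008002800340002000e8005800080018000a0004c001a0015000d80018000c0010000b0004c00240001000c0001000220017000d800300020001e000e8002800300007000e8000000240014000c80028003c0012000a000480022000b000200038002e0001000700010003c0002000b80068002a001c00010002800380016,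
0x11000e800600032000c000b8005000000019000800000003c000700008003c00060019000d000280002000f000e80074003c0011000d8002000040013000d8003c003a000e000780078000c00050001000780012000000098003c001400150007000540010000a000e00040003a001a000f000700002001b00058000c001200090009000380028001d000780034000e0015000900004000c0007000c8000c0022000700028004c001600080006000040012000f00028001c002a00190005000780004001e00070002800320007000e000480022000d00088004c00100018000600060000a001000088003400340016000d8001000360005000f0002800060008000d000080014000000048003c0030000f000500048003c0012,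
0x80009800500012001e000a00068000e0000000280048001c00090007800100034001400008006c0000000900010003400360014000e8004000020005000e8003800020005000c00004002e001e00020004c001a0002000800050002e001c000780034000c0001000200020000a000600028001c001c000700080004c002a0017000900028000e00100004000540010000700010002c0010000b000c800080038000a000300030000a0009000d80074003a001e000b800140034000d00000004400180002000d80074002a001a00000003000320015000d00044003a0010000b800540002001b000380018001e0011000e0002000320014000b00044000e0012000d00024000a000300058006c00220001000f0005c000c0016,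
0xf00028005c0000000200070000800180007000a8007800080018000b0002400080008000580064002e00170003000340022000e000e80074001e000900040001800280003000a0001800280015000a00024002c0012000e000680000000800000000c000a000900050006000040001000a8005c003600170000000780036000f000700060003a000800020000c002a000200040003400280007000600064000c000600018000c000800010002000700032000500048000c000a001800090001c0000001b000d8006c003c000f00020003c0018001200060004c002e0006000f000500030000b000a000100036000d000b80040003c000e0004000340004001600048006c001200060002000200014000c00020007800340007,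
0x1500070005c001e000e0000800400002001d000b800780000000b00008002c00020018000a00054003c000900010005c0022000500030002000080012000d80048001c000b000100034001200010004000340000000c000980018000600020000800580024001d000c8004c002c0006000900028000e000800090002400360006000980064003200050003000500020000e000900074000e000200070000000000003000a0006c0024000f00088006c0028001200090006000180014000c00070002e000f00078003c002000010006800780020001c000c0001c002a0005000980064003a000c000b800040018000500060001800280009000880078000c001c0000000480000000a00030004400080015000400008003a0017,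
0x1c000100034001e001b000200070003a000a00028003c0004001a0003800540016001100068007800140013000100078003800050001800100000000200070004c0024001b00040003c000c000300068002400000015000e000180008001a000d800080024000b0005800580018000f00068003c0014001300040000c0020001c000c0003c0012000a000c00000003a000b000880040002c00160002800380034001b0004000640016001b00028007000220018000500024002c001a000e00058000400090009800240012000c000780004001e0016000f00018003a001d000c8007000260012000680044000e000700010004800020016000d00000001e000f00098005c00320009000480060003c0013000c00008002e0005,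
0x19000b00008000c0011000a80020000a0002000800060001600070003000280026000800088002400380019000980014001a0003000e000100028000c0004000680002000b000e0004c003800160000000680022001100018004c000c000700008006c0000001e000c8002c0008001a000000054003a0010000e800180034000600050004c00280016000680074001400040002000140018000700010006c001a000d0006000580038000700020001c003c000c00090005800260011000480060001a0018000e8000c000c0000000b0000c00080002000980020003a0008000180010001e0015000580068002c000a000a0005000380009000080030001c00160001000680004000d0002800180008001c0000800440012000e,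
0xb000e800500016000c00048007400080014000a8001000080018000f0000c0024001e000d8007000180016000200040001e0007000680018000a000a0004800700012001c000800070001200080002800240014001a000a8002400180002000200070001800120009800700002000800028001c0032001d000c8002400160014000980004000c000f000e00014000600060002000700012001500010004800360013000e0006c00360010000c000540022001a000f0006800220009000f0003400120014000880008000e00130003800540012000b000e0001c003400090000800640034001500028005c00000008000d8001c00120009000e0001400060019000e80028001c000f000a800600020001400088004c00340000,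
0xb0002000380016000800090007800300003000400014001c000b000a0000c00360014000880024001c0012000e8002400100002000d80074001e000e000d8000400080003000c8001c00160013000a0004000080005000c00074003c0012000a00058003600120005000240004001b0008000180030000e00098007000200005000980064001a001000070004000040008000280008003a000d000e0000c003c001a000e000240018001a000d0003400300000000300048000a0010000480004000c0019000a8000c001c0014000500038001a00100005000600004001b000c00010002800010002800240016000d00088001c00300015000280028002c0018000b80010002a00140009000140006000c000e8003000080015,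
0x8000280078001e0007000a80014002e000700020002c0008000f000a0000c002c000f00060001c0026000600030004c003c000c00090006400000001000a8007000100009000d800440012001700030004c0020000e000780000000c0017000d8005c002e000d000400004001800090006800240036000a00038005c0014000b000f000600026000c000b8003c0036000b00028002c00060019000e8005c0000000900060004000340019000d000100032000900008005800120003000680060002a0019000980008003c001400078001000260004000b0001c000000140001800040034001800088000400060006000d800280012000200068001c001200190003000100000000900068004c0036001800090006800140006,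
0x19000c80000003a000e00058005400020017000980060001a001800028002400360011000b0003000340011000d8006c00180015000680058000a00070001000300002001c00008004000360012000900034000c001e00058002c0026001e0009000280014000f000680044000e000a000f000540036000700080005c0030000a00058001c0012000b000c8003c00000004000600038003c001a0003000640002001200038005400140014000d0007000080012000a800000018000e00090002c002a0003000280030002e0000000d0002c002e001e000480070001e000900008001c001a001700020004c0022001e000d800300018000c000b800340038000200070004400380018000a000700012000f00020006c003c0018,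
0x600018004800360011000e8006c002c000a000300034001a0011000e800000030000f0006000300006001c000880054000a00130004800140022000b00088003c00320000000c0003c000a000100000003c0006000f000300004000e001d000a8005800300019000e8000000100011000b8003000320017000c80018001a0011000180038000a00190008000000008000c000980040000a000e000800048000e000a00040006c001c0004000f0002c003c0002000200068001e000700078004c00180013000780060000e0018000400020001e000c000b80068003a0014000b0004c000c0005000a0005800160006000e0005400340003000e00030001e00120003800340000000800070001c000a0000000f0003c00000014,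
0x3000f0007400160016000300048002200160000800400000000600020004800060015000b000780030001d000e800480024001d00070006c00240011000800030000200010002800000038001900038004c00300002000a8006400240013000680020003c00080003000300002001100000007000320010000700008000e0012000c80024001e001300068000c00120017000d80060002a0009000400018001a001a00060006c0014000700090006c000000120006000400036001c0004800440024001a000e800380020000200060007400040018000300064000a000f00060007000220014000e00010003c0003000580058001a000d00070007400060017000380020000000060003000000020001d000a80004001a0008,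
0x1000080005c00040018000680044002800050000800480008000c00058003c003a001400050001c0014001d00028007800260009000f00034002400050004800480012001b000e8001c002a0017000d00048000c000500090005c0036000f000a8005800360017000a800500028000c00070004c00080007000d0004c00360019000a00034002a000f00028001800060002000d000000004001400010002c0028000d000e00074002c0010000d00024000c0001000b800740028001a000c0004c00020007000f0005c00060013000780038003a0009000d80008000e0017000b8000c0030001b00088003c00000010000a8000800260015000a800100034000500018000400180017000500068001a001500038006800060002,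
0x70005000040022001c0006800780010001e000a80060001c000e000e000180028001b00038001c003a001800050006c002200190003800280016000a000a0005000220002000f000780032000d000d80068002e000f000e0006c001e001d000c80038001a000000040000c0018001600020001c00260006000b0004400140002000080004000c000a000e000500026001d00038005400200016000c0007400160018000b0005000000019000e8001c0004001b000d0002000320011000a00070000600100000000180006001e0003000200010000900058000c0012001e000900024000e001200030006000060003000c0003c002a000d00070006c00100008000c80058000c001800030001400300000000300078002c001b,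
0x100002000380022000e00050002800200005000c0004800020016000300010000e001b0003000300030001a0003800580024000800058001c00120016000e8001800200010000780058000a000b000000008001e00050004800540022001500038007000260019000b0001c0010001e000a000680002000d00060003c0032001b000c0001800020005000980060001600190008000180034001800060000000080006000b00000003c001a000880008000800010001800140004001c00028000c0032000900010006400120012000b0001c0022001800010003000080012000c0004c002a00150004000780036000f00008000c00060016000580000000a000a000400010003c000500038005800020011000e8007000260011,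
0x170005000480006000c000f0006c0010000a00038002c0020001e000e80054000a0001000a00014000c001c000e8000c000800010008000740032000e000f00024002e001e00048003800140010000b800740012001e000d00050001a001e000600070001a0019000c8005c000e001200060004400140014000000068000a001a00088001c003000060003000280006000900058005800040019000980078000e001e000e0003c001a0009000d00044002200170001800600012000700028004c0006000d0008000280032001d000c800500012001400068005c00000003000a00018000e000c000c80030000200050009800300024001b000d0007400280010000f000480016000c000e00014001200140002800300000000f,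
0x11000300038002e000a000000000000800120007800040008000a000800034002a0000000c8005800120001000a000500000001a0005000640026001800090002000240007000f000500038000a000c0004400340018000a00030002800150002800580026001600090003c001c0012000c0001c000e001d000400000002e000d000400038000c000a0008800200032000d000e000300020000a000b000780010000d000b000340012000b000d800000002000200070000800200015000780018002a000a0004800000012000700058002c00320003000a000440016001a000b8005c000600170004800200026000a000700010002e001c00000006c001a000a0003000300036000000098004c000e0002000f0003400140010,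
0x12000f00034002c001e0009800640028000e000080040003400160001800000010000f000d8001c00100011000300060003a001d000e00070000a000100050004c001e0015000900060001a001e0006000300012000a000c000740036000900000004c0012000b000b00070002e0013000d0001c00120009000c8005800200014000d0003c0028000000048005c0028001a0004800000006000d00060000c000c001100090000c0010001e0008000680014001900008005800300011000400004002a0003000e80008003c000200060003800220006000780064001800110001000380004001a00078007800260016000000048003400190009800400006000a0006000640000000b00078001c00020014000b8001800060004,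
0x14000a0006000100014000800024003a001c000580058000e0005000480058000a001500038000c0006000500008000c0014000400068000c00360006000c000500026001d000b80014002e000f0002800080010001400018001c00040003000200004000e001b000d8001400320016000980060003a000b00048003c003600120008800700024001c0003800340010001a000080008002e000c000080044000e001300090003800260004000080030002c000f000e00024001e001600088004c00140001000600058002c000a000600078003000140003800140034001e000f00028001a00100000800340010000b00020000c003c0007000880020000a0018000d8001c00240000000b0003c00340001000e0001400180001,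
0x6000f0004400340003000000024003c001a0000000700002001a0007000100004001900010005c00380008000b80028001400190007800200030001e000e00028001c0019000500000001a000500070006400220017000c80030001a0000000680014002e000200040006800060010000e800000002000800098002c00140012000e0003c00060011000500068000e001b000e8000c00160013000380000002a000c000f0002c0024000b000880018000e0008000600000000400070009000140034000900088004c002600010003800280018000300080007000300014000d8002c000c0003000e800600032001b0005000700028000e000380078000200140004000240020001300068007800060000000e8000000300018,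
0x1b00090005400160010000800008002200160000000440014001b000580004000e00090003000780000000f000f0000c00180001000200024001a001c000c8005c0020000a0005000680032000d0002800280004001a000380054000a0008000b0000800240009000900004000a001b000200034002a001c00010006800320006000c80018001c00010007000180020000d000680024001e0000000a0003c0004000f00018001c0038001500068003c001a000f000d0005800360014000c8001800040014000d800780030001700090001c00200007000100068002c001500030005c0030000c00020006c00160009000c800180020000e000b0003c00000015000e0004c002e0002000180020003a001b000c8002400020019,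
0x1600080003800340009000780048003800050001000780026000100028001c002e000d000300044003a0009000780044001c000f000000040001e0004000c0004c001c001e0007800340008001100008005400140014000e80020001600160006000600012001e000d80004000a0018000c0000c0006001d0006000740034001d00048006c003c00010001000680024001b0007800180036000e00020004c003c0001000880014001000160009800080016001300028004c002c001800090004c0004000d000e0005c0036001a000c8001c0036001b000400060001e00090005000000024000b00060006c001000190003800400002000d00000004800380003000b80078003a000600050000c00140005000080040001a000b,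
0x1b000d80048002e000500020000c00200000000c00018002a000d000c00054000e000100068004800340005000600060000c0000000b000040022000100000003800160001000580050003600110001000440004000c00060000c001e000600090001000340016000e0000c002e0012000c0003c000c0015000700004003c00190003000500000001c00008006c0036000400018006c0020001b0004000340004001b000b00048003c000a00080005c0028001600098002800080013000500024002e001b000480060003a00000001800000026000a000a00054000a000d000500004001e0003000c8004c00180018000c80004000a0015000300020000c001e000900040000a000e000400038003c000f00058006400180007,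
0x300088002c0012000700018006800020019000180078001a001d00060004800020018000c8000c0032000c000e8000800200018000b00040000a0019000c80020001c001c000b00074003c00060009800300032001a000080050003c0005000000010002e0000000a800400036000600068005c002a000b00078001c00000017000000044002a0008000a00048003a0017000a000680008000a000d80068002a0018000f00064000c0019000b000700030001b00018001c002e001e0008000340030000b0009000140038001e0001000500004001500018005c00340014000b8000800300002000e800180004001d00088000c00340019000d0005c00340008000b0000400380015000800054000c001c00060000c00200009,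
0x14000480060001a000d000e0005400300014000c800140006001a000c800680006000300098004400360013000a80064000e000b00020005c00320015000a0004c001c0012000700054003c0015000a8003c00100013000400038002c000300098002c00300016000880024002e00180001800580014000a0002000340018000a00038002800040010000b800200028001600040001c00320000000d80000000000160007000240026001e00070002400260012000d0000800180000000900050002c0012000680070001200170006000040030001b000680024003c00140006800640018000000058003c003400170005000000024000e0004800440010000b0009000740018000b000f000400020000a00080005c0036001e,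
0x15000180018001e000300090001c00200016000b8004800380019000000038000a0003000d8000800000015000e0005c001a0000000d8004c00380017000200030003c0016000780018000e00110000000700032000c0002000240030001c00038005400240008000f000500008000d000480028000a001000098002c0014001a0006000680008001700038005c001a00070007000780012000d0008800200038000200030004800240014000e000340022001300010000400260009000c8004400020006000f0001c000e0012000d000400038001600000004000380009000100004002c0019000a800140000001e000d80060003600120002000280000000c00008000c00180010000980018001c0016000a800440012000e,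
0x1a000e8002c000a00030006000480004000f0006800700004000c0003000140002000900098000000120006000e8001c0004000b00000000c0018000f000280018000c0011000b8006c000e000c00068003000140008000e80020001a0019000700010000c0013000800008002c0008000380040002e0016000700068003c000b00018000800200012000b8001c0034001a000080060001c0018000c00068000e0004000a0001800280013000b0000800140004000d800040006000d000c800180006001e000a0005000180018000b8005c000a000b0006000140026001b000a00010001600050000800700028001c00090005c00020003000a8004c0000000100038000c00080002000b800440018000b000b8002c00340008,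
0xd000c000080016001b000c0004c00100006000400040000e000800030006400380015000e80020003a00070002000240018001200008006c0010001d0009800540020001e00070000c000a001d000480040000a000e00088006c003c0017000a8003400180005000b00038001a0013000800050002600030006800500000000a000c0007400280009000180030003800040008800480022000200050003c0004001a000700068000a001e000a8000c002e001100070006c0024000900010007800040013000d8006c00020007000500030002a000b000580064000c0016000500030000200180000000640030001c0002000300028000e00000005c002e001600060006400040010000180070000a000f000280064000c000b,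
0x200008005800380003000c00034003c00100001000300006000d000c8002800300016000a0001c0036000e000000034001c000c000b800480028001200070006c00040015000800030002a00160002800500020001b000380074002800180000000300020000600098005c00120017000200048002e001e00038001c0028001c000500068003c0006000f0004c0030001a000700040002400120009000340028001200028001000160009000e00048001e000c0009000200030001d000400030003c001b000c0000c002200070004000700018001e000a000580026000300070004c00320000000100048000a0010000c800500016000c000b0005000060012000b80010002000190007000080004000a000f0000c001a0009,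
0x1600030005c001a001000088004400020016000800078001a001600008002800120011000b000740030001c00060003800160010000f0006c002e000600088002c0026000b0003000180032001400070004c0004001500008000c0038001200040006800340013000e000780026001a00020000c0032001a000f0001c0006001900048005400280018000f0004c00040003000f0005000120018000d800200038000f000c8003c0012001000078002800260001000c8006c000e001a00048002800000012000e00040002a001d000200010002c001000008006c0034000f000b0001c0034001d000700018002a0001000e0006800280017000400048001800110004000580036000f00060002c0032001a000b8004800300017,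
0xd0002800040022000000020004000280006000b000300006000c0004800540006001a000b0004800240013000a80000003c0005000d00044002c001700040007800220009000c0001c0038000c000c80050002a0001000600030003c001e00020000000080019000480074001e001e000b80020001a000e000a8006c00240004000080000000c0000000a0007800060000000e80034001a0019000400034001e000600060005400320014000480044002a0016000b0001c003a001700000001800000012000c00050001a0016000b00028000a0010000800068003a000a00070001c00060002000000018002e000800028002c0012001100018006c0026000d00048004c0018000b00070000c003a001c00018006000200001,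
0x140001000480010001000088002000020018000c8000400100002000e00024003c001b000d0004c0030000d000000030003600190002800400036000b00090001c00000008000080004001c000f000c00024001a000800028003800060014000b80004001e001e000d8000c001e001c0000000680034001a000700064002e001e000580078002a000b000980058003a001a000280024000a0018000c0000400120011000300004000a001900060001c000a0016000b0003800200007000400024002c001a000e0006c002c000100050007000040015000a8003c002c001500090003c00280007000880004001a000c00048003800260002000a8007000220019000080040000a001d00010003c00000000000b0004c001a000c,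
0x19000b0001c002a001c00050000c00300011000100020002a001b000f000400032000100000000c000c0007000d00004003a00060003000280038000f00018003c003a0013000180030001e000e000d80034003c001000060001c0024001a000f00010001c000d000900044001a0010000e000100024000a000c8004400120002000d0001400060002000a80030002a00080009000300018000f00018003c002c001200098000c002c000d000e000200000001c000600038001e001c000600038000a0016000380050001200050007000380030000f00048003c002e0007000c00050002a00130004000240008001600010004800020014000e0004c00220012000e0001c0038001a000280068001a000a000e00078000a0014,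
0xe00090004800220005000280008001c0005000100038003600140002000740024000400058000800220010000e000740030001300010005400300017000e00028001c001c0009800180030000e000500018001c001a000080004002c000600020002c002e00190006800100004001d00018004800060000000f0004000260011000200030003c0004000e8000800340006000d0005000140004000e800600034001100080007000100016000080058000e001e000a00024003000160003800400028000d000680008002200080002000480008000f00018000800200000000980060001e000a00048000800280014000c8002c00360000000e8002c0000000e000100014002e000e000c800040030000c000c000680030001d,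
0xd00080001c00300004000b00040001e001900020000000200006000d800140010001000018003c003c001a000380000001c0019000580038003800110002000380038000e000580050001e000a0004800640024000d000d80024003c0019000b80048002e0006000e000180030001a000a0003c002a0010000b0006400320017000480070002e0017000500028002600000007800440020000f000180044003c000d000a80028002000140000800540024000700010006c0002001b0002800240034000f000d00028001e000c000680060003000090005800700028000e0005000640008000800058002800320012000e8001000140018000880078002a0013000880030001e000b0009800580028001c000c8001800300014,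
0xa000a8002c00360008000280018002a000f000d0006400380000000080000000c000200020006400260018000100018000a001900038004800300015000d8000000200016000a000140016000a000e800040008001900040000c00320015000d8002c00220005000d00070002800020002800180016000b00090000c001a0005000080074002a000200090001400200003000980024000200110005000400012000f000c8005400260006000800018001c000500060004800180003000e00018003a000b0006000340038000800048002800260001000000014002c0006000400040000c001c000600030001c000a000e00020000a0015000a80048003c00130001800180018001d000b0000c0020001c000d80058000e000b]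

/-- packed matrix of `R 95` -/
def lit95 : ℕ := Cfsg.Agent.Lib.PackMatGroup.asm 2261 [
0x1d000b80054003600080001000640008001e000080068002c0011000b800640016000000030002000300006000b80020002a000e00018002000260000000c00004003c001800008004c002c0007000500014001e000900010002c000e001c00040005400200002000680068003c000d00020003c000e000000058000000320009000e0003c00180019000d00040000e0001000400054000a00010003000640012001b00060001800120007000d000100032000e000b80058003c0014000f0000c0036000a000a000500014000c000a80054000e0017000a000040022000800070002000100003000c0003000040011000a00024000e00160003000240038001a0004000380026001400058001c002a000a000b8001400080010,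
0xb0005800480020000a00010006800140012000680014002e000400008002c00380018000700034001e0009000d8004c0014001c000c0002c00100003000100040000a0016000100074002c0002000d8002000280007000e00038000c0000000f00070002c000d0006800280002000a000000030001a0015000480074003a000100080004800140013000280034000c001b0009000540004001e000e000400018000b000880028000a000400080007000280015000d8001000300010000a00014001e001a000c800100012000e000b8003c003400130000000680006000e0006800180012000e0009000640020000a00008002c003600170004800140014001b00050001c00180003000f000140038001d00040005000280015,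
0x90000800740014001100070002400340002000580064003600170005000600002000f000a0001c000c000500010000c0026000d000a8003c0036001b000780074003a000000028006000020009000a8001c00180016000d80054000c001d000800068000c000300058004400240008000180010001c00030001000280000001500060006800120014000b800380014001d000d8002c002c000400038005000160014000900044001e0003000380040003200150004000640020001b000200054002c0000000e80070000e0011000c0005c0018001900000003c0006000a000e00034001a0009000780024001800110005000140008001a000d8002800020006000a0003000160019000c8004c002e001d000a8004c000c001d,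
0x1d00070005800340011000f00014002c001600030006c002800020008800100002000900068004800020012000d80040002e00110006000740004001000080003c000400170004800140014001100060003c0012001a000f00044002c0016000300064001e001e000d000600004001e000200064002200170005000140020000b000280014001c00020009800700016001b000e800000030000d00070000400380008000a00054001a000b0001800500034000a0003800500014001d000e00010000e0007000400010000e000200020005400180017000a8001c0010001900060001c0008000b000a00034003c001e0002000180000000600048001c000e000c0002800340022000d000e8007000220007000180020003c0008,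
0x10004c000a0014000400008000c0000000100054000a0006000900008003000090005000700020001b0003000280004000b000400068001e000b0004000500002000d00050001c002200110000800640016000a0000000500026000e000980000002e0006000a8004c0018000f00080002800140012000280064001e0013000800078001e000e000580050002e000600028002400280002000d000700012000700058002800260013000680024000c000a0003800080016001b000f0004800340017000a8001c003c000d000000004001a00010008000640030001100070003800240019000180064003a001500030003c00060003000e8005c003400070006000480002000d000d80014002e0009000b80064000c0013,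
0x4000180058001c0008000d800440024001a000300018002e000c000c00058001a001d000a8000c002e0018000580078001c0009000c80050002a0000000680010003a000e000b8002c00120001000a800280024000700020000c001e000a000280078000a0012000e00074002e000b000d80058001a0010000280018001c00110008000540012000f000a800240034001b000f0000800020009000b8007400340016000900030000a001a00088003c001a001b0007800480006001d00080003400200015000a00074001c001e000000014002a0013000980038002a001c000600000000e00170002000040024001e00030001c000a0019000a8004c0024000300068000400180018000c800380018000a000780010002a0019,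
0x1c000a00008003000080004800480012000000028004c001a0007000d800440030000100088002c0024000b0001000140020000d0002800340032001600060001000180000000680048001a000d000b80004003a0000000700058001e001d000a000400004001c000280060003000050009800700008000a00040004c0036000e00000002c000a001c000080064000c000d0000000600012000c000d0006000000016000d8005c0030001e000e80018001600090001000240010001b0000000600026000400050004800180005000d800180006000c00068001000040016000400004003a001b00090005c001a001700058007000080017000580068000a0010000200020001a0010000300078003a0005000e8003c002c0014,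
0x100028001800060011000d00034002c001d000d80034003200120004800640038001e000b00000000a001e0008000640026000d000b000600016000f000b800040016001e000e8003c0008001700020002800260010000f00064003a000500058001c0000000100040004c003800130002800480026001000090000c003a000100050005c0022000a000880074002000040004000100006000d000180054002c0012000b8007000280016000f0005800140015000c0000800000001000680010001c0002000480024002e0003000c8003000100018000f0000c002600130006800240022001a000900040001a000a00018001c000c0001000a80040000e000b000d0004c001e0006000580034000c000f0009000480016000f,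
0x14000f0003400200005000700074000c0012000a8004c0010000d00088000800160012000800074002c000f0005800580030001400078004c00280005000a00074002e000c0005000700018001300000005800100013000100014002000060004800100034001a0009800580012000e000300070002e001c000980048001a000c0009000300038001d00038004c000400040005000500008001b0003000300014000a0007000640018000f000300054000e000100070006400380018000e0000400200011000c80018002e0019000d000380034000b000d80010003c0008000c80054001e001c000580048000c0004000580040000a0005000c80044000200150004800480018001a0002800200018000a000c8007000160008,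
0x16000300004002600160003800780008000a0001800200022001000040007800280009000c80044003c0012000500028001e001d000480070001e001b00068001400200015000b80030000a000f000e000340000000800068002c002e001c00028001c0032001a00048006c001e0009000880034001a0013000a80024001a001d000800040003a000800068006000000019000c8002400320010000480048001c0007000b8000c0014000c00080007800060012000880044001a001e000280020003c000f000b80034001000030002800540028000000000004c003c000c000c0002c0022001200058004000300018000a800480034000800010002c00360009000680008001e001400080002c001c000300058000000120011,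
0x90001800300022000f000b800140036001a00000005000340012000c0006400140013000d00014002a000a000a8004c002c000a0003000040034001a000c000480020001900000001c00320011000d0006c0006001200080002c0034000c00060006000040018000e0005400020009000980034000c0019000700070003600060001800680034000000000004400040013000480078002600150000000200010001b000700030002a0009000600064002400110006000640016000000098000400000004000a8005c000c0010000d800400012000b00000005c001200190006800580008000e000000030001e000f00050002400300010000e8006c000c0014000100070003c0003000a0001c00360007000c000740028001c,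
0x70004000280014001b000600004003c0001000080064000a000100028002800180005000c80048001e0012000280048002c000300088006c00260015000b00068001a0013000e00018001c0012000680008000e00090000000740014000c0004800600022000500000001c00180007000b80010001a00000001800180020001500000006c000000140005000780006001e000580048002a00060003000600012000b000400000002a001d0004000040016000a000c00064002400180008000580032000e0006800640000001e00060001c002e00140008000200030001d000880058002c001c00030007000320014000c00008000c0000000380040002c00080000800300008000f00088002c00180011000a00040003c0012,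
0x10005800140012001d000b0002c002a001e0009000040016000400038006c00280000000680040003a0012000180034000e00190004800440006001400058000000180018000200048000a000f0004000640008001d00070002c001a0003000a00014001c000c000d800640008000900070006c0018001100028006c00380006000080050003c000c0008000080036000500030005c00220005000c8003800000005000d80028002c0007000c8006000380000000100058000e000900088001c0002001000080000800220009000c0002c000a0012000280010002e001000098002800240014000c8001c0020001e000180010000e0009000e800280016000f000a000340010001d000200060003a0001000680010003a0013,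
0x18000200014002a001600098003000000001000d00078000c000e00050006c00000003000f0003400160002000a0004000220009000700040002a0016000080040000c000f00038003800260007000c00034001a000100090006c00020014000d0001c000c000d00048001c003600040004800180018001e000a800700036001c00078006800020000000c8003c001a000b000a800000026001c0002800640032000a000780044000a001a000d0004c0020000d000700000003c0004000e8005c00300007000480070002e001d000b80070001400000000000300010001a000a0001c00300005000b00044001a001b0006000180002000b0009800440014001d000a000140024000800058006800340014000700070000c0000,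
0x8000b800540030000a000d0000c0016000a0003000700004001200058005c001c000600070004000080017000c0000c0002001500098006000160000000c800780002001a000b000540038000900040003c0032000a000080028003c00070002800780000001e000c000380000000f0005000700012000400030004800320004000a800300014001c000700060000800050006800480034000f00028000c0004000d000b000380004000d0007000780036001e000d800040034001a00008002c0010000100038004c0014001e000580064000e000d000980058000e000b000d0004c0002000a000780030002c0003000f00030000c0006000280064003c001500070004c003600100002000700038000b000e00034001e0004,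
0x110009000680014000b000100058002c0005000980068003c0003000280064001e000800078002400260015000a800300004000c0002000080012001800068000c0030000f000a00038000200030006000500030000e0001000080038000500068003000180005000e0004400180019000000068001000180009000700008000c000380078002a001b000b80038000c00160000800180024001a000480058000e001b0006800200014001d0007800140008000300008002c0024001a000180068003c00130005800080000000000010007800100013000700068000400100009800040030001c000980030001a001900018007800140013000c0003c00180004000900038000c000500008003c001e000e000d80010001e0014,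
0xe000300004001c0007000a80030002c001c000f0000400360012000300018002a000700080000000140017000e8003c0000001800030004c00100015000e8007800220009000c8007800280000000180034000a000a0005000280000001900010005000100011000e00078002c0006000900004001e00080001800280030001500090002400380005000c80014001c0004000c800640020001c00088001c001c0008000a80040000c000600088002800140018000800030002a000a00078005000100007000180074002c000600008005400020005000b8003800200014000400028000e0014000480000000e001a000d000640002001b000a800400018001100008000800360009000f00028000a0007000c0004400060005,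
0x9000d0001c00040004000c0001c001a0004000b80004002a001e0006800200030000c000c0003c0032000f000d8006000040007000f0005c00260008000a8004c00020012000080018002e0003000f000280036000f00028006000320005000980070001c0018000480008003400180002800340032000b000400038000e000c000980030000a00100000000000036001400060004c00180000000880010000e001e000d00030001a000c00010002800200000000a0006c0002001300048005c0008001e0005000080002000e00060006800240012000000074002400030001800580032000900010005800320016000100060003a000e000d000080036000c000c8005c0020000400078003000060014000e8005400220009,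
0x5000780074001400050001800500006000e0005800000014001e0007800380002001a00018006c0012000500028000c002c001300078005c000a001c000000040000a001000080001800120010000e00054000800140007000180022000c000c0001000060004000580024000e0013000d0006c000a0001000700048003a0010000e000480022001e00030002000280012000b800140012000e0008000280014000d000d8004800000018000500018000c0005000c00014002a0008000c00004001000050006800100006001e0009800080026001d000b80074003400000009000780012000200038006400200015000d0004c0008001c000300030003c001e000400058001e0011000e0000c002200080008800380020001a,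
0x98005c003a0003000e00074003a001c00098000400000013000d80038000c0003000b800140034000c000800068000400130009800040020000f00010003c002c0002000100068001e0016000400020003400100007800400002001600010000000260012000c000380002001400080003c0026001c000780020000800080008800240032000a000a00030002c001a00000006c003a0013000280024003200110000800240004001c000280024000c001e000900070003200190004800180026000d000080058003a0007000c8001c00320000000a000740006000f000f00030000000030008000300018000f0004000740000000c0001000380036000d000a0006c00140009000f00020000e001500098002000060013,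
0x190002800680010000500060001c000c001d0001000580026000100088006c0020001900038005c003400140005000540024001b00020001800020010000c8005c0020001900058006c000a0011000c0001400060016000e00014001c0012000c00028000800170000800480002001d00028003c0006000a000280040001c001a0006800600006001d00078003c0000000c00028004c003a000e000200054003400090003000600006001a0006000180002000a00068002000360019000080070002c0003000600050003a001600038004c0018001a000b0001c00180009000c00040000c0001000b0007400040014000d8000c0012001100098001400200006000b8002400200010000600004003a000c00090006000160015,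
0x110007000740034000a00010004c00140007000c80050001200150004800100032000f000500070002c0006000280010002c00020003800240002000b0000800600030001b0005000180014001d000b000300032000b0005000180002001b000c8007400140010000d0002c000a00160005800480024001400020000400220002000a00000002c001e00068003000200009000c800140028001b000c00070003c000a000d000480026001900078005c0028001d000a000300002001b000a80044003c001000068001000300001000c0007000000012000b00024002800130008800180036000c0008000300006000c000a800140028000300058004400040008000a0006800240014000600068002c000b00010003000080001,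
0xe00070006c001e000e000f000700022000a00010005000120014000d000600020000e00068003400300004000d000080034001a0003000340004000c000c000740008001b000380074000c0007000b80024000a00100005800400000001400030006c0004001000058000c000000170009800100016000a000800034002a000b000c80000003a00080009000340032000b000200030001a0001000880070002000050007000040036000a000e000000008000200058005400320006000d000400014000b00018005c003c00180002800140020000f000d0000800000003000b0004c00380019000680064002400170007000040016001d000b80060001c00000007000500026001300040002c00120002000380070001c0001,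
0xe000c00064001000040008000340014001a000e800480030001a000a0000800340015000b8000c002800110001800440016000e0000800140030001c000b80020003c0010000180054001a000700070006800360011000d80070001a0017000c80028002a0003000300004001c0010000000074001a001a00088006c002a001300030005800000019000300030001e0004000a8001c00040011000b00060003a001b00080000c00340009000b000300018001a000400050001a0016000d0004c003c0013000480020000a0005000a80038001e0004000900040002e0018000f000000030000f000580004001c000e000d8000c0026000500000004800200012000e0002c001e00010001800540034001b00028004400260012,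
0x3000100038000e001c000700050000c0017000f0004c0008001b000e00048003c0006000a80000002e0015000780024001a0007000f0004c00240018000b000200028000500000000000000016000b80024001a001e00068001c0016001100030004c00260017000b80078001c00190007800700028001900010006c0006000e0009800040018000e000080028000a0007000a8000c000c001b000000018002a001c00070005c001e0007000b0002c0002001a000480014002a000c00068004c00340014000a0004800180015000a8000000120000000080008000e000e000600078000e001e000400004003a00040006800400020000a000a000400034001a000c000080022001d0003000700032001900088002c001e0009,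
0x500020003c0024000a0002000100006000b00030001800160016000f00018000c0000000c8001c00100005000200018003c000200020004c0018000f00018007400020006000e00070000c0006000e80010003a0012000f0007400220002000a00070002a0015000e8000400280014000d0006c000a0010000a0002c000e001100020001000120009000d8003400040004000680030003a0009000d000300022000f000c800540012000c000e00018000e0012000b00010000a001d000400054003c0013000080054002e000600028003c0036001e000d8001400160002000b80028003600020001800140034000d0002000080004001700010000c0030000a000580028000e00010003000600032000700048000c000a0009,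
0x1b0008000240036000f00060006c0018000c000b8002800120003000e00030000c001c00050002c0036000a000e0003000020009000e0002c003a001300030003800220012000500070001a0017000980000002a000300070007800360003000e800500010001400008000400380004000c8000c0014000d000c0001c00260005000b00070001c0018000600060002c000d00068002c001c000d000200008002a0005000e000580026001e000100064002e000a000e000100034000d000f000640018001b0007000000002000200048006800360003000e80020003c000b00040004c0010000a0006000680030001a000080054003a0015000e000080018001000070004c000c0010000a000180030001500028000000180003,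
0xe000d0007000360016000a800380018000d000a0002c00380011000d8001c002a001e000c80024003a000100070002000380017000a80040001c0013000e000580028000e00010000000100009000e8001000040003000180048001c001c000d00074001c001e000d80074003c0013000f00044002800080006000680034001b000600040001c0006000e0002c001a000f000280074001e0017000000044000a000c00078004000320007000e0006c00140004000000048002c0011000b0003400060011000200070002e000300080005c0026000c000b000640036000c000c0007400160000000800018003c001d00050006800300014000980054001a000e000a800600020000500070001800340016000d00068001e0001,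
0x50000000140022000b000b00058001c0006000b0002000260017000800074000c000f0001800500014001e00068003000320016000a80040001a00160003000340030001d000800010002c001300008003000320008000b0001400080016000a800540028001e000a800440022001900090003c00320018000f000140010001800000004400300014000300068002c001b0004800300028001a00038004c00240001000a000540030000d0008000740006000100000005c00240014000b8000000360014000b00044001a00040005000340030001200040002800320017000f0000c00360019000780034002000090005000380006000d00020003c0022000b00060000000380019000c800240000001c000c80054002a0002,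
0x500010006c00200009000f00068002a001c0002000680028000b000c8002000100008000e8005800260012000a800040020001500050006400160019000a80060001c001b0009000400024000f000d00018003800120005800500016001e00010000c003c000b000a000740028000c00018002c0008000a000780058000e000600030001000020018000d80028000c0018000b0006800100006000f000480022001e000980058002e0000000200054003000060002800540028001e000200038003c000f0001000280010000a00050001c0000000c000a80058001800020008800040020001300028005c0034000f0008800400006001500008006c003c0014000b80070000a000e000d8001800100012000d8000c00140017,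
0x900090005400260016000e800780022000c000380040000000030005000240006000a00040001400120009000e00028000c0016000000074001e00120002000780034001800000003c00360011000b00034000a00150000800400028001c0006000340000000e000d8007800260002000b0002000080018000a000000016001d000c8003c0036000000020004c0022001000028001800200013000f000540026000b00070004c0026001600088001c003200090003800180038001800058004400320004000d8003400320003000180034000c0011000980038003800160003000100008001c000a00044002e001a0006000500034001e000a8003400040008000a00004002a00190000000680038000200030002c0030001b,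
0x19000b800280004001c00000004c00340006000a8006c00020010000a0000400020003000b0002c0038000200030003c001a0003000900018001c00070007800040006000a000f00024002c00190005000080030000b000180050000c001d000700014001200180001800540002001b0008800240016001800010000400280003000400004002c001200090007400220011000b000000000001b0004800440024001500098005c002a001e000300018002c0003000a8002c002c0001000280060001a001700030004000120015000a80070000c0003000a0000000260002000100004001800100009800500014000a000b800100020001600038003c00220008000d0003c00060004000d00000002c0007000700030001c000a,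
0xc000100028001000028007400320001000000048003000080002000180024000a000d8003c0002001400078007000180014000d00040000000170006000280016001c000b0005c000c000f0007800300002000900020000c0016000b000800008001e0001000b80040002200130005000600032000b000280060001200010003800180018001d00040006c0012001700028003800240013000e00030000400020000000400022000f00050004400140014000f00058003c0011000800044003800180002800000010000c0009800580028000d0008000100002000b0009000440000001700078002000100012000c0006c000a0000000080070003c0017000700074001e000600048006800000018000380020000e000f,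
0x1900060000c0016000600050003800220010000200044001c00100006800440000001a000700020001e000500088005c000400040007800300002001c000d80040002a001600090001000360007000e000500000000b000a80000002400180001000640012001e000f0004c000c000a000c0001c001a001e0009000700030000b000c8001800060014000c80018001c0013000a00024001800030002000180006001b00060003c0032001e0008800200028000c000100050003800080005800540000000c0009000740012000c000100008003a001b000c80008000a001d00070006400160004000d80000003c00190005000300000001c000280048003c0011000e800400038000f000a80050001c0018000a0002400380001,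
0x14000b800480002001c000300064001c0018000c8000c001a0003000e000540008000500078004c000600150000800380034001d000c80070000000110008800140022000b000600064000e0015000300040001e000f00050004c00040005000100014003c001b000a8005000160000000380010003c000e000d80058000e001a0000000400000001b00048004c0020000d00090006c0038001b0006800180014001200098003000380009000c800180016001700020002800000000000180000001a001d000d800700012000c0008000500010000100040003400240005000800068001a00100003000640012000f000400050001e000c00008000c001c000b000e80004003c001700040006c0022000d00018002c0026001b,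
0x1b00098003c002c000b000800064001a001e0007000680038000b000c80048000c001e000c000000006001800098003c0004000900090003c001c000400098007800140015000b800140012000b000280044000c00190005000040000000e000580008003c00000006800740014000500048004c002a0005000c0001000160007000080050001e001a000f00070000c001e0003800700018001c000c8005c0016001b000d80038000e0002000380040001e0012000600030002c001d000a00064002a001200070004000220007000b000380014000400090003400320003000f000640026001c00078000000100011000600014003a000c00038004c0018000c000080054001e0007000a000540010001700038001c0024000a,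
0x11000480028002a0016000d0004c00140008000100078000a0015000c80074000e0001000680030000c0000000e0000c0002001700098002000060011000d800340022000d000380014001a0009000d00008001e001a000580068001000110004800040020000b000100064002000120002800180026000b000100074003a001500048007000320016000280044000e001c000d00068002e000800070005c002a001400070004c003c0005000a8001800360001000880064003c001a000a00068000e001d000a80068000a0005000780060001a000f0009800780016001600070006c0032001600010006c001c0018000e80060003a0015000400044000c0009000880018003a001e000d000480022000800040003c0032001a,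
0xd000d00054000c001e000c000540002000000028001400100000000b00018002a0009000600038001c001600098002000160011000180010000800080008000140006001d000900000003c0017000000044002c00180008000340004001b000b8005c000e0019000d8005c003c001a000080014000c0014000600018000e000b0009800600012001e00018005800300013000d000280002000c00088002c0002001500070007800260008000e0001c001c001c00058007400160006000780024001000030004800340008000a000600038001e001e0008000600016000400040005c003c0012000d0002c000e0014000500044000a000a00090001c00060009000200004000e000400010005c0038001e000a00060001e0002,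
0x11000480030001400160007800680034000a000c0005000260019000a8000c00060014000280048000e000500010006c002e000a000a80048002a00000005800040004000c00008002000260016000900048003200020005000380000001b000800024000e001800030000800380013000a000480026000f00058006c000400190004000200018000200098004800220006000b000340032000c000e800300030001a000e00024003400120004800380014001900038000c00060001000a8004c003a000d000500018003a000f0008800540026001a000b80054003c0015000300030000a000e00008005c0016001e00068004800180017000d800380014001d00060005000020003000b0006000200009000c8002400240009,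
0x1a000500040000c0016000e0000c0018000c0008000600010001c00020006c003c0001000600074001000020009800200038001d000d800140036001c000d8005c0024001a000080060000800120005800780030001c000400048002e00070001800280018001e000e000200034001a0002800580034000a000a00034002a00060003000440036000a000c00054001e0019000e000080032001000038007800300005000a8007800260008000600058000c0004000980008002c0007000480010003c000800048005c001c001a000e000100010001300078003c0008000900050000c0018000300068003800100017000c8003c000a00090000800180014001700080002000320019000d800440006000f000e800600038001a,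
0x14000800000000a0004000b0000800360019000800078003c000c00058003c0002000b000b00010001e000e000480068003c001200038004c000a001d000e8003c0032001a000b000740004000d000c80048001c0000000b800000038000e000000050000c001400020004000380015000780074000e0015000780004002e0011000a00030000c000f000a000740010001900020001000220005000c000740006001a00098001800220010000c800540006000b000d000440016000000008005c0022000e0009800640014000000008005c00100017000180058002c0006000b800700034001d000b00008002c001600040001c001c00050000800740008001c000a000480026001400018005c00360005000980068003c0017,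
0x1c00050000800140015000d8001c000e000000050003c0010000200068000c001a001b000d0004c003a00030008800400036000b00028005c0028001d00048004400040008000b80038001a0012000d800280002000d0005800480026001200030006c0024001b000400040000000010000800300020000a000200054001a001d000a8005000040017000100020000e001900068006800100018000d8002c00340016000900068003a0016000180078002e001d00010005800360011000e000680038000000050002400020003000a0003000060008000d80028001a0008000800004000a001700038003c000a0010000b80050001a0016000400008001400080000800540026000e000c8000c003a000c000180058000c000e,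
0x1900050004400000008000c80020003a0007000d80028001a0004000e000740034001a000b80008003400160008000100036001400048003c001e00020000800480028000a000800034001a000100000001800340011000d8004800120008000700014003c000b0002800480018000c0003800400032000700050004400220003000a8002800060004000a00018001c0007000b80018001a001d000f0002c0022000a000300024003c000a000c80060001600040009800580006000a0005000440038001d00010000800360010000d00078002600090005800040028001b0005000080002001d00090002c00200003000900030003a0015000200068001a000e00028006c0032000700090004000060014000200054003a0001,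
0x1100090006c00160001000d80048000e001b000c0003800160010000d0001c00140001000a8001400360015000000028000e001400038000c00220002000380064002a0012000200054001e001d000380078003a0008000e00008003a000d000c8006c002e000f000a000340026000f0007000680034001800050001400100018000680020003a000a00060000c000c001d000480048002a001600010002c001c0011000800034001e000700000002c0032000e000f00040002e0001000b000240006001c000000030003a0001000f000540016000700028006c0038001c000300018002200130009000680006001400070002400100005000b800700014001c00000001c0010001a000380020001e000f000000060001c0008,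
0x4000f0007800020017000400050000a000c00070006c00180001000d8005800320010000e8003000360003000800020003800190008800780024000400000005c0014000b000d00068000a0000000c00000002a00040002800740038001a000080050000c001a000800064001400030006800700002000c0005000080002000f000f00004002c001b0009800180036000d0005800440028000c000c000500036000100070000c0032000e0007000180012000b000b800380034001e000e0000c000a00000006800000010000b000b800280032000e0001800680022000900098002000060014000580010000e00020002800440016000e000d800100018000c000e00050003c001900078005800180017000e80030003a0016,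
0xc00040002c00080016000b800400000000000070006c00280003000c000000018001d00080003c001c0019000a80060001a0007000d800040012001b00070005000120005000b800180028000000050006c00040009000e800140018000e000500000002c0010000a0005000120004000a00058001e0017000880058001e000b00018003c0014001200000003c000a001000040003c0018000e00048005c0036000c000800060002e001c000480054001c0009000e80008003800110002000180018000100058002c0008001d000600028002a001d00020005000220015000c80018000a000f000c800680032000c000e000380026001a0003800500032000c00030000000240000000c8003c001e001a0002000400026001d,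
0x1000b80014002a001b00098003c0014000f0002000300006001d000100030000c0002000d00074003c000a000180028003a001600098001400260013000c00078000c0015000f00008002c00110007800380006000c00080004c000e00150008000380020001a000300040000c001e000e8007400000008000d80064001e000100078003400380015000c0003c00380017000080034000c0010000080040001c000c00078003000100002000380008001e000b00018005000060010000280020002a0016000a00004001e0006000980004000c0016000b8006000040015000c00068002a0014000500078001c001a00020001c002a0010000c000380032001200018006800260014000d000640002000c000a8000800300007,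
0x20000000740014001800018000400060000000b8001800200015000380078000a0010000b0005c000e0011000b0003c00020006000b800280034001c000a000500010001b0002800640014001c000a000480028001900090002800100012000000014003a000e00070001800220002000e8001c001e001100098006c00160019000d80058000e000200028004000340008000d000100000000f0000000180028001700010005400000008000b8006c0026000e000b80064000e001c000280010002c001e00058004c003a0007000080060000e0004000a00014003a0003000a80070002a0017000d0002c0034001900028000c00160011000300018001c00070008000300018000b000d000000028001b000d800100004000c,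
0x1600050006c003a000600018003c00080004000b000380004001400048005400220003000f00004002a00010006800500000000f000f0003c003400000009000180014000100080004c0026000f000980068002c000500048004c002a00170009800500010000500058004400320005000a8002c00200016000b80040000c0011000e00058001c0001000f00034003a0015000100054000e001b000b000680038001d00068003c0018001700088004000000017000c00034000a0010000b000400034000a000f000700024000f000e0004c003a000f000c000500000000b0001000680000001300070005c000a0001000580008002200100004800740022001b000d00070002c0000000e800240002001400050005c00240019,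
0x3000800064002e0013000600000002c0018000100038001c000c00008002400320019000500040003c001c00078000c000e0010000300060001a000d00040001c0010001c00078001800320008000b8002400240014000980064000e0012000a800500028001c000e000700014000e00050003c000c00130002800380014001c00058002c0000001700000001000340002000280078001e001000030000800340018000b00030002e0004000600058003c000b0003000000012001b0002800640004000c000a000480032001e00040002400320003000e8005c00240008000680034002a0008000c000300014000000048007800360017000f000400010000c000b00060000c001d00028001c002800080008800400034000e,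
0x160002000640000001e000100044003c001700080000c00300011000e00030000c0012000f00054002600030005000140018000e000e000440030001d000600024000e000f000100068002e0010000100028000200150009000640004001a00050004c00360018000a8005000000006000a0002c002200100005000340000001e000400010001c00020007800340012000700010000c002e000f0009800440032000a00088004c0002001e0002000140036000d00068004c0028000500028003000020005000c800340014001600060006c00360000000b000600018001200020005c0034000d0007800280032001600060001000080016000a8005000220004000380010003c000c00008002400060012000b0002800260019,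
0x13000e0004c0006001400048003c002a000e000c8007400220019000b800300038000a000180060003a0011000b8007000200004000600074000a000500008005c0004001c00028003800060015000380000003a0008000900074000a00020005000000018001900048007400180011000a0004c000e00130006000440010000500098000400260011000e8007800000004000280018001e0013000b800680020000d00088002c0018001b00010002c0022000b0005000300008001900068004c001c00160006800500018001900040003000280015000b000240036001b000d800380038001900060005000060010000400030001600170008800780034000700040003800200000000080068001c001d000d80024001e0005,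
0x1b0006800080032000d000a0003c00140013000b00058001e000c00088001000360014000f00010001800140000000080026000200018004c00340001000000070002a0010000b80020002800010004800200014001e000100054000a0010000680048002400170008000400012001e0008800740004000c00038007000260019000a80000003a000d0003000340016000b00090006000260013000700014003000090000000700036000d0005000280036001000078007800060005000900034003a0003000f0002c002a0006000100038003a0016000d800580022001700030004400200012000e800780038000f00098002000340004000e00004002400120002000400024000a000b80058002a000a0009800540024000c,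
0x3000a80030000a000400090000c00140008000f000380024000100060005c000600170003800380032000e000f000740002000200040006c00060019000880028003c0005000d80050002e001a000580018001e001700010004c001800000007000740020000200098005000000008000680078000a000b00078003400360006000d0000c001a001b000e000540028001b000900038001a000d0001000480000001a000e80010001a000700038003400280005000800034002e0015000d0000000120010000380058001a001e000080024000400000001000700022000c0005000180030001d000c800300026000d0003800740008000a000880000003a001a0004000280000001a000b80058003c001700060007800080015,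
0x1b000a8001c000c0009000b000400028000800060005c001e000100078001c00340001000880010000c000d0004800240038001e000880038003c000900088002400200016000d0007000280001000200078002a001a00070002c000200170005000740006001c000380070003a0017000200054001400130008800500036000d0002800240012000d000b00018003a000c00000004400320013000b800780036001e00058000c0020000c00048006c00260002000400014002c000200048000c002e000e00030003c0018000c00020000400160008000a80020002e000b00078005400120012000680024003a001c0008000700020000e000d800700020000600098006400060016000d000700018001d00058004000380002,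
0x1500048002c002a00170001000600006000800048003400340016000380060002e000500098000800360013000900008001c0008000a80070000c000400038001c001e0013000a80044003a000d0005800280010000b000e8004c00140015000b80044001c0000000b0005000220001000580004001c0002000f0006c002e000e000e00010000000050002800380038000e000e000340008001a000100010001c001a0008000140022001c000480024002c001a00028002c001e001e000800060001e001900028002400140011000800030001200040001800480030000f000d0000400060016000b8004800180017000b0006c0002000d000180044000c0017000300048003c000a000d0003000360006000a8004c001c000a,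
0x19000f00028003200050005800380028001e000b8006400200015000580018001a0005000980024002400190004000180032000e00070005800300006000e800080024001200060003c00140007000100020002e0011000e000240000001700038005c000c000a000c80078001800100002800500014001e00070005c001e000c00090002c0010000900038002000300017000600038002e0004000400024002e000000010000c003c001400080003c003c0011000a80020000e0006000a80040001a000a000b8004400260014000800068000e001e000880030002e001b000080058001200080005800200028000b000980008003a0016000a0006c0024000c000080034002a0008000a800400032000d000300070002c0014,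
0x10000300008003c000100088001c003c001d000500014002a0010000a800040026000100070003c001c001b000380014003c0009000d800600026000a000b000200002001d0009000240006001a0004000140016000e0003800740024000500048005c001a0004000c00014003000030007000300028000f0000800400038001d0002000680038000800018005c0010000300068004800360008000d0003800300016000e800480004000e00090002000040006000e8004c002a000f0007000200020001600038001c0012001000078001000380002000980044003a000b000d800080014000b000780068002c001d000180058000e0018000b00038001a000b000d000000018001b000d8001c002e000b0001800740004001e,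
0x7000180070001c0015000d8001c001a001800028001c000c0017000a0003c0014000d000d80004001000170001800100004000700028003c002e0016000380068002a001e000880040000e000a000c000140030000100088001800000010000400000001e000b000300004002e000a000d0004400040006000880010002e0016000900020001a001d00000000c00060019000180050002c000b00000002c0014000f000000000002c000b0004800200024001900090000000340018000d00058000a000c00000006800340014000c00060002e000e00000002000300018000780038001e00170006000600026001400010002c0010000b000880058003c001e0004800700004000600018003c003000120009800680016000c,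
0x2000c8005400220015000e8001c003c0002000080000003a0019000100070002a001c000680050003800060002000140014001c000d0001c0014001d000780030003c0002000e0000c000a000a000380020002e000a000080064000a001700078002c001a001200088005c00000014000f000100030000b000c800080018000e00018002c00300016000d80064001a000200018006c001a001e000400048001a00150005800280032001a000d00018002e0006000680070001e001b000b800680002001a0007800600036001b000200000002c00140004000400036001600050002c00300012000b8000c0026001e000d0004c0018000a000e0002c002c001e000c80054003a0015000e8005c001a0012000000070003c001d,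
0x2000900004001200120005000040028001d0001000340012001e00070006800120014000a0001c001a000c000f00030001e000200038006000360004000d80008000e000a000d0004c001e00170002000140026000b000b000740028000a0001800780032000600098002c00020014000900010003a000d00088002c0036001c00060005400080010000480070001000150005000380038000f00070005000340004000c800600024000900098003c0000000d000d00044003a001d00070002c0036001400040006c000e0017000900024002e000900088005c003c000f00000006c002c001000090005000020000000d00068003600100005000340002001800000001400120014000480054001e0013000f0003c00020013,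
0x800340026001000030004c003a00110005800200036001a000e80044002600030004800500038000d000d8003800180002000d00074000c0009000300020000e000c000c000680038001d0007000740038001100008000c002e000400010001c00380018000e000180018001e00068006000000015000680000000e000f000c0002c0036001b000c000540036001500088001c0018001c000780064001e0004000d000100000000900090001800220008000a8003000220016000e80034001a001700068001c001200090002000540008000a000380064001e001d000d00074001c000500028002800340014000b80060000c0001000a80030000a0001000e0003800120009000980030002c000900038005800260012,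
0x11000600058000e001e00068005c0032000800098001800000006000100030001e000b000d8007400160018000f000040028001000048000c00120016000b00070000c0010000000000002e000c0003000740006000600058000800300014000480018000e001800090001c00380005000d0002c001a000f00078003800080002000000040000a0013000b0005c001e0015000e0003400100007000b8002c00280017000c8003400320005000f00054001a000b0005000040006001c00038005c000a001300040000c0012000f000a800680034000f000a80050002400190006800780026001c000f00058002a001a00070006c000a001400048004400020006000c000780020001b00078003c001c0012000080028001e000b,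
0x500088004000080014000d80074003a001c00028001c002e001900010006400060003000b80064003a000c000f00060001600090002800280008000d000e0000c0028001200010005c0002000d00020004c003800060004000600016001b00060001400300003000400000002c0017000d00058000a0001000a80038002a0005000800008002e0006000a000240018000b00088002400320018000680064001200160004800400032001200040006400200000000480000003c000d000d80070003a0016000d800400024001d000a00074003800140004000640034000900000007000220014000580004000c000e000700024001e001900088002000340013000c000600028000e00080002c001c000f0003800740022001e,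
0x50001000400006001a00050006000060013000c80064000600120002800400020001900008006c0034000a00078006c002a000c000a800500004000d00078002400140016000c0001800080014000c80000000000020001000140036001900090005c0038000900028001c00380008000300060002c001200088001c0002000500048004c0022000d000580014001a001000030003400340012000180048003c000b000080030000c0002000100070000e0016000580050000e0010000c80054003c00060000800440022000800078003c0020000a000d000440018000100040007000120001000e00018000c001d0005800300038000200048004c000c001e000b80044002c0014000780070001a000b00090000000380001,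
0x1000d0000000300010000980000000a00090004000000002001a0003000180028001e00040001c0000000a00060004400340009000400048001e001d00028004800260015000900044002c001a000d000000014000d00028006c00280004000280058000c000d000e00038000a0009000880078001e000e000880048001a000100038006c003a001a0008000500002000a000000060000c001700000006c001c000b00070006c000c001c000800030000400090003800380022000800038004c000600070000800080014000c000000014002c0019000b0007400240018000580034000e000000000000800160006000b800140038001d000300038000e000600038007000060011000c0002c001a000700018001c000c0010,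
0xd000680024000c000600060003c0002000b00050006c001a000a00070005400040017000080020001a000300038002c000200080005800540024000300030006800120012000180070000e00150007000580030001000028006c000e0014000c00060001e001000038004c0032000f000a0002c00100016000f000400034000a0009000140032001a000b000640034001e000100028003c000d000c00048000e001b00078006000220008000a000300022000c000200078001a00050009000440036000b00000001c0010001e000400020002c0008000800024002a00150000000740004001d000700054001c000f000b0004c0022000500060000400240013000a0001c0026001b000f00034000e00080002000580020000f,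
0x16000b00028002c00030000800300002001b00080005c0016000a0002800140012001300038003c00000013000d0001c001c0009000200030000a000b0002800280036000000008004c0024000e000300030003c001900080005c0000001a000200034001a0009000500004002c001a000080008002c000a00078003c00140004000d8004c00280013000180068003a0005000a0002400040011000200048002c001a000e0003000180009000e8002c000a000c000c800300010001d00010002c0006000200010000c0032001500088000c001e000e000d80054001800160000800180032000b000400020001e0005000e00018002e000300068005c003a001600058006c0036001400020006c002a000b0005800400006001e,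
0x9000c00018002e001e000f0003c00260019000200074001e000900008003c002400190000000140036001800028000400060006000e80040003200070008000140010001e000d80038002800030006000140002001200028001c001c0002000580044000e00050003800740030000300028000c00160018000200010001a000a000280060002a000d00028005000100001000d80014001e0007000d0004c0034001e00028006c001c001900078002c003a001300020007800360014000200064000e001800040000c000c00160004000280002001a000000040003c0006000900020003c001400040003c0032001a000000034003a000e00028004800380018000880070002a0011000a0000c003400080005800500032001d,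
0xf000e000780028000400048007000200004000900014002e000f000800000001a001e00058003c001c000b00008001c00340006000400044003a0012000700028000e00180008800300010001b000a80074000a000a000e000380008001e000300024001c001100090004c0024000500050005000140005000100010003c000b000e000180034001d0008000700004000600000005c000a000d00060002c0010001e00090002c0016000400008000c003c001a000d00054002e0001000b80024001a000f000a0006400300006000c00060002a0004000c80034001e0003000b000640000000700038000c002e0009000e80078002e001500070001c000e001b00038006800040002000e800280024000a000f000600012001b,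
0x12000400030001c001100060002800380019000d0002c0002001c000a800600032000100018000c003c001d000e00064001a000f000580074001a0008000300010002c001300060006000000012000680070002e001a0007000180038001d00068006400140014000a8004000300012000d800540008001e0004800180032001d0005000200026001400068003c00160010000d00058000600060002000580020000c000d8000400020018000f0004c001a000500038002c0014001400070003c003a0002000d0001800260015000e00024001a001b0003800040006000b0005000680020001a000200070000400060007800240016001e0006800380010001600058004c002e0000000c0001800020013000b80074003a0006,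
0x1200090002c00160010000580010003a00140009800580010001500000003c0036001d00030002400100000000a80050003c00020002800640016000a000d00068001600160004000780020000b00060000c0018000500050006400300019000a0000000320015000000044002a000a0007800180036000200018001c0000001700038003c000e0008000b0004800360001000d000300030000100010006000140014000c80054002e001b000e000640010001b0001000480014000d00050002000340016000700014001a0012000e0004c00300013000300018003c00110007000640030001b000a80068001c0004000b000380034000a000a0003800260019000c000200016000c000280034001000160005000300010000c,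
0x1c00000000c00340001000c0006c002e0016000a80004001e0012000a00018001e000400018002400380016000080060003c0016000a80074002e000a000900048000e001c000c00000000400050001000700038001c00018004800380015000b000140000000d000100070003600150007000700004000a000e00064002600180006800400024000700090000400000012000380038000000160004800000016001c000e00008001600180003000540012000a000080030002a00040005800100024000d0000000740028000f000400058001000100001000780026000b000a80034000e001300038006000380016000b800100002000e0005800200020000d000f0003c001e001a0004000740034000400028001800180014,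
0xb000e800340000000600068003800360011000f0002c0030000700088005c00280009000e0004000320014000300018000c000c000280060001e001300090005000100012000f0003c0004000a000800070002e00030005800300014001c000300078001e001400048001c00220001000980018001200150008800580024000700048005c000200120005000600024000d000280058001c000400020000c0020001b000880010002c001a00000004000020018000a00008001e0010000280054003000030006000580004000e00068005800380016000300030000c0014000180004001a00070006000240006000300060007000260003000b8006c001a0006000b00058000c0011000900078000e000d00080000000000012,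
0x1b00088005000300019000a8004c00200004000680058001800060002800000008000400068001c001e000f00020002400220019000e0003c000400120008800340012000e00040005c000800110005800000026000f000e800200004000c000b800300028001e00058000400260012000500030001e000600058004c003a00000006000000028001a00030005000060003000e800640016000e000f000300000000b000080028001e000300078003000180004000380030003a0014000700068000a0014000900020002e000100010003000040001000e8002c001c00100006800400006000e000380070001e0007000f0007000220004000e8007400340010000100074001a0016000980028000c000c000400020003a001b,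
0x150002000240016000c0001800200030001c0005800240022000800068000c000a001a000e000340030000e000f0004400260013000f000000016000a000880014003c0007000500004003a001d000280000003c0003000d80070001e001c000600014001e00080006800740016001100090004c00320011000680050000a000000010004800280018000580024000e0006000b0001400060007000200024001000010007800400020001e000d000100032000d00050005800100000000b00064002a000700060004800040016000680064000e001c00040001400140014000c80064000400080005800340014000e0000000740018001a000180020002a000e0003800300000000b0007000580002000b00068001c0034001c,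
0x14000c80028001c0017000d800780010001000008003800280005000d8002c00240018000b800380030000f00000003800120000000b0003800020015000500004001a0006000c000100018001300020001c001c0009000a000580000000b000b80010002c000300010001c00020016000280000002c000100080005400260008000e000100016001400000004800100001000a0003000020005000b80054003a000c000a00050001c0003000980054000c0019000280058002c0015000d00034001e0015000a80038002e001a000c80010002e0004000280078001e0009000d80064001e000c0009000080010000b000200054000a0013000c00020003c0015000d0000c002a000b000e8002c00200009000e8001c002a0011,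
0x1a0000000140026001c00038006c0008001900070003c001a00050003000780018001100070005c003c00190001800200006000800000000c002c000a00050005400220013000d800480002001a000a800780012001a00010004c0038001a000280040003000000004800440004000500050007800240018000a8000400120005000580040002a0012000600014003a000f0004800600030001200040003c001a00180009800400036001b000300018001c000d000e8005800340008000780074002e001c000f00040002200150002000140002001400058005c0032000c0006000040030001400010002c000c0014000f0006800180016000c0001c003a0000000100030003a000f0005000400012000400000004800200002,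
0x7000b0002800160007000600048003c0017000800048000a0013000c0000c003c001c000c8000c003a001c000d0005400360012000d80038003c001c000e8003800140004000d80048002e00060007800780014001700080000c000600090009800580002000c0006800700000001c00010003c00120000000d80030001e00100005800200028001a000e8003c000e0012000f0000c0026001d00078002c0014000e000d800580030000900098004c0028000d000c000480012000600080002c0034000400038005c0016001b000780004001a000f00070006000280006000280018003c00040001800700016001000030000c0030000b000a800240022001a00068004000160011000000018002a000f000c80030001e0004,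
0x140007800700006001d000e0002c0012001c000600074000e000500040004c00140002000f0003400180002000f0004c0014001400048005c0008000900080001400200009000780064001a000a000900044000a0015000a0001400160014000c80034002c0001000580068000e0004000e8000c001e001a00038000c00340017000c80034002c000100088000400200005000a800180006000a00020004c001a001d000f000380014000a00008001c0012001d000780074002c0003000c800300036001c00070002c0022000e000a80060001a0017000a000100038001100098003c0004000e0009800300014001d000c00050002a00000005000000008001100048000c000000040005000640004000c00058002c000e0009,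
0x18000f000440032000b000e000640020001900030005c0006000e00068000c002e001500070003c0006000200030001c0028001d00078003000000001000e00028003a0009000400040001a000500048007800000005000b0007000260016000d800740028000f00068003400360000000c00078002400090006800740016000d000b8003c00000013000e0004000220019000c8002000240019000a0004400060000000280048002400190000000580026001a000100008002a0006000c8005c0002001600090006c003c000d00098004c003c0004000d80020001000170006800040012000900070002c000200110006800180032000a000100018000e000c000e80050000e0004000b0005000160008000c0002c00060016,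
0x160008000680002000f000a000700000000c000200028000600060003800040000000f00018002c001c000b0005800680036000a000d8004c00120000000c000580032001500048006c002a001a00068000c001c001a00050001c000e0017000180074002a001c0004800080026000e0004800100026001900068000c0012001b000a8005c000a001600008002800260001000b8006c002c0006000b00010001e000d000a800340020000b0000800700008001b000b80078000a00060008800380002000e00088002000080011000c00064000c0003000280028002c00170007000080030000d00070003c0032001200018003800280004000480060003a0007000d0003000280002000a000300032000100010004c0018001c,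
0x80068003600090007800000010001c00020005c0012001b0007000040036001700068002000160005000d800280022001800068001400280001000c800580002000d000e000040012000f000a80028000c001e000d8000c001a0011000a8004c0010000700078001c0014000d000000058000c001b00088005c0036000b000f000780038000300048007000220009000600018001a001a0002800500030000600088006400340003000b8006400340019000980040002e001c000d80054000400140001800340030000f00068001c003c000a00088004800220001000080034000c000f00020001c00000019000d8000c0022000a000880060003c0000000200064003a001b00090000c0030000b000e0001000080019,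
0xc00030001c001a001200068003c002c0005000d8006800000006000d80078002c000500090002c0026001e000c00024000c001a000d800400030000f000b8003c00040000000f000340026000e000300070003a0010000d8005c001400160001800740008000b000380058000c0002000980050000e0010000900064002c000000070000c001a0011000480070003c0005000a8001400180002000a8004c0010001b000b8003c001000090002800280038000a00018005c0036001c000980028001c0003000a0002000100003000b80068002e0013000b000380038001b00000000400000011000d0000c003a001c000d80064002c000700070002c0000001c0000000580002000c000e800200002001300050002800160015,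
0x7000a00028000a001a00068000c00100012000c8006400180001000e8005c003a0003000b00074001a001300088002400140009000e8002c000c0009000880040002a0002000580044002a000700008007400120011000a0002c000c000d0000800600008001000030000400280009000e0000c000a000e000b80048001e00010004800640038000f000a8002800080018000080028000e0001000c8002800280003000680044000e000100080003400180007000a000600026001a000700074002e000200008000c0024001e0000800180018001c000180008002c001c000c0003000260017000d800780022000e0009000540000001d00060005c001e000100080004000280001000f00068000a000a00028001800220007,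
0x14000d000480014001c00058005c0030000d00008006800140011000200014003400140009800680018001e000c80000000a0003000d80024000c000c000a000500000001500020006c000e0003000b8002c00000015000180044002c001900080005c0008000d000d8002800040013000200018001a0014000b800200030000e00090004000180002000600030000c000c000b80044000a001a00078006c0012000e000880024002c0013000180064001e0010000480040001e000000020005000100011000400038002a0006000c800700024000400090005c00300014000d00064002e001d0007000580004001600088001400080001000e8001c00000010000e000040008000a0007000740010000d0003800240016001e,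
0x10000700074003a0000000580000000c0007000900014001a0015000400070000a001b000480014002600080000800040002000400018004c001a00180005000680002000a000a800340000001a000a00058000200150003800600006000e000400030000a000e000e8007400320010000a000440018000100030002800000011000380000000e0007000900038000c000f0006000640032000c000c800580008001300050003c0026000400080006c0006000f0009800700028000f0001800180034001c000c800780030000800078006c0006000b000f00050001a000900058001400040006000e0002c0038000900000002c00200011000b000300006001e00048001c00020015000d800600010001b000d000440020000b,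
0x600080000400020012000a8006800080019000700040003a000c000e8000800120013000e0005c003a001000040005400160005000d80034001e0001000a800180000000500070005000160005000300050000c001d000d000240022000d00048001c001800140002800280004001100088005c0002001a000580060001a000a000680008000a0015000a000380022001a000b80040000c000300018006c000c00030003000600032001a000780040003c00090007800100004001a00000007800320018000e00078000e0014000e00048000e001a000e80040003c001a000a00064001c0012000200068003a000100060000c003c001e000b800240024000000080003c0026000d00078003800380002000e8002400280007,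
0x50004c000a0006000f0001800360013000e0006800320000000980070001a0018000a00010002e001c00088005c003c000b000500058000a0011000e8003c0002001b000d80034003600190006000580030001d000980038002400070002800740026001500050005c0038000d0004000540006000c00078005000200000000900030001600140002000540030000b000c8005400160014000e8002c0010000b00078001c000e0004000b800180036000e0004800600008000c00028001000240008000b0005c001e000c000a0000c00100003000c8002c0016001300020007800280017000e0004000220019000e000100002001d00060003c00300016000e80000001a000300020003400280001000f00038003c0016,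
0x1a00018003c00240012000d000400004001e000e00000002e001b00030005c0018000a000e0001000380007000e80000002e001e00048000800140019000c80044000c0019000c000780016001c000b800240030000f00050004400100013000f00020001e0000000d0000c000c000c000580064000c0019000f000740024001400020004c002a00170008000680024000e000880030000c001d0006800140034000d00050000400000018000c0000800040008000180048000a001300028000c0028001500008003000000008000280060001a0002000a80038002c001700038000c000a000200088004800360004000180024002c001000098004c0008001800088002c0006001100098002c00080014000300054000a0017,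
0x15000080060003c001c000e0001c0006000500000004c0018000c00020004000260012000b00040003c000700018004000200001000380060000600090003000080028001c000400014002e0009000600004001a0001000200024001a000c00008005c0038001000050001c002c0009000e000700002000d000700034000c0000000980030002c000b000c0005000120000000a80010000600020007000280018001800048002400300010000580028002800020007000640038001b000f000740028001200008001800060012000f00078000600060001800400036000300028000800320012000d000240018001a000880074003a001700010005800200006000d00014001c0012000980030002c000e000c0003800020013,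
0x1a0008800240018001a000100018001a0019000c00004001c0008000200030000c0006000b0005c00380010000700048001a000c00048007400080015000300060002a0012000b00008001000010003000580002000f000980064002c000d0008000000010000f00090000c00220012000580028000a000d0007800600008001200078006000300017000e00030001c000000090000c0026000700068000c000a001500068000c000a00020002000540008001c00008003000200010000200074002a001600028005c003a000c000900064001a0001000900010001c0006000b00008000e0003000e800700018001800018004000200007000d0003400220005000100034001a000c000780024002e0013000200048002a000a,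
0x7000d800340030000f000b00030001e001c000f000380022001600090004c00040011000000034002e0000000a8002000360006000400048000c001c000b8002000180011000e80074001000190000000580002001400040000c00040018000a8004c0024001a000d8006c001e0012000d000100004001d00010003000300002000780014002e001e000c80020001a001100008005c00300016000500060002c001500038003800060019000f00040002c0019000a00050002c0005000a0000400020015000c80070001400120001000200034001e000200064001200150005000180012001100088006c000400180001000280016001900060001800240015000200058002c0003000480050000000000003800600002001d,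
0x1a00090005c0030001200040002c0022000e000a00014000a001c00070006400360019000300050001e0015000280054002e000d0006800340014000e00010005c002e00150007000140018000700038005c000c0018000280010000e000800020005000120016000e8006400100017000d80044001600180002000280024001100038004c0020000d0009800380032001d0003000080010001000030006400060012000f00054002e000d000a000480032001600038006c0030000400058002c00380002000c8001400220013000e8000c0012001000050006400020011000a80024000e0008000c0000800260007000c800780012001a00018002c00280005000e0002000180006000f00058002c001d000b00010002a0013,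
0x150009800100012001200010004c001c000000010005000200008000580058003c001d0009000500010000000008006400260009000b8006c001600010007800480016001400028003400140017000f000140006000200058006c0008000c0009000200018000c000e000400024001600010004800100002000c0003400060004000300068003a00100006800200038000c000b80014000400040003000700024001a0006000480002000900078001800080011000d0000000360012000d80034002c0002000b8000000060019000a800180036000a000a8002400240009000c8000000140018000f000680002000900000001000040005000c0004c000c000f000680008002a0000000e8005400360012000b800540020001a,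
0xd000b80008002e0006000c8003800080013000580054003a000d000080048001c001a00070002c000c001d000800048002e001b00088006c0006001b0008000440022001700000005c001e0011000400040000a0014000400000003a0017000d80050002400000002800640034001b0004000380028001b000a0000c000a001e000b8001c001a0010000c8000c0014000700058006800180017000b80060001000110008000480028000d00090001c00220011000e800780028001e000b800140028001100020005c000e000e000b8007400040007000e00028002a00040007800280032001d00020004c0014000600048005c002000090004000780032000800008006c002a000f000980074002e0016000f000680008001b,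
0x50000000280004001400080002800020004000c80020002c000000080006c001e001a0004800140032001b000d0001c00200019000e0006c0032001c00090003c0036000700000003800000004000980000002a000c000d8006c00380014000b800200026001700010005800140013000d00038002c0007000a0000400060005000b8001c0032001b00068006c002400190002800740006000f0002800240034000200060003c0030000d000e800480006000b000000064001a0016000980070001a0015000a800480030000a00060006c00000018000080020003c0014000700004003800130008800740032001e000e000100002000200028002c00180002000880048000e001a00088003800300012000600064001e001b,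
0x1200050005c0034001e000b000180010001a000a0003800300009000e8000c0002000a000d000600016001c000d0002c002a001b000f0000400260013000c8003400060001000500060001600130004000600012001500030002c00340006000d0001c00160016000080010000c00040000800580010000c00048002400160007000380014000a000400090004c0022001e00030001800220005000480008002a0016000f0001c0000000d00038004c00000015000a00014003c00170004800480030000800088005800020016000a80018001a000e00008000c0028001b000b00054003c000800018007800080006000c000780036001400008001c0010000c000a8002c00060005000c0006c002e000a000d8001c003c0002,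
0x150006800440020000c000200038003c001e00078001c002a001900018002c0038001a0002800740016000900028003c0016001100020005c002600070001000580038000f000e000740030001800080002c003a0000000b000600032001a000000030000e0004000e0003800020014000b0004c000a00050001000240018001700028007000240006000e80050001e001300028004c00040000000f000100014000200078003c00000018000e80008002c0015000480050000c0003000e8000000200012000d0002c002a000a0009000380006000c0005800440006000b000880064001000180004000200030001800070002000080005000e80060000a0000000c000000030001d000580018002c000300028003c003c001b,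
0x30004800040010001a00030001000000014000e000300004000a000000030000a0017000a8003c0006001800038005000280003000b00004003a001a00088000800120012000800050001c00050001000500032000500040006c00180018000c8003c00120007000c0000c000e001b0006000040036001e000e80060002c000a00028005c001e00110009000380016001e000e80024000c00090005000240030001e00018005c00360012000580000001c001e000d000380012000d000e80060000e000f00038001c003c001d000a8002c001000190001000600030000a0001000100030001400088003000020000000c8002400280005000c0003c003a000800028005c002e000c0003800700022001000010006c0010000f,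
0x11000f0001c00380019000f0004400200010000e800740008000100050002800300008000200050000a0018000b000700012000d000800058001a000900008004c000c000f0008800600004000b000c000280002000c000a000140008001600018002400260017000a8005000200013000500038000c001d0007000440036000d000a00078000200110002800700026000b00090006000080018000b80020002a0013000b8000c0004001a0007800300038001c000700028000c0017000d8005800320000000500058002a0011000d8007000040010000700044000c0008000000068002a00190007800000038001d000380040000800180008800380016001a000b8001400340011000e0004c00280012000a0006c002c0008,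
0x9000080028001c0004000c80024000c00090001800240022001a0004000780008000d00070006c0018001d000d00060001a000f0001800400004000f000f0001c0022001300040005800360008000e80070003c0005000e0001800060015000400030003400120009800300036001a00068000c0032000b000e8004c00060013000f0000c003c00050009000580012000e000d80060000600000007000200004000b000280030000a000900058006800100008000400020002c0004000a0005000260018000a0007000300005000a8000000220017000800038002a0015000d000480020001c000f0003000200014000200028003c0000000e0005800020008000f0001c00280017000800034003a0005000f00014000e0006,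
0x5000780040002a0005000300064003a000200050000400100019000100018002200090008800240024000f000680050000a0001000d0005800360005000000064002a0002000f00070002c001900068003c0030000e000980078002600180006800400038001a0003800380032001c000d0000400140001000e00074003c0010000e8005c0008001d000c000780032000a00018000800260018000b000740026000900028003c00040013000580060000400190008800740014000a00088002000060003000780024002e0004000d8001800060014000e8003c002e0013000400074001e000000090000000000013000680050002a000300000000400240002000380078001600100004800200032000d000d8005800060004,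
0x9000380058000e0019000f00034000800060008000580006000c000a8004000040012000880028002c000e00058007400120002000a80058001c000b000880070000c00090001800540016001c00018001c0002001200098003c000600110002800100012000f000600070001c0015000100004000e000100050001c001c0005000d0002400100002000700068003600060008800080018000000060000c000800060003000740006001a000080044003c000b0008800700034000b00018003000120008000600014002400050007800280020000c00070004c000a0019000e000680000000900070005c00080005000800024001e0018000a000280028001600068004000100002000b00000003c001b000d0005c00020004,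
0x12000b000700034001a000880070002a0008000300048003c000400090005c001a000c000e0006c002a00040008000040006000e000b800140014001600080001800060000000c80048001c0014000f00010001c000e000c000080008001e0008800480022000e00038007400360016000f0005000260000000980074000c001600008002c00080005000700010002c000100020006000340007000c0003400300015000100044003c0009000a0001c00120016000180050002a000300090002c00360015000080028001000030009800100018000b000c000180008001b000080078001a0003000c80048002e000b00068006c000e0005000c00000001e000c00068004c002a00140002800200000000c00058003800300006,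
0x3000d800600038001900080001000320006000d000680018000d000400000002200030007000040006001300028003c002c00080007800500024000300078001c0024000e000f0005c00380016000a800080000000c000c000500030000e000d000740024000f000880018002400000002000640030000a0007800240012000d00058002c0020000000058006c00100007000d0000c0036000e000880004000a001a0005000440010001e000f0004800380012000780064000800180002800380004001500018001c002c0009000c0000800060012000c000100010001d000600020002a001c000a0000c00220000000600014003a0010000680018001e001e0001800500034000f000e8005400260006000e00000000c0005,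
0x1100048004c0026000f0003000200002000100018001000000011000b800380014000e000b8002c00280009000c800580004000d0005800600030000d000a00060000a001a0005800280024001200008001000360017000c800700018001c00080001400220001000c00004002e00010003000740032001700060006c000c000800088000c0012001d00080000c001c0015000b8001400120017000700050001e00110001000280018001e0002800500018000d0000800180018000000038001400000000000380008003c00000005000580022000d000180060001a001e0007000300000001c000e000380012000d000e000740008001a000c0002c001c0010000c80054000c0018000480000001a0004000a00060003c0005,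
0x140007000380034001d00040006c000c001c000780048001c00050004000100000000a0000800340028000700058004c0012000c00088003c002e0014000100054001e001900080001c0028000e00030002800160014000900018002c00140006000100002000900088001c00080006000300070002c000e00008003c0028001200068002c003a001d0004000540016001d00048005c00060011000e000380020000a000e0000c00140011000080008003a001a00008001c001c000800088000c003c001d00090005c0026000d000180018002c0002000d00030003c00140009000400018000000028003c002e000b0006800600026001e000000054001a0015000200048003800160002000280038000700038000000140013,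
0xb000100008002c0011000a0004c000a000d0006000140008000a000a8001400200004000c8001c0004000b000a800080000000e000800004000c00080001800140038000f000400038001e001d000700040001c0006000c0006c0012000f00040002c002c001e0002000600014000b000380078002c0019000b800500032001b000d80014000c001a000d800640010001e000f00010003c001000058001800080003000e8005c000c000900098003800300014000c0002800280015000800018000e000a000280030002a000a000080020001800100008800580030001a000a00058001e00120006800380000000600030002400120011000c000580010000e000d8000c000e001800010004c0024001e000f0002400200008,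
0x1c000680024001400150001000080030000800090001400340004000a8003c000200080009000640036000a00040000c0030001d000380008003a001a00068001c000a000900030004c0000000f00030005c0020000d000180030003c0006000a8003400220015000b8001c0010001600038007000080006000480024000200090000000600014000200030003c002a001a0002800440026000600058002c00360013000c0001000040001000680054001c000e00050004400120014000500008002800140002800480028001a000900000001e000200020001400180006000a0006c002a000500098003800020014000900024001e0009000100030000c00080004800240038000d0005000080018001800058000c001c0006,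
0x19000b0001c0038000b000980048002e0017000b800540008000f000600060002c001c000e8001c002c000100020005c002e0012000100064003a0005000a00004001c0019000e0002c00320009000c8002400380001000d0005c002e0017000280014003c000a000f000600038001c0006800400030000b000e00060002e0005000400078000c00180001000400008000c000e00060002600120000000140018001b000e80060002c0016000580030000a0015000e00004002e0010000800078003600140004800480030001400080003c00160009000d80060001a0006000480014000800120009800100020001a000a8004c00380014000b80028001a001100028003c0002000000030001000240011000000050001e000d,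
0x7000500054002e0007000e0005c001000150002000580034000e000d0001c000400120000800340012001e000780038003a0008000c80030003c000000088003c0006001000088002c002c0007000f000200036001300060002800100010000a800440014001700048007400280019000a80010003a0001000b0002c0014001d0000800180008001b00070001000140001000800030001e000c000b80014003c001c00030000c002a001300048002c00160002000b00040002c0012000400040003a000c000a000140004000900028004000180002000780064002a000f0004800700002000c000780070001200180005000080014000a000b8004000140011000b8001800280012000680064000e00030003800140022000c,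
0xe000e0004c00000010000b8002c003a00070007800640016001c000880058002200150003000540012001a000c800480008000f000b800080010001c0007800140004000d00000006800100013000e00000001c0013000c8001800340002000e80058000e0011000980010001c001b0007800700032000300088004c00380001000b800580030001200058006000340018000a8000c00260004000d000380022000c000c8002c000000020004000700010001a000b80074000c000e00098002400020004000e0001400260000000e8005c000a000100058005000220014000d0000c00220014000b0006c003c0003000b00024001e0004000c000440016000300050006c003c0002000b80050002800030009000600022000c,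
0x2000700018003c000b000e0002400360007000600000000c0012000d8004800120006000b80070003c0016000f0006c00060005000b0005800240015000f00008003c0005000e0006c000c00180008000040010001b00070006c000c0014000180010000000150007000300016000900070000400020014000900028000e0015000c0007400120012000880048002e000000090005c0014000100060002000260006000200004000e000c000d0000c002a0017000600058000c001d000a800600038001e000700008003c001a000e0003400360006000280008002c001000040003c0026000700058006c0032000b000980034000a000e000e000100038000f000a00040000a0015000580020001a000c00028003c00160016,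
0x1600048006000180003000c8003c0000001b00070000000140011000a800180032000a00020003800240019000c8003800220015000a0004000060001000900018002e0015000900074000e00130005000480002000a000f00014000a0012000580048003a00030009800140022001e00088000c001c001d000b0005c002e0003000200024003c000f00098002c001a00020005800100004000700068000400380005000a00030002e000000090002c00000009000d8004c003000030001800040024001a0006800340036000700008005000020011000c80020001400170002800480010000f000300028000a001000030006800340017000400014001e0014000e0007800140000000d0006c0026000700060001400180009,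
0x1600070001c0004000e00018006c0030001a0000000200022001a00040002c003c000500058004c00020013000a0006c003800170004000340018001b000e80004001400150000800300004000500088004000080000000980004001a0005000b00058000e0008000c0001c002a0008000e8000c00140006000580064002200000006000040026001200080004000140011000400034000e0015000a800540014000f000480010000e000000068001400080017000400028001600170000000240030000c000900034000a0000000d80050001c0010000800054001e001100020000c00120003000180044003400150001800580038000f000b80050000c0016000a8005c00120008000e0000400180015000280008001e0013,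
0x10006800540024000b000b8002c000c00000003000700028001e000380024001c000d00098001c0028001600058002c0016000e000c000400016001000098000c0000001900058001800000010000d8004c002c001e000b80070002c0011000b00050002c001e00048005000160015000e8001c0036000800050003000040000000e800140016001d000800070000c0003000b00014003a001c00080004400060000000e00054003a000f000c8001000100018000e00068002c001b0004000280032000000040001400320005000e8000000020016000e0006c000800150002800200034001a000b0001000340017000f0002800180008000e00060000200130000800340036000f00028000000100017000b0005c003a0010,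
0xb000a000080030001b00080004c0014001100048000800060001000900018002e000b00038002c0032001c000a00000001a00090005800100002001c000000078001e000f0002000380014000d00008002c00040015000c8007400080017000300048002c0016000a00028003c0013000d0004c001e000d000a00030001e001400040000c001c0001000b8007000260003000700060001c0016000a8003000260004000b000600000000800028001c00280019000a8006c001000100001000240038000600058006000060014000e0007400140001000a8001c00180014000b800000022000c0009800200010001b000b800340028001e000f0006400220006000700014001a000f000080010000e001300028006c00040003,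
0x7000d80000001c000700068006c001a000c000a80010001c001b000d8000c0018001c000c8006c0008001900000005000200019000c8000800080010000c800440004000500008006000380017000a000340022001100088005400380018000d0005400040003000680068001000160007000640010001700038005c002a00190006800080024001d00080002c003800070000800040024000a0001000300036001a000f000540026000e000a800100014000500020002800080005000d00050003c0017000100060001c0017000d80064002e00000004800140006000400030003c00120016000e8004c0020001c0001000780006001800030002000140015000f0004000240013000180040003600070005000140020001e,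
0x1a0005000380028001100010003c0016000000028003c0010001d000e0006c0010001c000580008003a000c000b00068002e000500038002c002c000300060000800200019000080064000a0018000980068000a0005000080030003c0019000e80054001c000f000a000300024000a000f00060000a000c000d0003000160008000d00008002600130009800440022000b00090007400300001000a80034002a001e000900004003c0015000700050003200180001000200026000d000600070003a001d000d000500038001e00080004400120000000b000080030001a000d0005800060013000b0001800100006000a8000c0016001700068001c000200120007000580038001d00078002c001e000a000080050003c0012,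
0x19000c80044002c0011000180010003a0012000500050002e000b00070004c0012000c000000030000a000b00010004c0038001b000780078003a001400048002c0008001d000880058001000100005800540022000a0007800280016001600038006800260017000e8006000160018000d00014000c0004000500010001a0010000d000300016000e0007800240018000c000c0003c0024000f00000006800360011000980038002e00000000800500022000500040001800240017000d000040002001d000600010000a0004000680054003a000d00048004c0002001e000c800140022001d000380004001800070002800080002000d000b8003c003c00180003000380008000d0008000000032001200008003c0004001d,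
0x1a000c0003800240004000b800240012000a00058006c0034001000098001c000c0003000600040002000050009000580022000a000b00018002a0019000a000540006000c000e00034003c000f000e80058002400090002800040016001e000d80064000c001000080001c00360002000b8001c0036000b000e80070002a000a00068004c000a00130003800700002000400040002c0006000b00038005c00140002000c80028002c000d00000003800000003000f00028000e0007000100040003a000e00000001800160009000a0005400120009000b000680036001b000d80034002c001d00020001800300005000c0000c000e0019000c8004400220002000500054002400130007800140006000b000600010000e0005,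
0x1600078001c002e0011000c000700010001200000004400000008000780034000a0004000e0003c001a000e000000058003a0013000000070001a00050009000500010000200080002800060004000500018001c0019000500070002600030007800400010000d00098003000320005000a00004003a0003000d8000c000c0005000e8006c002e001c00078005400380018000d00014000200050009800140028000f000f0003800320017000f00034001a001900070004000080005000f000480014000600048001c00380000000f000380016000700030004c0000000c000b000140016000b00068003000260006000e000000008001300038003c0020001e000c0003000080006000380020000c0000000380024001a001e,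
0xd000f0006800260010000b8004400280018000b00078001a0007000e00074002a000c000e00058002e000800040000400240000000f00020003200140009000780038001600078005c0022000e00058004400200019000e00004001a001200008004400060015000d80038001000130000800200026000700038003c0016000d000c80070002e0008000880024003a000b00018005000300010000d80070000c0014000e80014003200050009800500000001300068000c00220013000e0002c0032001d00060002c0022001a000b00074000e001a000e0006c002400010007000300000001b000080014001e000200018005c000a0019000c80010001600060000800440036000200020007800100018000b800400020000d,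
0x6000c800180032000400030004c002c000f000c8003c002a00010006000600036001e000f0000c00080008000c000600010000a000480060002e00070001000780030000f000c8006c002e00060000800000008001c000b000080012000f000b8003800020017000700060002e00080009000700004000800088005400280005000d00048000e001b000c000340002001c0005000400004000f000d800740034000500090002400200008000780024000200020007800180006001a00078003800060009000380064001c001b0007000340008000e000e0005000240014000d800100034001a0007000380016001e00038001800240008000300010000a001c000780068001e0000000480070001e0013000d000500018001d,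
0x90002800400016000b000c0000c000c0000000280040001400100000000180008001e00048005c00200009000b80048003c0015000b8003c0012000800020005000220015000e00004003c000b000780050001c001a00098002c00200000000c00024002200090006000740024000f00050005c000600140007000340004000a000f00038002a000e000480070003a0018000e0006800300006000800024000a001c00080004c002e00130007000000026001c00090004400020014000b80068001c001c000d8002400000006000b80068001a00000003800600000000c0004000000024000c00000004c00380004000080008002a000f0008800180024000900058006000340013000900004001c001e00080004c00260008,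
0x12000d0000c00120008000600050001e0014000e8003800060013000a000300024000f000a0001800240004000b00054001e00090006000600020001b000a000340030001d000900030000200020005800440036001e000700064001e0004000b000000016001900028002c001a000f000e0003000220003000680064001a000100068000000140001000c000080016001500018005c002c00120004000240016000900080006400020007000f000040008000e000e80038002c0006000080060002a0012000180008000600120004800340000001800078006c0028000d0008800340014001100018005c0028001600050000800380004000780014003a0007000b800500014001d00040002c002e001d000d8001c003a0012,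
0x200028002c000a001e000a8002c0006000e000e0002400140015000000044000c0019000a8005400320012000300040003400160007000500034001800060004400160004000400018002c000800030003c001c0017000800040000c00100004000180038000e0000800340006001e000b0006c0032001000090001800040016000980044001c0017000c80058000c001800048005c00260013000500064003400170004800300034000d000e800540036000c0001800400016000c00058001800120000000e0000400040005000400018002e0013000300058003c001300078006c001a0012000b0002000220015000780038002a0003000d800200026000a000e8000c00040007000e0006000060010000d8001000240014,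
0xa000f00040002a0004000080018003a0002000a8002c002e0008000c000100014000a000400024003c0003000b00040001c001200018002400160000000a000680010000800020003c002c001b00088003c002c000f0008800100020001b00008005c0002001c000e00018001c00190006000600026000b00068001c002a0011000b0005400180018000700024000e0017000680008003c001e000a8003c0028001d00000004c00100014000700078000a0013000e00078003c000b00068004c0022000b0007000180024001a0009800740000001c0006800700038001b000f0001c0036000d000f000040032000d0004800700032001a000b0000c0022000d000c8004800340015000700014001c000a000d00044000c0002,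
0x300028000800380013000580054003200040002000180036000400038000000120000000a8000c00060015000000024001a0017000f00068000a000a000b0003c0022000f000080060000c0013000080024002600110009800480008000700038006000000003000b0007000120019000a8002c003c000a00078003c0002000600030000c00120017000700054001a0003000300034001e00000009000700032001c000180030002a0001000e00068002a0007000c8004c00060007000a00074001a0006000a8002000320014000e0003c0000000100058001c003400170002800500000001c00028002c001e0019000e8002c0010000e000c0002000180010000b80018000e000e000c8005c000a0008000780048002c001b,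
0x12000c0001400260017000c80040001a000c00048004c003c000b000a0003000060013000c0005000380006000d80028001a0017000200050000c000e0008800640016000f000e000200018000b000c0000000080018000f00028002e0014000b80014000e000d00020003c0030001100098001800100008000d0005800060007000580048003a001200020002400340006000c80048003a000e000d000280014001800070000c0016001a000e00028003a001e00078006000360008000b0003c003c00170009800480014001d000800030002800040003000680004000e000500068000e0019000a8005400120014000b0001c000a00130005000480024001e00028005c0028000c000c80064002c0004000600008003a0018,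
0x1d000a80000002a0011000a000700008000a0005000080016000a000280074000a0016000680034000a001a000f0006000060002000e80024003600110002000500000000e0007800500032000000078000800160003000580070000c001400088005c00180007000480038003c00170008800780008000500038004c002a0003000300030003c0016000680044001e0009000080044002a000a00090003000360008000780014000e0004000d000000004000e0001000400030000c000c0001800180000000100048002a001e000a800300014000b000400044003c000b0003000500022001500010006400240007000e8004400060019000e000140032000f00078004c003c0010000600044001a0017000a00068003a0006,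
0xb0004800000014000a000700004002e001c00010000c00000007000d0003000200013000780044000a0012000c8004400220006000f0002000280009000380078002000170005800000020001a000600024000c00060009000000012001d000a8000000360017000c000080010001b000d800300002001a000f0007000200016000a8004c001a0004000c800740010001b000000008003400100009000240000000c000180010002a00120003800500030000e000a8000800100011000300068001c0002000400048002a000d000e800180008000f00048001400340003000580074002a001e00010003c002c00190008000580026001a000f000180036000b0002000240022000a0005000140032001a000d00020001e000f]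

/-- packed matrix of `R 24` -/
def lit24 : ℕ := Cfsg.Agent.Lib.PackMatGroup.asm 2261 [
0x1600070003c002800190001800580036000000008001c002200110004800280030000e00048003000060002000280060001e0005000080014003a0016000100028001a00070006000740038000e000a800000026001a000c800080006000c000a0002c003a0001000b0003c0024001c00028004000380000000e8000000220009000080074003c00010006800100006001c0008800140010001e000f0000c00120012,
0xc00038006c0016001400010003c002e0000000d0002400020004000b800640016001500030005000060015000100020002a000200038002000000016000580038001e000100020000c00300001000a000680010001e000d8000400340002000c800300014001c0006800380006001e0002800400012001e00050004c0020000500068003c003000080002800700028000100000004c002a0015000000008002c001e,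
0x1d00030006c00300003000d00018002e00150000000500026000f000e000300030000f000c0007000040007000b000500012001e000080040001e000d0001800780022001d0003000180004000e000200010001c0013000c00078002a0015000700078003c000b000f000280028001500010003800060011000e0005c00380002000c8006800180017000880020001a0019000b0007800240011000100008001e0019,
0x11000e80004001c000200040007800340014000380074003600080005800280030001900048000c00360011000680038001a000500098000c0000000b000b00068003c0014000180040001c001500020005400040015000480044003c0008000f0004c00240002000a0006400140007000480074001e0003000b00020003800130008800740018000b000b80028002c0002000d0006400040008000a8007800140001,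
0x14000e00008003c001a000d8001c002a000c000c0003800240006000480008002a000d000700038002e0003000d0003c0004000d000a0003800240013000b80070000a0002000d800440002000a0007800380030001e000c8006800020003000e00068002e0003000500058001c0014000e0000c00160001000e80058001a0004000a00014000c001000098000c003400010006000700036001100090005000140000,
0x300000007800100000000a8001c003600030001800000012000f0006800580028001d00048002800360005000780078001800080006800600014000800070005c002e000800048001c0018000300090002c0010000200078002c0024001100070003000300006000a00050000c001c0005800280008001700070000400240003000980020002c0019000b8004c003400080007800240018000900050003c00320009,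
0x110003800300024001300020001c0002000d0000000500004001e00018005400000001000d00010003c001a000a00030000c001b000a0000800260009000b000000028001e000400040001a000e000c0002c0018001300070004c001e001600098004800280015000d800000010000800090003c000a000100038002000280019000e800600024001a0000000400026000c00050002c0026000e0003000300004000d,
0x18000480054001e0019000e000480002000a000c800440018001e000900050001200160004000680030001a0008000200012000a000e0002c0002000c0009000140008001b000b80004003a0010000500074000000010001000380030000a000c00064000e000a000300024002e0007000c00058002a001d00088004c0032001100018004c00020002000000004000a0011000e80038002e000500090005000120017,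
0x1d000900044003c0006000b80058000a0002000800078000a001c00050004c0012001c000e00078003200080004000380036000a000080008003a001d00050006c002c000700008005c001c001b0007800200022000f0008800480014000b000c0003800080012000b0001c001200010007800040000001300048003c00080018000c0003800060013000000028002c00150004800540022000c0009000380004000b,
0x1e00010003c0004001a000e8006800000008000a000040004000700098001c00060005000580050002c0014000500004002a0005000a00014002c001e00020000c0000000c0008000280006000c000b8007400180008000a0006c003a0011000a800540020001a000c00024003c001700050002000200016000a800400000000300098000c0012000600020006400220016000f00048000e0007000f0005c0008000a,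
0x16000a800700032001e000c80048001a001b0003800540032001b000800048001a0003000c0006c001800070009000480028000c000a000540024001700028002c0038000700078001c00240010000880038002c0016000c00004001c0015000080004000e0013000b0002c00220011000c0007400100011000600000002a0004000b00054000c0005000400004003a000c0003800300028001b000100070001a001a,
0x500030000c0018000200048003400320008000b00044001000020009800600016000900080006c00200007000000074003a001b0007000500018000f0005000640028000300058002c0038001e000480070002800140000000640018000b000e8000800100003000980074002a0000000b000540036000400070001c002a001400050001c002200080000800380038000d000a000580008001e00088001000220013,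
0x5000c80050001600140000800380016001300028005c00360017000b800280030000200028003800200009000080050002c001800080001c00320009000f00038001200000004800280018000b00020001000040016000500050002e001100088005c002000140001800480004001b00018003000060003000380024001a000d000b80030002600090008000700032001c000a80070003a001600028003800160005,
0x1400028005800040010000e800180000001c00090000400260011000d800480012000700080001c000a000e000000018001a001e000d0001800280014000e000540020000500070000000040014000080030001e001200020002000380014000c800700030000a000800040002a0006000a80028001800150002000200012000c000a0003800380002000c80038001600000002000340028000b0000000100024000d,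
0x10000100068000a0002000b000340036000c000380058000400170008800500006001400098000c0032000e0009800040022001a0004800280020001b000780000002e0010000d80068000c000400030000c001c0008000d80010000a0004000500018001a001100090001c003c0009000c000400020001e00060004c0012000800038005800320019000380014000800080007000440008001d000900020001c0016,
0x19000e800640034001600028002000120003000180018002c0004000e800200030001100010007800100004000100074001a001e000680000001c0003000180024002a0013000c000480016000a000500034002a001b000f0006000120018000a000200026001a000500074001c0002000f00010002000120000800400000000a000780044001600140001000640030001e0006800180038001a00028003c002a0007,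
0xb000400050003a0003000800004000e001e000b0005400200013000580014003a0015000980048002a00120008000240004000b00028005c0014001e000f00078003800100003000340020001a000b0005c001a0018000380024002e00180000000580026001a0005000500028001b000480040002c000100098001400320004000880074001e000d00040007000360002000f0001c003c001700018007800160012,
0x6000480070002a000300008002c001400110009000200020000a00020007800100010000a0007000040000000c8006c0038000400060004000040019000b8001c001c001d000000000000c001c000c0006c003000020008800080022000000050001c00080005000b8001c00040009000b0006c002c0001000280024001800120003800280004001100050006c0018000d000d000180030000a000e0007400020019,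
0x1800040001c000a000f0000800400008001c000d00008001e001b00008002400340014000f0003400320000000300008000a00180001000740038001b000b000240004000f00038000c001e000f000300034001400040008800140008001500050005c000c0013000a00040000200150000000480036000a0004800300020000a000100070000c00150000000000038001d0006000000038000300098004c000c000e,
0xf00000002c002a001a0000000580018000a000f000500034000400090003000120012000a8002c000c0013000d8006c001600080009000600004001b000500068001e000e000500078000800050007800400012000d000c0002000340004000c800740012001a000d80024000c00090003800480036000c000b800580026001b0008000740034000c00038006000260013000d00044002a00090003000680032001d,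
0x1d0007000100018001b000900074003800000006800500024000700010001c002e001d00098003c00220009000280008000c0001000d80044003a001d000300028002a00130004000140038000b00030006c0022000200010000c0036001800060003c001c000c000e00038000c0014000d000040032000e00018001400260009000e800780016000b0004000040022000600018001c0038000700028007000240016,
0x12000680024000e001500000006c00260007000c80014003a000c0009800340012001700018005400360019000400020002e0006000c800680018001e00030000400320016000c8003c002a000f000d800740020000b0009000180014001100088004c00040015000e000040024001e00090003c000a0013000100078000e0012000d0007800080018000f000400016000000080003c002400000002800380028000f,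
0x1d000280000000a001c000a8003400300013000f00074003c001000070001c00100011000d000340022000f000480074000a00020009000200016000d0000800140034001a000a800580010000a000280068002a0005000e000200004001a000280004002e000b000d8001c0006000c000480008002c001100000004000200007000a000740024001b00020004c003c0012000b8003c0002000f00000004800040017,
0x100004001e000b000680078000200080003000500030000e000700050001a001300088006c0028000e000c800740008001600068003800280009000800018002c000f0006800340028000a000b0007400360002000280044001c000a0006000100000001a000880010003600150000800780014000d00060005400160017000c000340010000e0009800000026000a00088006000280016000c0001c00180010,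
0x1600058005800380019000380038001e001c0008000580010001e000c8000800060007000500028000e001600098004400140001000f00074003a001e000e000480026001e000a800500016001a000e8005800060008000e0004c0002000d00080004c0006000700020003c00060008000100018000a0003000a8000800160007000580014001200030001000700016001b000c80030001600140007000780014000c,
0x100098004c00240005000b000380030000400000006c000a000600058005400280010000d8001800100019000d80008003c000600028002400160005000700014001a000b00050001c002a0006000d0002000220000000b000680032001000000005c003c0015000b0000c003200060005000500006001c00058005c003800150002800640012001b000d800440034000c00000005c0002001600000003c00260012,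
0x100060000c0000000c000c000640030001600090000800140013000b00018002400190005000000020001d000a8006c002200020008000680034001000018005400200011000d800580000001a000d800180034000f000100030001e001100060001c0000001c000a00074001e0004000a00040003c001100020006c0032000600040001c002a000a0001800700008000c0005800540016000b00058003800140019,
0x500010004000380008000c0004c001c000b000580058000800070006800540020000c0008800480010000e0000800540010001900018000c00120016000f00050002600160001000480038000600030002c0010000800050007000120012000c800540010000c000d000100030001a00080004c0012000100038005c0038001a000b00060003c0019000d0004c000c00030004000600024001a000f0005400040002,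
0x4000600004001e001d00098004c001e001a0006800400024000500008003c001e0002000a0006c0032001000038005800260007000900068002a000000040004c0038001e00060000c000a0019000180000003c001d00068007800280000000f00010002e0002000e8004c001400070000000600030000b000b0002800160018000d000340034001500088004400020002000380020001c0006000880070001c001a,
0x11000c0005000100012000800034000c0017000700038003a000f0007800180006000300040003c0024001600030006c0016000f000c0002000280012000d000500024000c0005000400022001c00008000c002a0010000c8000800380015000880068000a0007000400060002e000900068002c0014000c000a00074003c001e000c80058000c0004000000018002c001600060002c003a0010000e8003c00160000,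
0x100001000500018001a000c00004002a0007000c800000022001c00040004000060014000000030003a00080007000340030001700088002c001a000e000000034002c0010000780018003a00130001000300010000c000300064003a0015000c8006c00360019000d0002000220014000c0006c00360005000a80064003400140005800440012000700000000000200018000300010000e001c00060002000020016,
0xd0005800100038001100080005c00100006000180024003c000b000a8006c000c0008000a800500026001c000d80000002000090009000380036000c000600064001a001d00028000c0020000d0006000180016001b00040002000360017000d80034002e0017000180020003a000e0005000540002001d00090004400140009000d8003800140002000b800700030000b0004800440024000800028001800300009,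
0x16000580030001c000c000800060002200070002800700038000e000280020002c0004000c8003c003a000d000a800040000000e00008003c00140010000d8006c0038000e000380030001000170003800180008000500008007800200019000d8000400280002000d80000002e001100000006c00160004000d000740006001e000680004000e0017000380038000a0000000e80064000a001700010001c0016000b,
0xb000b8005000080019000e80038000c0015000600070003a0009000c800680028001300000004c000e0015000d8006400380006000c00010002e0006000580060002c0000000b8002000140019000e8006000080016000b800380018001c000d80070002c0013000a8000800200015000a80064002c00050002000480006000c000c80050002e00050004800200030001100048005800180008000600004000a0010,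
0x1a00010005c001e000900000003c0018001d000d8004c00180017000b00054000200050002800540026001c000b800200036001800038001c00260006000180030003c0016000d00028001a000a000e00060001a0017000b8004800120019000400044002e00190006800440018001000040005c003c00020004000240036001c00098004000000014000a000500030000400098006400160018000e0004400100000,
0x6000b80024002a000a000480008003a001a000d000000028001d00010001c0028000c000d80054000a0006000400060000a0012000a800440034000e000080074001600140005000400018000100010005c000800140004000700012000e0009000080038000b0008000280028001b0004000540036000c0004000480020000c00010002c001a0008000c0001c0006001b0008000580020000700060004800280012,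
0x1a000200008002c0004000d80014001a0009000c8003c00080004000a80040000e0008000a000380032001e00020000c00320011000e00058001000170004800580018001c000d000780008000500070002c001600060000800600034001b000c00074003a001d000880000001e000b000e800700004000d0007000780004001b000f0006c00380004000880060000c00010008000280030001e000d000540034000b,
0x15000600038003a000b000300020002a000400070006c002c000100088007000200000000a8001800000007000d8006c003a00020003800780016000600048003c002800040003000080010001200058005800260009000a0004c0014000a00050004c0028000e0005000500038001800058001400080004000f00044002000150003800600024001b000800020000800110005000200012001500028000800300015,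
0x170005000700020001a00078003c002e0006000680034000e0001000c0004c0024000c000800010002000160001800680006000c000c0004400360000000c8005c0034001c000f000380026000a000200028001a0005000e00034001a001800038001c002c0000000e8006c002a001d00050001c001400130005000740018001e0008000480020001e000a00010000c0003000b80020001e000e000b8003800120018,
0x1b00030005400340006000080070003000030007800580018000b000a800340006001200090006800100017000b0004000020010000380040000c001000038001c003c000d000d0007000380014000780058001c0015000080060002e001b000f0006c00280007000b0000c0026000f0009000280012001b0003800580032000200020002400040008000f000540006000f000780068003a00050006800400004000f,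
0x1500018004c003a0017000800020000a000400098000400380012000880018002a0011000580028002e000200000002c0030001a00048000c001a0009000c8003c00320009000800030002c000000090000800200000000c00028002a0012000c800400006000300068006c0006000d00020001000180008000a800240004001600000000c003a0014000c8006c00320006000f00058003a0002000a8000000220016,
0x4000a000480032001b000380058003c0018000e8005c0006001b00030004c00340017000400078000200020002800600000000700050006c0038001e000580060003a0005000e80058001a000700018001400360011000a8001000360007000f0005c00120001000100010003a000a000880078000000000006800140034001d000800018001a0004000e0002c003a0018000d00030000a0013000a000300022001c,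
0xb00080000000140007000c8003c00200008000b80014000a001b00008001c00120018000d8006c000a001b00090004c002c0015000980024002e0008000400078001e00060006800080024001b0004800780010000f000c0005c003c00150009000680038000b00058000c000c000900088000c0038001c00030002800120006000080020000e0013000400078002e001b000a000500034001c000600020003a000a,
0x16000c80024000c000200030002000020003000580030003a000a00060000c0012000f000180030000a001c00078001c0032001800090002400260006000000048001600070006800740032001300060002400300011000b800080008000e000700028003a001d00030005c0024000e00000001800080011000f00044000a00030009800740028001500070003c002e00030002800080026001e000400074003a0014,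
0x12000400020002a001e0009800740024001d00098006c0024000b000c80054001e000400070002c000600080000000380024000c000b0001c003c001c000700010002c000f000e00070002e0017000180000003c0001000680068001200060002000200024000100088005400120008000180030002800100009800540038000a00020003800340003000d800300020001e000600020000e001200088007000000014,
0x1a000a800740028000c000200040003a0003000b0005c002e0000000800030002c0002000a000140010000a000d80038002a0016000080024000a001600050007800340004000800010003a000500070001c0038000f00028003c000a0002000680048003a001a000900010001a0009000080060003c000600098002000140013000700054003c001a00018003c0012001000070002c00280007000e8007400040009,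
0x11000a000780034000f000c800280016000f00028004c0020001e00008005c00120011000300040001e0018000e80020003a00060000000080026000e0002000580038001200018005400100016000b800780012001300080005c0036000e00060006c00180003000b00030001e000200050003800020019000200010000e001900000003c00180002000c0004c0026001c000e0005000280015000680070002a0017,
0x11000b0005c00360016000580068000a0011000100020001a0008000d0005c0030001b000a8000c00040016000e0000c002a0009000780064002e000c000d00064001c001e0006800300022000e00098006c00340013000e000240026001b0005000600028000a00050003800140004000700050003400150009000240008001100008001400080018000e00060001c000300010004400040011000c0004000300004,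
0xb0007000100022000a000780058000c00160004800480020001a00068003800320013000e8006c00220012000180040002e0017000f000240024001400088006400340005000a80058003a000700028006800060010000e80000000c00090002000500014000000060002800160004000700000001a001700090004000020006000580004000000180001800680026001c000a000240008000d000b8007400200008,
0x19000a0005c000e0010000c800780010000f0000800180004001e00090003c00240016000500020003a001000040004400260002000280024002e0004000b0005800100017000c8005800100009000680038000a001e0009800100038000a0001800740024000c000980010003c0014000a80004001c001600070002c00140007000b8002800120004000b80034002a0002000b000280018001d00078006c0002000b,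
0x1a00008001400100017000d00040000c001b0003000000028001c0001800040002000000060007400020009000e000140018000a000780010003a001a00058003800280007000780068001a0007000d800600032000600020000400300018000d800240030001d00058005c000a0007000a00020003a000600060006400320000000a0005c002e001c00078004c001e001d0009000340022001b00098005000060005,
0x1a000700048001e001500028005000100016000a800400020001b0004000780018000400068003c001200150008800780012001600068007400140017000980058001a000c00048000800120017000b8004c001e000a000d80070001e000500088007000080019000a800580032000e000e0006c0018001200048003800160004000e0006400320017000a00048001a00100006800040004000c00030000000260005,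
0x17000a800380024000900080001800020000000700030000e000b00088003c001a001d000100030002a000f00050002c0030000c00058007000140006000d8005800320015000480018003c000f000a80010002c000d00008003c00000005000e000100036001a000d00000001a0012000a80060002a00170009800040034001d0007000380038001900020004400140004000a0003000260017000a0000c00320008,
0x1300048000400220005000b8004400360011000d0003c002e000b000c00068000a001400050004c0020000900088006c00060008000e8004c000e0003000680004001a0001000e00004001c000d0001000540030000e00058001c001e000800040001800340001000400018000c0009000380050000a0009000d00050002e0007000a000180030000e0002000500020001900090002c001e001100050006c002a001a,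
0xa00010006400140006000d0006c003a000b00040000c003a001d000a0003c00200018000d80028000c0009000f00064000c000b000980014002a0008000b8006400040017000d80048000a001e0001000380010001d0000800080022000c0003000680024001100070004000060005000b00060002e000900060000c001c0019000d0000400340010000a8002c0002000800010003c0006000000000002c00260014,
0x4000d0004c002a00020000000340036001e00090001c000a000900050004c0038001e000f0002000000018000a00064002c000600068005400240007000480004000c000f00018002400280006000500010000a00080009000700038001e000a00038001a001b00068003800040002000e8000800020006000d000380028000f00090004c0028001a00060003c0032000c00030006c002a001400020003c001a0009,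
0xa000e000040000000900020002800100007000d800240018001a000d8003c00160013000a000040018001300080003c0002001a0003000240028001100040002800180002000100078002c001b0001000200010001b000d00054001e0008000d8004c000400120002000100002000100080000c0016000a0008000040030001300040004000120006000b000300014001d000c00018001800100006000140024000f,
0xe0007800140024001a000b00004000a0010000200044003c001e00050003800160014000700004000c001c00048002c003600190007000080036000b00098005c00120001000a00038001e001900090002c0008001e000d800200012001600010004c0034001b00090006c0036001d00020002800240015000a800000030000300058005000000005000f00038002200110008800400020000b000480028000c0011,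
0x700018005c00060009000700044001a00100001000480012000300070006000380007000900050000e0017000e80060002a001d000680040002a000800090005c001e001a0001000740036001b00080004000160016000880060003a0000000900018002e000a00080006c002e00110002000140022001900078006c002c0011000b000500034000500098005c000e001b00020006400280008000d8006c00100008,
0xf000e000740020001b0003800540038000d000a00054003c001000050000c0028001e000e800000034001c000300044002e001a0007800080002000c000c0001000280013000b8005c002a0012000a0006000360009000a8005c003000030001000700014000f00018004c00280019000c000440026000b000680024000c0010000e8002c0014000d00000002c000c0001000b8003c0010001d000c800000006000c,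
0x1b000180064000c0014000c000680038001b00058005400000001000f00020001800010005800280010001e000b00058003c0004000a000600014001000018001000260006000e0002c002c001000040001c003c0013000e80048001a0019000380078003c0006000680064003c000200088005c00100002000e00064002c000800000005c0038000d0004000280008001d000b000340004000b00080004c002e001b,
0xd00098006c00260007000280050003c00110002800680024000b0008800600022001b000e800640020001400008002c00140011000f0002c000a000a000a00018000e0002000a0003400080014000a800700024000700008002400280000000680054002c0006000e00054002200130007800480024001800028004c0026000600090002c0024000700058005000240015000c000680012000300090001c00380015,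
0xa0006800600018001b00090005400160017000900038002000080006800240000000c00068006c001e001d0008000440004000f000a80020002e001e00058001c002000000004000680012000a000500030001a001000090001c002a000f000680024002a000b00068005400200004000d8003c002c00100005800100032001000080000400180019000b8000c003a000c00098005c0038000a000c000680034001c,
0x8000100040001a0013000100008001a0016000880024000400080004000480004000100048002400260010000680058000a00060001800180026000a00000005800360010000f0006c000a00050000000300014001a00080006c003c0000000180040001a0016000980070002c000f000f00030000c000e000c00048000a001400038000c00060004000d0004c0024000a00018005c002a000f000800058000c0002,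
0x80000000540006000500010002c0038001e000980020002c0016000700040001400120005000740036001c000700038000400060006000140034000200048005000040013000980054002e001c000a0002c00140008000600054002c0007000200060002800010001000180026000700098006800360000000d00010000a000b000300070002e0014000700048001e0011000480040001e001200028001000180009,
0x9000c0007800120009000d00034002a000900068002c0020000a000a00054000c0008000300048003000000000000500004001d00058002000060005000c00044000e0017000280058002c001a000780018001e0008000c0002c00140012000c0002c0032001900038003c0018001d0009000140008001d00010001c0008001c000c00018002c0009000c00058001a0002000180074001e000c000a0000400360019,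
0x200000006400220013000000074002800100006000280028000e000d00014002200190000000080020001b000c8001c0016001e00008000c000a001e0002800440020000a00000005800220018000a0001c0010001b000e800000026000e00000001c00300019000100004002a0018000900064000a001900038002c00020014000600034001e00100000800780020001a000200058000e0016000a800740010000b,
0x14000a0004000320012000500038000e001b000e00070001e000b00008003c002e0010000d000080002001c000e800700014001700010005800260014000b80038002600120002800100004000d000080050000000150007000300028001200090003400160019000600038002e0007000c80068002e001400078004800040011000e800000018000d000780014002400090002800300036001900068003000160013,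
0xc000800048000c0010000c0000800340002000700010002e000a000c000200000000b0003000640000000800030006c002c001300090004000300003000580050003a000e000c8005c00120011000400058001000000005800580016001d000200020001a000c000a800180022001b000a0004c0014000f0005000580016001900058006c0006000b00080003c002a0006000d0005800020015000680008001a001a,
0x5000d000380000001b000600058003c0008000a0000c000a00030007800540028000a00008003c001c0000000a0000c0030000500070002c002a00150000800000006001200038005c00080002000c800500036000500098002c00140000000680074000e00120009800340016000500080002c001a000c00008004c00240011000e80040001a001400018007800320016000a800000018000500068003c00320006,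
0x10004800100024000700028002800060003000b000680028001a000a8005000000009000c80024002000190009800280004000b000c0002c0014001e000180044001a001c000a8004800200000000680000000a0016000b800500016001a000c8002000080005000a800400002001700008005400140011000200004001200160005000640032001d000b8001c001e00060001800580008000400018003000000007,
0x1b00020001c00260007000a8000c002e001d000e800200006000e0002000000022001d00080006400260004000f000600028000e00020002800040008000700068001e0017000180030003800090000800340018000100038001c0012001600000007400240017000900054003a001c000d00020001800060008800140014001e00038002c002a001d000e800680036001a000980024002000090003800680000001d,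
0x18000e80040000c001700078006c0038001d00078005c00320010000a8002c00120016000100000000c000600020000000040011000d8001c0012001e00020003c00360007000b8002c00040011000880044001c000500008004c0038000d0008000240034001600008000400220010000180020002400190005800740028001400088006c00280006000000034001a00010001000040010001d0001800480028001b,
0x1300078003c001a000e000500024000e001b0003800200000001300018002400220011000780064001c0007000e8001c00100014000f0006400160003000c00038000c001c00098002c00140007000680040000800160008800700026001e00008007800080009000680030000a00030001800200014000e000d00028001e001d000a00068002c000200010006c000a0007000b00058001e001a000e00038002a001c,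
0x5000280008003600050004800240030001100068003c000a0015000f000040034000d00098001c003a001200050005400380009000a8005800240016000e0003400240016000b000340022000200050006c003a00110006000740008000900040006c0036000e000800014000a001d000300030000a000500018006000000002000600048002e0001000e00068000a0004000d80038001e00190000000080018001d,
0x14000b8005c003600160004000280030001e000980050003200170005000480012001400070007400260008000000010000200180007000700028000c000c80004002800170009000700022000c000500020003c000000090007000100009000380078002a0007000c80070000c001b0004000380024001d000e80040003a001d000280020001e0003000b80008000000050006000180032001c00098001000040000,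
0x19000d0006400280003000600040002e00100000000300008001000028001c001a0019000600034002400160009800300012000c000c0004c00180013000580010002c0017000300078002a0012000000040000a001c000c00060003a0003000580050000e00070007000380038001b00010005000380010000b0005800300001000b800580030000f000980068002c001d00050002400140001000e000240034001c,
0x12000e8002000180010000b80054001200110005800480014000a00080006000020019000080018001e0014000c000640016000b000580014002e001b000500020000a0006000b000540016000e000200040001a000d0003000700006001a000c80070001c001c0001000080026000d000d80074001e0012000880054002600180004000100022000900030003800340017000a00030002e00020002000340016001b000600024000e0019000e0000c003c000a000300074003c00050009000300018000c00018002c00040016000980028002a000700078005c0038000500020000800120012000c0006c0016000d000b8002c0036001b000300078001e0016000600024001400100009000040034001300028007800380013,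
0x1500088000c0026000b000080068003c000c000d0007000340017000c8006c0030001a000100038002e001e000e00014003600070006000580006001c00090004400300008000b8001000160011000180034000200030004000300032000500090000000120017000b000140020001b000c80044000c000000068006000240003000d0000c003a0015000d80018002a0008000300060000e00110003000100014000d000b0007000180016000c800200014001e0001800380036001b000c00054001a0012000d0002400040011000a0000c002c001500098002c00180010000e000680020001c000b0003c001c00020004800100028000100040001400280001000e80018002a00170008800040016000e000480040003a000b,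
0xc00040006000000004000d8002c0014000e000e0004c0032001c0007800500018000d000e8000c00240003000a00078003a00040004800480006000700070007400260013000d0002c0004000e000d80064000200190009000640022001a000300000003c000900010003c00240019000e8001800100008000d0003800080009000d00048001400170005000680016000f000d8001c00360003000080058002a000600008002c002e0010000300020002a000d00050003c00140007000b800400006000b0005800440018000d000a8000000100001000d000740010000500000004c00020015000b00004002c001c000f0006c0010000d0007800200038001a000d8003c00260005000980000001e0006000c0004800380015,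
0x1d00040000400240001000b000680004000d000d000300006001b000180004000600150002800600034000c000500000002c000a000b000080018000a00000000c000a001800080002c00380008000a8005000160005000c80014001a0014000d8001c0028000c000c80058003a0015000700054001c000d00098001c00260006000780024003c00150004800780034000e000880020002c0000000c00034003a001a0000000780036001c00098000800120006000d80058002e0017000600074000800170009800540004000100080005400320018000080050000a0006000b80048000a001a000d00034000a0016000b80050001e0000000b0006800240006000b00064001c001600060000c001a001e000b00078001c0016,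
0x1c00050005c0036000d00068001c00060009000b000180026001d000300024002a0002000300004002a001e0004800580030001400058005400180019000180030000c000c00080002800360001000d800480006001e000a0006c0024001100018000c000c0012000d8001c003600090001800040002000e0006000600032000400040004c0024001200090006000340009000c000440012000f000d0003800280012000100068001c0019000c800680034000e0007800340006001a00030004c002c0015000380010002e001c000d800440018000b000480024002e000b00038005c00020015000d00070001a000800058005c0022001b00028004000080014000080028000e0018000e80028001c001a000c0000800060018,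
0xc0004800100006001a0001800640018001000000004400080019000b00044002c00030004000000020001b0005000540030000e00068002c003c000e00018002c002400030001000700012001a00050007400020004000a800040018000d0001000200020000e0004000400024001c000200054000e0007000180028002c000a000a0004c0002000f0003000200026000b000900018000c001b0001000780004001b0005800280008000500030006400340011000e0002c0030000d000e000500032000b000d80068001600140000000340016001a0006800600016001c000a80050003c000f000e0000400300019000b8004c003400140005000700036001300070000800200014000a00058000e0018000080058000a0003,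
0xe000080028003c000800000000c00160010000000018001c0019000f000540030001700000007000360012000000050001c00040008000680014000600050000c00040017000d00028001c000400088007400220019000f00000002c001a00038005c00080004000600060002e0009000900044000a0019000c00000001a0018000980014000e0010000d80058000a000e000800048000e001a000d80070002c001a000e00038000600130009000140000000d000480050002a00050006000000018001500058001000000018000000024003a0014000900008002e0007000d800680032001d0005800740026000400010004c002a0002000380074000c0002000d8003c002e000b000080014000a001900070002800020018,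
0x90004000340036000c00048001400200007000c00038000a00000000800600008000f000c000400026001c000100050000c0008000100048002a0014000b00060003800160000800140028000f000e0005c00000019000a00058002e001b000a80068001e00020001000440014001200020004400260017000980000001e0018000b8004c002600180008800680028000b000d000640038001e0009800180028000b000600004002a001e000100050002c001c000780058000a0016000c800300028000400058000c000a0012000f00008003400020001000340008001600030003000380010000280014001c001a00088000c002a0014000d8005c0010000d00048000c003a001d0002800640012000f000a8006000340001,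
0x40002000040012001b00028001c0024000500018000c002c000400060000c0038001e0001800600000001c000b0000c000000060008800400022000800038004c00200019000a0004800060015000e800340032000700048006c0008000e0008000280032001c00080002c001e0007000d80054000e00060000800300004000b0009800480008000300030000c00220002000a800180038000100050004400080019000c80000001a000600048003000360017000980010001200090006000380004000800008004400220000000500074001a000700060001400260003000080074003a0013000e80064002c0019000b0003800380016000700050003c0006000a8001400160008000f0006c00200017000580058001c001e,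
0x1b00058006000160018000b000300022000600080001000360004000c00014002a001e00010003400100007000980018002e0011000c000500026000a000980068002c00120009000480018000e000900050000e001500098003c0022000600020007400080017000d000040020000e00088003c0002001900060003c002a0012000c0002c001e000d000780068001e00160006800300012001c000b00030002a000a000080058001e0017000e80010002a001200050005c003c0012000b00008000c001a000d800640012001a000d000040028000900030001800360017000f000300030001d0008800600028000b000880034003c000000038003c0014001b00038002400160013000600000002e001b000800040002a0012,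
0x30003000500012000200020005800300009000d000100012000b000200020002e001d000c000540004000c000700028001c0012000c800580024000b0002800600006001900038007800020003000f000680006001a000e00034001e0009000e000300022001c000c000040006001b00018006c00240005000600004001e0009000780014000a0005000380058002c0019000580074000e000300058005000260005000e800600034001d0006000440036001e000c800080030001c000100068002c000000068002400080007000500048003c000800060003c0018000e00070003c00200014000a0005800200010000500058002c0003000c00024001e001400098004c002a00000000800080036000700040005c000e0012,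
0x150001000540002001a0001800180030001d000580038000c001a000a80040002e0005000c000640028000b000e0006c000a00150006000780024000800068005c0012001a00090000c000c0008000e0006c0002001e000d8004800260001000b8001000180007000300054002c000e000500060000a000600018000000360012000580004001a001a00018001400260012000c8002000340000000e800480036000700078000c0026001a000d800700026000f0006000700028001000090006c00080019000380018002a000000078004c000c000f00008001c00080001000580020002a0013000e8002c001c0009000c00018001000030008000500034000c000a8000400260005000880008002c000000060001400080013,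
0x1a000e80078000200000000800180002001e0002000240022000f00000005c0022001c000f00028000c000d0000000340004000d00028001c00160009000100028001c00060006800780014000a000f0006800100015000780054001a0014000880014002e000b00038002000280017000a8001c00240019000f00008000e0011000600010003a000e00068005c00260011000000024000a00060001800440034000e0009800780034000500058005800240003000a80018000600090002800400026001500098000000280009000200050000e000e00008001c0018001d0005000480012000800058006c0014001b00000001800200011000580028001a0007000a00014002c0018000000014002c001d00050001c002e000e,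
0x1600068005400380015000900064003a001d000680010001a001a0003000180004000b000300030000e001d000c80070002e001400030006000160019000c0001c0022000a00070006400180015000b000200014000900028004400280001000100008003a00180005800400004000e00038007000220011000c0004c002e001700020003c002c0016000d80040001000000006800480032001a000e00034000e0007000080078000a000500060005800120018000e80018000e001700088002c00260008000180070003a001100000005c0024000e0007000440026001a00080002400060006000e80078002a000e00030007000320000000c0002800140015000a8002000180016000900018002600100002000200004000e,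
0xf000a0005c0012000900090006c003c001000050003c000600190009800100034001e00058000000020014000b800680000001a000c0006400180009000b000380032000600010003400120019000e0002400360006000e8007000280003000000010002a00100000800500006000800058000c00060012000a0002800360019000700020000c001c000b8000000280007000c0004000340006000600040001e001a000380028000200150009800680016001700008000400080007000a800240028000a000f000040012001900098004000380018000d0002800340007000f0000000100005000a800380006001c000d000540018001c00090002400200005000e0000c002a0016000d0005400000001000c00048001e0015,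
0x1a00048007400160019000e800080012001200000005c0022001700018005c000600040006800500006001d000e000300026000d000180050000a000f000f0006c003a000e000c8001c001e0018000700010000e000d000c0002c00180014000b000780010000d000d0001000260012000100070001c001b000c800200034000900000005800260009000400008003a000c00028003000020010000b000480026001c000d800000022000d00078005400120002000a000640026000b00018000c000e00180008000300028000200030002c0002001d0009800580014001100058003c003c0014000a00068003c00150005800180030000400060003800200004000380070001800140001000640018001a00060004c003a0001,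
0xb000e8001800100014000a8001000140000000d00048003a0017000b0003c00160004000c00028000c0005000980034002800100006000580026000200020001c000c001700008005c002c001b00068001c00200012000f00004003c001a0004000500014000a0004000040026000c0001800640014001900010003800240006000480014001a0016000b000480022001000030002c0016000500030001400260018000880058000a0014000900020003a00040008800240016000f00000007400140013000200078003a001600058005c0016000e00070001c002e001000088006800100005000a8002c0006000800038000c002200040008000300000000b000d8007400300014000f0001c0026001b000e8005400360007,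
0xe000d8000c00280007000a800400014001e00098003000140018000a0000c0010001c000b000000024000f0007000640010001c00060000400300018000300044000c0004000a8003c00280010000e000340002000300038000000060011000a80020002e0009000580054000e000b000b8000c00280015000480040002400160007800300034001a00000002c0016000600050006c002600070007000640028001200098005c000a0002000a00060000c001a000d000640006001a00090005c003a001000050001000020010000f0005800040001000a00058000a00020007800740014001e000c0006c00100006000e0001c000a001b00030005000280009000a0006000280003000b00000003200050005800600036001c,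
0x80001800700030000500060000800100015000f00038000e000500080002c001a000a000f0004c003000070005000380000000000040000c0008000e0007000000002001000080004c0000000c000400028001e00180005800300038000200018007800080006000b00050003c00190006000500024001000020004c0016001200010006c002a000000070006c0032001c000c80064001c00010001800640034000a000b000780004001100008000c001e0007000380040001a00140001800540022000a000380068002800190009000680010001800070000800200019000b8005c0022000b000500068003600040007000640012000d00038005c000e0011000100044001c0019000d8002c001c000c000a0006c000c0001,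
0x1e0007000740028000e0006000780026001c00068006400360005000400038000000030008800280032001c00048003c00060004000c8004c000000090006800700010000f000e0006c00300001000d00020001a0009000d00074000e000f0000800200034001800080002c0022000a0006000380004000f000c800480006000200098003400260007000b0003000280004000a80060002c001a000d0004400100012000a800700018000000070002c0002000000020001c00340010000d8003c00300007000e000600004001c0000800340032000b000e0001000320017000a800640036000f00090007000380015000a800500010001c000880024001a000f000d800040026000300080005c0000001b000c80038003a0013,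
0x1400000001800120009000b800140006000d0008000400010001a00018002c000800020006000340022001500048003800020008000e8000c003c001100058001800280010000900068003a0016000b8003c00020005000600054000200040001000440022001500080002c0018001500000005c001e00090008800380000000e000a0007800080019000b8006800240006000300018002800020001800480004000e000a80058003c001d000f0004c0026000000078002c0018001c00000006c0032000b00040006c0010001a000a00074000c00110002000300036001b00040002c00200011000000024000000090001800440030000a000a0000c00300019000e0003c0012001600028006000020005000d800740038000c,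
0xa00000004c002a001a000d800080002001700078002c0014001e000a8006000360010000b000180008001d000900000000a00130005800700000001000010000800040013000e00074000a0013000300014000a000d00028007800000012000580044000e0015000a00020000a001100010001400300014000900024001c00040005800200012000300038006400020002000c00000000a000c0002800300028000b000c800240010000200078001800340009000e000540006000400068005c0006001e00010002400140014000a000740034000c000e8007000380008000d0001400100012000c8000c00000009000d0005400340011000900078001c0019000080020000c001700010002c002600120008000480038001d,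
0x500068000c001c001000050003c003400070005000080032000900098003800300014000080054002c000f000d0002800100011000f00024000600090000000780008001800058003c001c00190005800700000000d000f00054002a001b000080070001a0006000f0003400040016000380030001c001c000800054002e000d0008000080016000a000d0004c0002000000010004000000005000b8004c0006001c000b80040002a000f000b8003c00360010000c000140016000100068003400380015000080028003600170001000080034000d0001800140016000a000080028001200140004800400034000f000a80034003a001e00008003c0020001c00070002c0036000d000c000440020001a00000005800300012,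
0xd000a000180006000d000e0002c00020005000880030002e0011000a800740004000d000d000580002000700060003c0002000700008006000280013000a0004c0024000c00048000800300007000d00030000c0019000480078002e0007000800038003a0005000d8000c001a0008000a8001c001e001200000001800180003000880014000e0004000600014000e0014000e00010002000040007800180036000c000c000740030001b000b0001400280000000180050003c000b00088002c0004001e00078007800180003000c80034002c0008000500074002c0000000a8004c0018000900020003800000011000500074000c000300098002000260010000c0002c001e0017000980058002000090001800200038001c,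
0xc000d8006c000e000800060004c00000014000880054000c000700060001800380009000e80000003a000c000d0002c0026000d0008000700014000c00060002400240010000e0005c0030001000010002000260002000c00074000a000b000d80060000a001a0008000640002000a000c80020000600030008800040022001a000d000700016001a0009000340012000b000a000300002001400098001c00160006000580058002e001e000d8001c003a0009000100038003a001700050006c0010001c00008007400240016000d00018001e001d0004000740018000e0002000680034001000048000800060001000d800600004000b00028002c000e000f000000050003c001b000e8002c0018001d00030001c0036001e,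
0x12000000020001c001e000580020003a000d0006800000006000b000f000780030001800018007400320012000f0004c000a0016000980028000a0005000700028003400050003000340010000900040002800360000000100040002a001d000a80008003a00160001000000014000f00000002c001400160005000100006001a000900034002c0009000b0006c00360018000b00078000a001b00048005c0032000c000d00040001e0012000300004003a0015000980000001e00000004800400026001e000c8000800120003000500068003c000f00068003000200002000a800780002001300008004c0034001700048002c0032001800040002c00200008000b00050001e000e0001800440016001d00028003400020019,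
0x3000000040003000060003800200028000b0001800500008001b0004000040038001700028005000280013000c8000c0018001e000880070002e000c000480024001a0007000e000200004000a000e000100034001d00038003000160004000300070001c000000050001c000a0014000300058003a000200038003c002c000f00070000400180005000680060001a0018000680044003000140001000000014001a000680024000c000e0007000380032000c00048002c0002000b000d00004003c001e00010007400260002000000054003000000004000140032001200040000c0006000e0007000240006001700080006c0010001000020000c0030000c00010006000020003000380024001e000000028001c001c0002,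
0x7000c800380028001400010001c001c0016000500030000a0005000c8003c003a000300058004400280018000280038001e001700070005c003c0009000b000500016001500090003c002e0007000600038001a000b000a0001c000c00180002000640034001d00078007800080011000600068002e001500020005c002c0015000f0004c00240018000080028002e0005000300044003000190004000580004001c000480004000c00180006000100000001c00048007400300019000c00038002000010008800300032000200040005000360004000c000700022000300018002800260001000b00044003400010000000280014001100048006400340000000880004001c000b000480000003a0010000b00030002c0013,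
0x1000c0003c000800120008000200010000600038006800200005000600044001c0006000e8005400380016000b0006c000400140007000240000001b000a0000000060002000500008001e000500078000c00200019000680068002c0000000f00010003c0015000d0002c000c000a000500044003600180002000100028001c00038007400280018000e8000400060018000b0002c0018001a00018000400260017000a800200006000f000c0004c0008000d000a8005400060018000a80048000e0000000100018001c000e0009000240010001b00068003000000006000c0006400160006000e80028003a000a0008000480026001a000a00034003a0015000a0001c000e0017000200044000200030004000700030000b,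
0x11000c000200032001d000600010000c0013000a0002c000e0008000d800300008000d00098003c001a000a000d8004c00260007000e800700026000f000e0002400200004000180034002a000b0006000580032000d000980070002a0008000c000040002001e0003800740022001b000c0001400060015000c000740010000c000280050003c000300018001c002a0016000b000740010001d00000007000380001000500048003c000c0005800300022000c00058004c0018001b00058005c00160004000f0002c001a0013000a00014002e001c000e000340010001d0006800380018000200000002c00020006000380008002a001a000b00078002e001400040000c000c0018000a800540024000e00018004c0020000b,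
0xc000f00054003a001600058007400340000000b800480000000800010004c002200110000000400026001c000900020000c00090007800180032001b00058001c002a0015000b800500024000e000c80018001c0011000b80020000200010000800580012001300078006c003c00050000000140018000900008007400160003000e8004400180010000180070003a000900098003400060003000000044002a000d0006800280034001e000c8003c0000001a0004000440036001b00058003000300009000d8005c0006001200008002c0020001e000b00030000c001d000e80030001c000c00000002000140018000b00074002200020002800700000001e00080003c00080004000e000400000000d0003800440028000b,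
0x16000700034002e000200000000000180016000e000000030001d000a00070001e0017000b0005c000a001a000680034003a0006000d80054003a0007000c8005400160002000e8004800340017000480010002c0000000c0003c002c0007000580034001e001000028001000020018000b800080036000500030001800320008000c800080006001b000880074000c00000003800400020000100030004400320004000d8001c0012001d00058003800300018000e000640036000c000e0002c002c00170003000400038000300040004800120015000400008003a0001000480004003a000100000004000100010000800040002c00040009800180012001d0003800700004000f0000800300028001e00018007800300015,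
0x20008800640036001d000480078000a0018000c8006000380003000700040002800070009800500026000000010003c00280011000c80060002c0013000e0006c00240000000180034001a0000000b8006c003c000c000b8002c000e001300088005400240004000080014002e0019000380064000c001a000c800740004000c00050000800220005000e0004c002000150005000200038001d0002800180004000e0004000680030001300078001400020017000c00068000c000500068001000000004000080038002a000e000500024002c0001000c000780014001200090007800200015000d0004400380011000480040002a00010005000780008001d000880050000c00130000800740002001d00040003400100009,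
0xe000b0004000080002000d8000c00220005000000064002c001c000a00060002200070005800780000000e000b80020000c0006000e00038003c0004000980030001e0012000d80010000c000c000600078001a0008000b0000c0012000e0003000480008001400078005000240000000d0000400320007000280004001e001b00018000c00160010000a8001000120006000c80050001a000b000c000640016000d0006000040026000f0003800340038000d00090000c0018001000078003c00160016000a000340008001a000b8005c003c00120006000340012000e0007000680018000d0003000400028000700010006c003c000b000900044001c001700020006c002a000a000d0003400340012000180064003c0016,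
0x150008800340016000000020001400020017000b00034002a000400058000400380006000c000680010000e000180034002a0013000900008001e001900070006800120004000e0000c000200050004800340014000a000900018001e000f0004800140018000e000c00068003a000600038005400000002000200048002a0017000300054002a00070001800640038001c000380078000e001d000c800340008001300030000c00180007000e0002400140002000c0001c0018001a000c000200004001a0002800780036000b00080006c0008001900010004c002e001a000e0001c003200000004800300038001d00058004c000e001d0000000080024001500070003c0032000f000c8004c0018001a00090001400080006,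
0xf00028004c003c000200010001000300018000f0004400280017000d80034001a001d000080048002c001b000a8000800140011000f0001c0010000b00040003c0038000000048004c003a000800010001c0026001300018003c001200010007000100004000a0005800640016001d000e80060000c0007000e00028002e00130008000640014000900040000400280000000f0001400080002000a000180038000800050005c0032001300058003c002c0010000600070001400000005000140010001d000780030003a000b0003000300032001600028003400000014000d0000c001c000500090004400100010000580074003c00020008800740018001a0006800000026000300098005800300009000100078003a0009,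
0x500060003a0012000d800080000001d000a00010000a0011000c0001400300013000f0007000360006000480074001c0008000e0005c0008001b000a8005c0018001d00070003c0020000800080001c002200150001800280024000000000001c0026001a00010002c003c0006000600048001c000b000f0000400320002000f00054000800170000800200002001900028005400340008000200014002c001000020002c0008001c0008000380012001c000c800680038000a000680028003a0019000300078002c001e000a00050001c0009000d0000000200012000a8004400380010000f00078001800070008000780018001b00018005c0016000f000680018003800080003000400012001b00050007400060012,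
0x600010003800020013000e8006c002a000d000780040002a0015000a8006400020014000d0004800060001000600034001a001c00008003800140006000d8002800280010000e80074000a00070000800280022001b000700010002200120003800280036001b000e80024002e001c00030001000180014000a8001800020000000500008000a000d000580020001e000f000680074000800020005800780014000700038000400360015000c000500022000d000e0003400300015000f0006c00340018000d00024000600040009800440026000d00048006400180015000580074002a0016000d000240018000c000a8005c001e001e00080004800080009000f00010001c000600008004c00240014000780014002e0013,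
0x1100050005c00080017000480010002a000200008005000320005000e8003000160008000d800580016000200080005c0014000c000980048001800080001000000006000c0009800440010000b000980058001000070006800140034000300098007800060008000100050001a001b000000068003c00140006000540012001b000700050000a0011000d80014003a001d0009800580002000b00088006800020002000e8000c0016001600020006c0002000100058004c003c000f000b800100002001b000d0006c0030000300080005c003200170006800080000001100040001c00260003000780078002e000b00090002800240019000d00064000a0017000980014000c001a000680050002a000d00028000800340008,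
0x15000200024003c001c00068007400060004000d8004c001400060004000100026001d000b0001c0012001b000d8001800040015000200034001c0004000780044001e0017000880004003200140008000100006000b0003000580018000f0004800300000001000010003400340015000c80028002a000d0006000540026001a000f000300000001600048000c001a000a000d0002c003c000700068004c003a0002000e0000c00040005000c8003c00340019000980010000a0007000a0002800360003000e00020000a001c0009000040022001a0009800740020000000090004c0016001700080000800260012000b80050002a000e00040005c00120004000680038001600190005000180022001c000f0003c000a0000,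
0xb00098002c001600020003000040034001e000500054002c000500058003000000002000b0000800060007000500054003a0019000c00034001e001a000e8007800040009000f00030001a0001000a800100008000000040005c000e0004000c8005c00260012000c0000c002c0000000780030001c0007000d0002c002e000f000b000440006000a000c8001c000c000a00020004c0036001e000d8006c000200030001800340008000a00038005c0030001100080005c0010000f00040006400380002000880044002a000a0007000200038000500080001400160003000b0006c00340001000e0000400080002000a00044003a001400058001400080007000f000240026001a000c800440006001400068007400380015,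
0xa000700008003c0001000f0002000340018000a80044003a0013000a000640012001500040004c00280001000c0001800220002000b000400026001e000f000280020001d00070001800020019000a00040000a000c000880064000c000500038006c000e000e000780054000c001c000a80004000c001a0003000480030000f000b000700010000200058000000300006000d8007400060018000880038003a001a000a0005c000400190007000300026001600060004c0002000b000600020002400060007800640002000f0000800040010001800080004800120001000a8001c0010001700038002c001a001e000f0002c0000001d000d8005c0018001100098004400380004000d0004800360012000500050002a0002,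
0x1000680078001a000e000580054002c001d000700040002a001700058000400040011000700018001e001b0008800200030000d000280020001e000d000a8002c0026001a0008800500002001c000b80040003c0014000b80030003c00150008800480034000a000480054000c000900098001800040010000200018001e001600060005c0026000a000a000740018000500010001400140012000900050001600020002000780020000600058004c00100016000d8005c0020000d000a0001c002c001500080000000040004000480034001e001d000200048000a00000003000280032000f000d80030003a001500080004c0016001300018003c002c000a000980004001a0016000d8002800300001000680040002e0011,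
0xa00004001c0009000e0002000100018000c000200022000b000400018003a0018000a00014002c0000000780074000a0009000a00078002e000a000d0001400280000000200000000a0019000f0003000160001000c0003c0036000c000080010003c00060000000480018001700020003c0016000e000c800740038001c000100018000800120003000500030000f000b00074003a00000003800640026000e000c00068001a000c000a0002c0008000b000a0004800060009000f0000400240010000000020001e00110004800500034000f000a800040004000b0006800600028000b000500000003c001d000b0002c0008001600098000000040017000a0000000260004000900014000600060005800580006000d,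
0x1900028002c000c001d000600044003c001d000e8005c001c001c000e8005800080008000e8006000260007000d80004001c0007000500014001c001300018006c0020001c000f000540018000a00030007800080012000080010002e000c00030002c0034000d0009000280018000c000c8004000200002000a80054000000160004000440006001e000b0004400300015000980060002a0005000c000340006000f0004000780032000600020005000360000000e8007000000019000e80058000e0012000d8002000260015000a800280014001300028001800280003000c000200024000300030006c0026001b00048000c00040006000e8006400120013000c80024002a001d00048003c001c000100040004c003a0005,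
0x5000c0000c003c000c000680074002a000800058006400140011000700028003a000e000d800600030000200068001400260014000c8003000140006000180004001c000200050000000160017000f000000006001c00028004c00000015000d800480024000e0008000740030001c000a80058001e000c000b8002c002a0017000c80028001c000e00038006c0016000500038002000200012000600050000a0003000c000080012001600000004c001c000e00000006400260015000a80044003a00090004800180034000b0000000740038000900020003c000e00170003800640016001d000200044001a001b000480038000a001b000580064003a000c000100034000c000200090000c00200008000200068001a0014,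
0xa000d0006800140015000300060000c000300028006000240007000a800400016001d000180058002a0001000580038003a000d000f0006c00380004000e800380010000e000b800700000001e0004000400028000500000001c00220016000e0005c003c000e000a80048002c000d000c80078002a0007000100024003c0017000e8001c002c0009000b0006c00100003000d800000020001c000c800700030000e00008000c002a001300098006800340001000e8002c0030000c0001800040024001c000f0004c0004001c00040000800080010000b80010001a001600030004c003c001a000c0002000260002000a000180000001e00028000c00320016000000050000e000a000a8006000020006000200038000a001a,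
0x1700020006c0012001300028000c001c000700098003000120016000700058001a00180004800280016000e0003800240036000e000980008000e000d00020003800060013000b80054000c000f00060006800120003000e00044001a0015000f0006400160014000c8003c003a00050000800280010000400008004c002c0017000b8000c0038000a000c0002400240001000600078001c000600070000400320010000b0005400220011000c000100020000a000d000040006000200058006800160000000000034002e0008000a00054002600050003800380024000e000280060001a001b000a00044002a001b000a8006400320019000200024001a001e000a0006c001a0011000e000480012001c000400024001a0008,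
0x1700060007400300001000500074002c0012000c00050001000080008800180010000900038001800100013000c800140030000e0000000200034000a000d80004002c0013000a8003c00120004000c000500014000100060000c002e0008000c00010001000160004800600010000e00030004400320016000e8001800200006000d80038002a00180006000300004000a000d00004002c0004000e0000800260016000800064000c001300008005800360006000980008000e00110007800040032001d000300020001600000003000040014001000078007400380007000000004002a00060005800180004001600048006800380004000000004001c000b000280028001a001a00078005c0034001200040007400380000,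
0x11000b0000400300019000000000000c000400030004c00120000000c000340006000a000a0007000280007000a00034001e0016000b80014003800170008800040010001700020000400100008000b0007000040013000c0000c00300019000a800780018001e0008000440028001e000a000680014001b00098001400300012000e800000030001800040005c000c001200090002c000e001300008000000260018000f00054001c000500088003c0038000d000e80034001e0014000d0004800120017000380048000a0010000800018003c000d000e800140006001b000f0002800060012000b0005000320015000e00040000a000a000e800240002000b00050002c000a000d00048005c000c000200058004000360018,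
0x14000b80060000e001e000f0000c0004000c000b00038003c000600078006800080011000780074003a000500000003c003400150005800140030001200090003c001a00160006800040002001c000e8006c00000016000a00030001a000c000600020001000070006000280008000b000180034000e0004000a80064002a001c000680058001600000002800300012000000078000c00380016000f0001c0034001c00068005000280010000d000700016000400018002c0014001700020006c0008001e000f00000003c0010000380040003a001b000680058001000050008800080028001800078006c00220011000c0006c00320001000d8003c0020000a0007800780030001c000b00024001e00000000000280002000a,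
0x8000300018000a001200058000800220016000780060001c001b0008000100026000d000b80040000a000f00098006000140000000b000440018000d000100068000a0019000a0004400340011000c000080004000b000600034001a001900028001000180004000e000500000000b00040004800120010000100070002000060000000380032000e00038002c00220000000a0004400000008000c800780038001200068001800340016000a8000c001c0013000e000240006001a000d8000400220002000480044000a001200030006000320012000e8004c0016000b00068005400120010000d80078002e000a000380064002a00080003800280000000c0004800780024001500098006c002a001600010003400020015,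
0x1e000b80044001c000900068004c0036000400008002000120007000680064002e001d00000001c00100014000c00054002e0003000a80028000400160000000240008001b0005000100032000200038006c0016001e0001000280018000b0009800340036000a000900024001c0009000c0001000260018000c00060000400170004800480018001000020003800220001000a800380022000b000f0004c001a0016000880050001600150007000340002001000058004c001c000a0009000600012000d000500054002000190005000080004001300050003400060014000280060001e001900048000c0010000d00070007800320014000c8006c003a000e000580064002a0010000e8003c0032000100028005c0014001c,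
0x1b000080048002e00020002800440014000a00040007400160005000300010001e000500070001c0016000600048003c000c001d000c00030001c0013000a800100016000e00000004800200012000d800300006000f000e00048003c0009000100058001c0005000a00030000800050008000200008001d000d00030003c00080005000780032000300010001000040010000f0003c00320015000380044002200100006800480018001500028000000220016000380034001c0009000c8001c002800160004800200010001b000f00064000e000100028004c002a001a00070002c000c0002000480020002600030000800740030000d0007000080000000500010002800340001000b000280002001b00038006800180004,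
0x1d000d800180034001100028003c0018001c000b00030003600160001000500032000b000480050002c000900020002c0036000f0006800640036000500030006c0034001c000c8005000080003000500070001a0006000a80018001e00130005800300022001a000f0003800140005000d8002c00300015000500040002800020004000780024000b00048003c0020000100078003c0030001e000c800500034000400038007400240008000c80070002c001b000c8005c00180016000b0004c00240006000c00038001a001d00058005c002a0017000080078001a001200030001000160009000d000400024000900088002000220002000e00078002e000b00040002c00300007000180058000a001d00030001c0036000a,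
0x50003000400008001c00028004000340007000a00050003a001500020000000280006000180050000a00150004000700032001e000700040003200080007000380004001600060002c0022001c000d80068002a00120009800580018001d00028004c0026000d000b800200002001600060001400120015000400064003400050007800780026001700058006400280006000a800140014000c000e0001000380010000100008002c0015000880024001e0019000d80054000c0011000900048002c001a0003800640036001a000b00070001e0016000600060000c0013000b0004400000010000d8006c0002001c000180034002a001d000f00070002e0004000300058000000180001800580006000e00010004c00140011]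

end Cfsg.Agent.H650.Q5.HNLit
end

-- part: H428/GT/LbZero
section
prune_inst 0x20000000000000000000008401000000000000920000000120000000000000200000200000802000080802000000000000000090026000000a000800000100000020000001000000020000800000000000000000000000000000000000000004000000000
set_option linter.all false
open scoped Cfsg.Agent.FastGrp

-- part: H428/GT/Ring
section
/-!
# A quadratic element of order three acts trivially (helper428), for S5211 (StLb0)

`A` a ring with `3 = 0`, `X` a unit with `(X - 1)² = 0`, `R` a finite group of units normalised by `X`, without elements of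
order three, in which `1` is the only element commuting with `X`: then `R = 1`.
-/

set_option autoImplicit false

namespace Cfsg.Agent.H428.GT

theorem exists_rel {G : Type*} [Group G] {X : G} (hX : X * X * X = 1) {R : Subgroup G} [Finite R]
    (hn : ∀ r ∈ R, X * r * X⁻¹ ∈ R) (hc : ∀ r ∈ R, X * r = r * X → r = 1) {r : G} (hr : r ∈ R) :
    r * (X * r * X⁻¹) * (X⁻¹ * r * X) = 1 := by
  let φ : R → R := fun s => ⟨(s : G)⁻¹ * (X * s * X⁻¹), mul_mem (inv_mem s.2) (hn _ s.2)⟩
  have hφ : Function.Injective φ := by
    intro s t h
    have h1 : (s : G)⁻¹ * (X * s * X⁻¹) = (t : G)⁻¹ * (X * t * X⁻¹) := congrArg Subtype.val h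
    have h2 : (t : G) * (s : G)⁻¹ = 1 := by
      apply hc _ (mul_mem t.2 (inv_mem s.2))
      have h3 : (t : G) * (s : G)⁻¹ * (X * s * X⁻¹) = X * t * X⁻¹ := by rw [mul_assoc, h1]; group
      calc X * ((t : G) * (s : G)⁻¹) = (X * t * X⁻¹) * (X * (s : G)⁻¹) := by group
        _ = (t : G) * (s : G)⁻¹ * (X * s * X⁻¹) * (X * (s : G)⁻¹) := by rw [h3]
        _ = (t : G) * (s : G)⁻¹ * X := by group
    have h3 : (t : G) = s := mul_inv_eq_one.1 h2
    exact Subtype.ext h3.symm
  obtain ⟨s, hs⟩ := (Finite.injective_iff_surjective.1 hφ) ⟨r, hr⟩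
  have h1 : r = (s : G)⁻¹ * (X * s * X⁻¹) := (congrArg Subtype.val hs).symm
  rw [h1]
  calc (s : G)⁻¹ * (X * s * X⁻¹) * (X * ((s : G)⁻¹ * (X * s * X⁻¹)) * X⁻¹) *
        (X⁻¹ * ((s : G)⁻¹ * (X * s * X⁻¹)) * X)
      = (s : G)⁻¹ * (X * X) * s * (X * X * X)⁻¹ * (s : G)⁻¹ * X * s := by group
    _ = (s : G)⁻¹ * (X * X * X) * s := by rw [show (X * X * X)⁻¹ = 1 by rw [hX, inv_one]]; group
    _ = 1 := by rw [hX]; group

variable {A : Type*} [Ring A]

theorem pow_three_pow (h3 : (3 : A) = 0) {x y : A} (h : Commute x y) (n : ℕ) :
    (x + y) ^ 3 ^ n = x ^ 3 ^ n + y ^ 3 ^ n := by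
  rcases subsingleton_or_nontrivial A with hs | hs
  · exact Subsingleton.elim _ _
  · have h4 : CharP A 3 := (CharP.charP_iff_prime_eq_zero Nat.prime_three).2 (by exact_mod_cast h3)
    have : Fact (Nat.Prime 3) := ⟨Nat.prime_three⟩
    exact add_pow_char_pow_of_commute 3 n h

/-- **a quadratic element of order three acting without fixed points on a group of units of order prime to three** -/
theorem trivial_of_quadratic (h3 : (3 : A) = 0) {X : Aˣ} (hX : ((X : A) - 1) * ((X : A) - 1) = 0)
    {R : Subgroup Aˣ} [Finite R] (hn : ∀ r ∈ R, X * r * X⁻¹ ∈ R) (hn' : ∀ r ∈ R, X⁻¹ * r * X ∈ R)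
    (hc : ∀ r ∈ R, X * r = r * X → r = 1) (h3' : ∀ r ∈ R, r ^ 3 = 1 → r = 1) : ∀ r ∈ R, r = 1 := by
  obtain ⟨N, hN⟩ : ∃ N : A, N = (X : A) - 1 := ⟨_, rfl⟩
  have hN2 : N * N = 0 := by rw [hN]; exact hX
  have hX1 : (X : A) = 1 + N := by rw [hN]; abel
  have hX2 : ((X⁻¹ : Aˣ) : A) = 1 - N := by
    have h1 : (X : A) * (1 - N) = 1 := by
      rw [hX1]
      have : (1 + N) * (1 - N) = 1 - N * N := by noncomm_ring
      rw [this, hN2, sub_zero]
    calc ((X⁻¹ : Aˣ) : A) = ((X⁻¹ : Aˣ) : A) * ((X : A) * (1 - N)) := by rw [h1, mul_one]
      _ = 1 - N := by rw [← mul_assoc, ← Units.val_mul, inv_mul_cancel, Units.val_one, one_mul]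
  have hX3 : X * X * X = 1 := by
    apply Units.ext
    rw [Units.val_mul, Units.val_mul, Units.val_one, hX1]
    have : (1 + N) * (1 + N) * (1 + N) = 1 + 3 * N + 3 * (N * N) + N * (N * N) := by noncomm_ring
    rw [this, hN2, h3]
    simp
  -- the coprime exponent
  have hcop : (Nat.card R).Coprime 3 := by
    rw [Nat.coprime_comm, Nat.Prime.coprime_iff_not_dvd Nat.prime_three]
    intro hd
    have : Fact (Nat.Prime 3) := ⟨Nat.prime_three⟩
    obtain ⟨r, hr⟩ := exists_prime_orderOf_dvd_card' 3 hd
    have h1 : r ^ 3 = 1 := by rw [← hr]; exact pow_orderOf_eq_one r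
    have h2 : (r : Aˣ) = 1 := h3' r r.2 (by
      have := congrArg Subtype.val h1
      simpa using this)
    have h4 : r = 1 := Subtype.ext h2
    rw [h4, orderOf_one] at hr
    omega
  obtain ⟨k, hk, hpow⟩ : ∃ k, 1 ≤ k ∧ ∀ r ∈ R, r ^ 3 ^ k = r := by
    refine ⟨Nat.totient (Nat.card R), Nat.totient_pos.2 Nat.card_pos, fun r hr => ?_⟩
    have h1 : 3 ^ Nat.totient (Nat.card R) ≡ 1 [MOD Nat.card R] := Nat.ModEq.pow_totient hcop.symm
    have h2 : orderOf r ∣ Nat.card R := by
      have := orderOf_dvd_natCard (⟨r, hr⟩ : R)
      rwa [Subgroup.orderOf_mk] at this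
    have h4 := (pow_eq_pow_iff_modEq (x := r)).2 (h1.of_dvd h2)
    rw [h4, pow_one]
  -- the relations
  have rel : ∀ r ∈ R, ∃ β γ : Aˣ, β ∈ R ∧ γ ∈ R ∧ β = X * r * X⁻¹ ∧ γ = X⁻¹ * r * X ∧ r * β * γ = 1 ∧ r * β = β * r ∧
      r * γ = γ * r ∧ β * γ = γ * β := by
    intro r hr
    have e1 := exists_rel hX3 hn hc hr
    have hX3' : X⁻¹ * X⁻¹ * X⁻¹ = 1 := by
      rw [← _root_.mul_inv_rev, ← _root_.mul_inv_rev, ← mul_assoc, hX3, inv_one]
    have e2 := exists_rel (X := X⁻¹) hX3' (fun r hr => by rw [inv_inv]; exact hn' r hr) (fun r hr h => hc r hr (by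
      calc X * r = X * (r * X⁻¹) * X := by group
        _ = X * (X⁻¹ * r) * X := by rw [h]
        _ = r * X := by group)) hr
    rw [inv_inv] at e2
    obtain ⟨β, hβ⟩ : ∃ β, β = X * r * X⁻¹ := ⟨_, rfl⟩
    obtain ⟨γ, hγ⟩ : ∃ γ, γ = X⁻¹ * r * X := ⟨_, rfl⟩
    have hXX : X⁻¹ = X * X := inv_eq_of_mul_eq_one_left hX3
    have cβ : X * β * X⁻¹ = γ := by
      rw [hβ, hγ, hXX]
      have : X * (X * r * (X * X)) * (X * X) = X * X * r * X * (X * X * X) := by group
      rw [this, hX3, mul_one]
    have cγ : X * γ * X⁻¹ = r := by rw [hγ]; group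
    rw [← hβ, ← hγ] at e1
    rw [← hβ, ← hγ] at e2
    have conj : ∀ a b c : Aˣ, a * b * c = 1 → (X * a * X⁻¹) * (X * b * X⁻¹) * (X * c * X⁻¹) = 1 := by
      intro a b c h
      calc (X * a * X⁻¹) * (X * b * X⁻¹) * (X * c * X⁻¹) = X * (a * b * c) * X⁻¹ := by group
        _ = 1 := by rw [h]; group
    -- `e1 : r β γ = 1`, `e2 : r γ β = 1`
    have e3 := conj _ _ _ e1
    rw [← hβ, cβ, cγ] at e3
    have e4 := conj _ _ _ e3
    rw [← hβ, cβ, cγ] at e4
    have e5 := conj _ _ _ e2
    rw [← hβ, cβ, cγ] at e5
    have e6 := conj _ _ _ e5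
    rw [← hβ, cβ, cγ] at e6
    -- e3 : β γ r = 1, e4 : γ r β = 1, e5 : β r γ = 1, e6 : γ β r = 1
    refine ⟨β, γ, hβ ▸ hn r hr, hγ ▸ hn' r hr, hβ, hγ, e1, ?_, ?_, ?_⟩
    · exact mul_right_cancel (e1.trans e5.symm)
    · exact mul_right_cancel (e2.trans e4.symm)
    · exact mul_right_cancel (e3.trans e6.symm)
  have sum0 : ∀ r ∈ R, ∀ β γ : Aˣ, β ∈ R → γ ∈ R → β = X * r * X⁻¹ → γ = X⁻¹ * r * X → r * β = β * r →
      r * γ = γ * r → β * γ = γ * β → (r : A) + β + γ = 0 := by
    intro r hr β γ hβR hγR hβ hγ c1 c2 c3
    have hβ' : (β : A) = (1 + N) * r * (1 - N) := by rw [hβ, Units.val_mul, Units.val_mul, hX1, hX2]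
    have hγ' : (γ : A) = (1 - N) * r * (1 + N) := by rw [hγ, Units.val_mul, Units.val_mul, hX1, hX2]
    have hs : (r : A) + β + γ = -2 * (N * r * N) := by
      rw [hβ', hγ']
      have : (r : A) + (1 + N) * r * (1 - N) + (1 - N) * r * (1 + N) = 3 * r - 2 * (N * r * N) := by noncomm_ring
      rw [this, h3]
      noncomm_ring
    have hs2 : ((r : A) + β + γ) * ((r : A) + β + γ) = 0 := by
      rw [hs]
      have : (-2 * (N * (r : A) * N)) * (-2 * (N * r * N)) = 4 * (N * r * (N * N) * r * N) := by noncomm_ring
      rw [this, hN2]
      simp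
    have C1 : Commute (r : A) (β : A) := congrArg Units.val c1
    have C2 : Commute (r : A) (γ : A) := congrArg Units.val c2
    have C3 : Commute (β : A) (γ : A) := congrArg Units.val c3
    have h4 : ((r : A) + β + γ) ^ 3 ^ k = (r : A) + β + γ := by
      rw [pow_three_pow h3 (C2.add_left C3), pow_three_pow h3 C1]
      have f1 := congrArg Units.val (hpow r hr)
      have f2 := congrArg Units.val (hpow β hβR)
      have f3 := congrArg Units.val (hpow γ hγR)
      rw [Units.val_pow_eq_pow_val] at f1 f2 f3
      rw [f1, f2, f3]
    have h5 : 2 ≤ 3 ^ k := by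
      calc 2 ≤ 3 ^ 1 := by norm_num
        _ ≤ 3 ^ k := Nat.pow_le_pow_right (by norm_num) hk
    obtain ⟨m, hm⟩ := Nat.exists_eq_add_of_le h5
    rw [← h4, hm, pow_add, pow_two, hs2, zero_mul]
  intro r hr
  obtain ⟨β, γ, hβR, hγR, hβ, hγ, e1, c1, c2, c3⟩ := rel r hr
  have s1 := sum0 r hr β γ hβR hγR hβ hγ c1 c2 c3
  have s2 := sum0 (r * r) (mul_mem hr hr) (β * β) (γ * γ) (mul_mem hβR hβR) (mul_mem hγR hγR)
    (by rw [hβ]; group) (by rw [hγ]; group)
    (by
      have : Commute (r * r) (β * β) := (Commute.mul_left c1 c1).mul_right (Commute.mul_left c1 c1)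
      exact this)
    (by
      have : Commute (r * r) (γ * γ) := (Commute.mul_left c2 c2).mul_right (Commute.mul_left c2 c2)
      exact this)
    (by
      have : Commute (β * β) (γ * γ) := (Commute.mul_left c3 c3).mul_right (Commute.mul_left c3 c3)
      exact this)
  have C1 : (r : A) * (β : A) = (β : A) * r := congrArg Units.val c1
  have hγ' : (γ : A) = -(r : A) - β := by
    have : (γ : A) = ((r : A) + β + γ) - r - β := by abel
    rw [this, s1]
    abel
  have q : (r : A) * r + β * β + r * β = 0 := by
    rw [Units.val_mul, Units.val_mul, Units.val_mul, hγ'] at s2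
    have h4 : (r : A) * r + β * β + (-(r : A) - β) * (-(r : A) - β) =
        2 * ((r : A) * r + β * β) + (r * β + β * r) := by noncomm_ring
    rw [h4, ← C1] at s2
    have h5 : 2 * ((r : A) * r + β * β) + (r * β + r * β) = 2 * ((r : A) * r + β * β + r * β) := by noncomm_ring
    rw [h5] at s2
    have h6 : (r : A) * r + β * β + r * β = 3 * ((r : A) * r + β * β + r * β) -
        2 * ((r : A) * r + β * β + r * β) := by noncomm_ring
    rw [h6, s2, h3]
    simp
  have cube : (r : A) * r * r = 1 := by
    have h4 : (r : A) * β * γ = 1 := by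
      have := congrArg Units.val e1
      simpa using this
    rw [hγ'] at h4
    have h5 : (r : A) * β * (-(r : A) - β) = -(r * (β * r)) - r * β * β := by noncomm_ring
    rw [h5, ← C1] at h4
    have h6 : (r : A) * r * r = r * (r * r + β * β + r * β) + (-(r * (r * β)) - r * β * β) := by noncomm_ring
    rw [h6, q, h4]
    simp
  apply h3' r hr
  apply Units.ext
  rw [Units.val_pow_eq_pow_val, Units.val_one, ← cube]
  noncomm_ring

end Cfsg.Agent.H428.GT
end

-- part: H428/GT/LbZero
section
/-!
# `StLb0` (helper428), for S5211

`p = 3`, `Γ = Aut_F(Q_b)`, `Aut_S(Q_b)` a Sylow subgroup of `Γ` which is not normal.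

* `main1` : the elements of `Γ` trivial on `Q_b / Z₃` are inner;
* `main2` : some element of `Γ` moves `J = Z₄`.
-/

set_option autoImplicit false
set_option linter.unusedSimpArgs false

namespace Cfsg.Agent.H428.GT

open Cfsg Cfsg.FusionSystem Cfsg.Agent.H756.PU Cfsg.Agent.H779.G2

universe u

variable {K : Type u} [Field K]

/-- elements of `Q_b` by coordinates -/
def qb (a c d e f : K) : Qb K := ⟨⟨a, 0, c, d, e, f⟩, rfl⟩

section coord

@[simp] theorem qb_a (a c d e f : K) : ((qb a c d e f : Qb K) : GU K).a = a := rfl
@[simp] theorem qb_b (a c d e f : K) : ((qb a c d e f : Qb K) : GU K).b = 0 := rfl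
@[simp] theorem qb_c (a c d e f : K) : ((qb a c d e f : Qb K) : GU K).c = c := rfl
@[simp] theorem qb_d (a c d e f : K) : ((qb a c d e f : Qb K) : GU K).d = d := rfl
@[simp] theorem qb_e (a c d e f : K) : ((qb a c d e f : Qb K) : GU K).e = e := rfl
@[simp] theorem qb_f (a c d e f : K) : ((qb a c d e f : Qb K) : GU K).f = f := rfl

theorem gb (g : Qb K) : (g : GU K).b = 0 := g.2

theorem qext {g h : Qb K} (ha : (g : GU K).a = (h : GU K).a) (hc : (g : GU K).c = (h : GU K).c)
    (hd : (g : GU K).d = (h : GU K).d) (he : (g : GU K).e = (h : GU K).e) (hf : (g : GU K).f = (h : GU K).f) : g = h := by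
  apply Subtype.ext
  apply GU.ext
  · exact ha
  · rw [gb, gb]
  · exact hc
  · exact hd
  · exact he
  · exact hf

theorem ma (g h : Qb K) : ((g * h : Qb K) : GU K).a = (g : GU K).a + (h : GU K).a := rfl

theorem mc (g h : Qb K) : ((g * h : Qb K) : GU K).c = (g : GU K).c + (h : GU K).c := by
  rw [Subgroup.coe_mul, GU.mul_c, gb]
  ring

theorem md (g h : Qb K) : ((g * h : Qb K) : GU K).d = (g : GU K).d + (h : GU K).d + 2 * (g : GU K).c * (h : GU K).a := by
  rw [Subgroup.coe_mul, GU.mul_d, gb]
  ring

variable (h3 : (3 : K) = 0)

include h3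

theorem me (g h : Qb K) : ((g * h : Qb K) : GU K).e = (g : GU K).e + (h : GU K).e := by
  rw [Subgroup.coe_mul, GU.mul_e, gb]
  linear_combination ((g : GU K).d * (h : GU K).a + (g : GU K).c * (h : GU K).a ^ 2) * h3

theorem mf (g h : Qb K) : ((g * h : Qb K) : GU K).f = (g : GU K).f + (h : GU K).f := by
  rw [Subgroup.coe_mul, GU.mul_f, gb g, gb h]
  linear_combination ((g : GU K).d * (h : GU K).c + 2 * (g : GU K).c * (h : GU K).a * (h : GU K).c +
    (g : GU K).c ^ 2 * (h : GU K).a) * h3

omit h3 in
theorem ia (g : Qb K) : ((g⁻¹ : Qb K) : GU K).a = - (g : GU K).a := rfl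

omit h3 in
theorem ic (g : Qb K) : ((g⁻¹ : Qb K) : GU K).c = - (g : GU K).c := by
  rw [Subgroup.coe_inv, GU.inv_c, gb]
  ring

omit h3 in
theorem id (g : Qb K) : ((g⁻¹ : Qb K) : GU K).d = - (g : GU K).d + 2 * (g : GU K).a * (g : GU K).c := by
  rw [Subgroup.coe_inv, GU.inv_d, gb]
  ring

theorem ie (g : Qb K) : ((g⁻¹ : Qb K) : GU K).e = - (g : GU K).e := by
  rw [Subgroup.coe_inv, GU.inv_e, gb]
  linear_combination ((g : GU K).a * (g : GU K).d - (g : GU K).a ^ 2 * (g : GU K).c) * h3

theorem if' (g : Qb K) : ((g⁻¹ : Qb K) : GU K).f = - (g : GU K).f := by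
  rw [Subgroup.coe_inv, GU.inv_f, gb]
  linear_combination ((g : GU K).c * (g : GU K).d - (g : GU K).a * (g : GU K).c ^ 2) * h3

end coord

/-- `z` is in `Z₃ = Z(Q_b)` -/
def Z (g : Qb K) : Prop := (g : GU K).a = 0 ∧ (g : GU K).c = 0

/-- cubes in `Q_b` are trivial -/
theorem cube_eq_one (h3 : (3 : K) = 0) (g : Qb K) : g * g * g = 1 := by
  apply qext
  · rw [ma, ma]; show _ = (0 : K); linear_combination (g : GU K).a * h3
  · rw [mc, mc]; show _ = (0 : K); linear_combination (g : GU K).c * h3
  · rw [md, md, mc]; show _ = (0 : K); linear_combination ((g : GU K).d + 2 * (g : GU K).c * (g : GU K).a) * h3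
  · rw [me h3, me h3]; show _ = (0 : K); linear_combination (g : GU K).e * h3
  · rw [mf h3, mf h3]; show _ = (0 : K); linear_combination (g : GU K).f * h3

/-- commutators in `Q_b` -/
theorem comm_eq (h3 : (3 : K) = 0) (g h : Qb K) : g * h * g⁻¹ * h⁻¹ =
    qb 0 0 (2 * ((g : GU K).c * (h : GU K).a - (h : GU K).c * (g : GU K).a)) 0 0 := by
  apply qext
  · rw [ma, ma, ma, ia, ia, qb_a]; ring
  · rw [mc, mc, mc, ic, ic, qb_c]; ring
  · simp only [md, mc, ic, ia, id, qb_d]; ring
  · rw [me h3, me h3, me h3, ie h3, ie h3, qb_e]; ring
  · rw [mf h3, mf h3, mf h3, if' h3, if' h3, qb_f]; ring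

theorem two_ne (h3 : (3 : K) = 0) : (2 : K) ≠ 0 := by
  intro h
  have : (1 : K) = 0 := by linear_combination h3 - h
  exact one_ne_zero this

/-- `Z₃ = Z(Q_b)` -/
theorem Z_iff (h3 : (3 : K) = 0) {z : Qb K} : Z z ↔ ∀ g, z * g = g * z := by
  constructor
  · rintro ⟨ha, hc⟩ g
    apply qext
    · rw [ma, ma]; ring
    · rw [mc, mc]; ring
    · rw [md, md, ha, hc]; ring
    · rw [me h3, me h3]; ring
    · rw [mf h3, mf h3]; ring
  · intro h
    have h2 := two_ne h3
    constructor
    · have h1 := congrArg (fun x : Qb K => (x : GU K).d) (h (qb 0 1 0 0 0))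
      simp only [md, qb_a, qb_c, qb_d] at h1
      have : (2 : K) * (z : GU K).a = 0 := by linear_combination -h1
      exact (mul_eq_zero.1 this).resolve_left h2
    · have h1 := congrArg (fun x : Qb K => (x : GU K).d) (h (qb 1 0 0 0 0))
      simp only [md, qb_a, qb_c, qb_d] at h1
      have : (2 : K) * (z : GU K).c = 0 := by linear_combination h1
      exact (mul_eq_zero.1 this).resolve_left h2

theorem Z_map (h3 : (3 : K) = 0) (γ : MulAut (Qb K)) {z : Qb K} (hz : Z z) : Z (γ z) := by
  rw [Z_iff h3] at hz ⊢
  intro g
  obtain ⟨g', rfl⟩ := γ.surjective g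
  rw [← map_mul, ← map_mul, hz]

/-- every element of `X₄` is a commutator -/
theorem x4_eq (h3 : (3 : K) = 0) (d : K) : (qb 0 0 d 0 0 : Qb K) =
    qb 0 1 0 0 0 * qb (d * 2⁻¹) 0 0 0 0 * (qb 0 1 0 0 0)⁻¹ * (qb (d * 2⁻¹) 0 0 0 0)⁻¹ := by
  rw [comm_eq h3]
  simp only [qb_a, qb_c]
  have h2 := two_ne h3
  congr 1
  field_simp
  ring

/-- automorphisms preserve `X₄` -/
theorem x4_map (h3 : (3 : K) = 0) (γ : MulAut (Qb K)) (d : K) : ∃ d', γ (qb 0 0 d 0 0) = qb 0 0 d' 0 0 := by
  rw [x4_eq h3, map_mul, map_mul, map_mul, map_inv, map_inv, comm_eq h3]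
  exact ⟨_, rfl⟩

/-- `γ` is trivial on `Q_b / Z₃` -/
def Tr (γ : MulAut (Qb K)) : Prop :=
  ∀ g : Qb K, ((γ g : Qb K) : GU K).a = (g : GU K).a ∧ ((γ g : Qb K) : GU K).c = (g : GU K).c

/-- automorphisms trivial on `Q_b / Z₃` fix `X₄` -/
theorem x4_fix (h3 : (3 : K) = 0) {γ : MulAut (Qb K)} (hγ : Tr γ) (d : K) : γ (qb 0 0 d 0 0) = qb 0 0 d 0 0 := by
  conv_lhs => rw [x4_eq h3, map_mul, map_mul, map_mul, map_inv, map_inv, comm_eq h3, (hγ _).1, (hγ _).2, (hγ _).1, (hγ _).2]
  conv_rhs => rw [x4_eq h3, comm_eq h3]

/-- **the stability group of the chain `Q_b > Z₃ > X₄X₆ > X₄ > 1`** -/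
theorem chain (h3 : (3 : K) = 0) {γ : MulAut (Qb K)} (hγ : Tr γ)
    (he : ∀ z : Qb K, Z z → ((γ z : Qb K) : GU K).e = (z : GU K).e)
    (hf : ∀ z : Qb K, Z z → (z : GU K).e = 0 → ((γ z : Qb K) : GU K).f = (z : GU K).f) : γ ^ 3 ^ 2 = 1 := by
  have key : ∀ g : Qb K, ∃ v, γ v = v ∧ Z v ∧ γ (γ (γ g)) = g * v := by
    intro g
    obtain ⟨z, hz⟩ : ∃ z, z = g⁻¹ * γ g := ⟨_, rfl⟩
    obtain ⟨w, hw⟩ : ∃ w, w = z⁻¹ * γ z := ⟨_, rfl⟩
    obtain ⟨v, hv⟩ : ∃ v, v = w⁻¹ * γ w := ⟨_, rfl⟩
    have e1 : γ g = g * z := by rw [hz]; group
    have e2 : γ z = z * w := by rw [hw]; group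
    have e3 : γ w = w * v := by rw [hv]; group
    have Zz : Z z := by
      constructor
      · rw [hz, ma, ia, (hγ g).1]; ring
      · rw [hz, mc, ic, (hγ g).2]; ring
    have Zw : Z w := by
      constructor
      · rw [hw, ma, ia, (hγ z).1]; ring
      · rw [hw, mc, ic, (hγ z).2]; ring
    have we : (w : GU K).e = 0 := by rw [hw, me h3, ie h3, he z Zz]; ring
    have Zv : Z v := by
      constructor
      · rw [hv, ma, ia, (hγ w).1]; ring
      · rw [hv, mc, ic, (hγ w).2]; ring
    have ve : (v : GU K).e = 0 := by rw [hv, me h3, ie h3, he w Zw]; ring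
    have vf : (v : GU K).f = 0 := by rw [hv, mf h3, if' h3, hf w Zw we]; ring
    have ev : v = qb 0 0 (v : GU K).d 0 0 := qext Zv.1 Zv.2 rfl ve vf
    have e4 : γ v = v := by rw [ev]; exact x4_fix h3 hγ _
    have cz := (Z_iff h3).1 Zz
    have cw := (Z_iff h3).1 Zw
    refine ⟨v, e4, Zv, ?_⟩
    have s1 : γ (γ g) = g * z * (z * w) := by rw [e1, map_mul, e1, e2]
    rw [s1]
    simp only [map_mul, e1, e2, e3]
    calc g * z * (z * w) * (z * w * (w * v)) = g * z * z * (w * z) * w * w * v := by group
      _ = g * z * z * (z * w) * w * w * v := by rw [cw z]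
      _ = g * (z * z * z) * (w * w * w) * v := by group
      _ = g * v := by rw [cube_eq_one h3, cube_eq_one h3]; group
  ext1 g
  obtain ⟨v, hv, Zv, e⟩ := key g
  have e9 : (γ ^ 3 ^ 2) g = γ (γ (γ (γ (γ (γ (γ (γ (γ g)))))))) := rfl
  rw [e9, e]
  simp only [map_mul, hv, e]
  have h1 : g * v * v * v = g * (v * v * v) := by group
  rw [h1, cube_eq_one h3, mul_one]
  rfl

/-! ### conjugation by elements of `S` -/

instance Qb_normal : (Qb K).Normal := ⟨fun n hn g => by
  have h1 : n.b = 0 := hn
  show (g * n * g⁻¹).b = 0
  rw [GU.mul_b, GU.mul_b, GU.inv_b, h1]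
  ring⟩

theorem mem_ind {γ : MulAut (Qb K)} : γ ∈ autInducedBy ⊤ (Qb K) ↔ ∃ x : GU K, γ = MulAut.conjNormal x := by
  rw [H802.mem_autInducedBy_iff]
  constructor
  · rintro ⟨x, -, h⟩
    refine ⟨x, ?_⟩
    ext1 g
    apply Subtype.ext
    rw [h, MulAut.conjNormal_apply]
  · rintro ⟨x, rfl⟩
    exact ⟨x, Subgroup.mem_top x, fun g => MulAut.conjNormal_apply x g⟩

theorem cj_a (x : GU K) (g : Qb K) : ((MulAut.conjNormal x g : Qb K) : GU K).a = (g : GU K).a := by
  rw [MulAut.conjNormal_apply, GU.mul_a, GU.mul_a, GU.inv_a]
  ring

theorem cj_c (x : GU K) (g : Qb K) : ((MulAut.conjNormal x g : Qb K) : GU K).c = (g : GU K).c + x.b * (g : GU K).a := by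
  rw [MulAut.conjNormal_apply, GU.mul_c, GU.mul_c, GU.mul_b, GU.inv_a, GU.inv_c, gb]
  ring

theorem cj_e (h3 : (3 : K) = 0) (x : GU K) {z : Qb K} (hz : Z z) :
    ((MulAut.conjNormal x z : Qb K) : GU K).e = (z : GU K).e := by
  rw [MulAut.conjNormal_apply]
  simp only [GU.mul_e, GU.mul_d, GU.mul_c, GU.mul_b, GU.mul_a, GU.inv_a, GU.inv_b, GU.inv_c, GU.inv_d, GU.inv_e, gb, hz.1, hz.2]
  linear_combination (-(z : GU K).d * x.a) * h3

theorem cj_f (h3 : (3 : K) = 0) (x : GU K) {z : Qb K} (hz : Z z) :
    ((MulAut.conjNormal x z : Qb K) : GU K).f = (z : GU K).f + x.b * (z : GU K).e := by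
  rw [MulAut.conjNormal_apply]
  simp only [GU.mul_f, GU.mul_e, GU.mul_d, GU.mul_c, GU.mul_b, GU.mul_a, GU.inv_a, GU.inv_b, GU.inv_c, GU.inv_d, GU.inv_e,
    GU.inv_f, gb, hz.1, hz.2]
  linear_combination (-(z : GU K).d * x.c) * h3

theorem inn_of_b {x : GU K} (hx : x.b = 0) : (MulAut.conjNormal x : MulAut (Qb K)) ∈ Inn (Qb K) := by
  refine ⟨⟨x, hx⟩, ?_⟩
  ext1 g
  apply Subtype.ext
  rw [MulAut.conjNormal_apply]
  rfl

theorem inn_le_ind : Inn (Qb K) ≤ autInducedBy ⊤ (Qb K) := by
  rintro _ ⟨x, rfl⟩
  refine mem_ind.2 ⟨x, ?_⟩
  ext1 g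
  apply Subtype.ext
  rw [MulAut.conjNormal_apply]
  rfl

theorem Tr_iff {γ : MulAut (Qb K)} : Tr γ ↔ ∀ g, ∃ z, Z z ∧ γ g = g * z := by
  constructor
  · intro h g
    refine ⟨g⁻¹ * γ g, ⟨?_, ?_⟩, by group⟩
    · rw [ma, ia, (h g).1]; ring
    · rw [mc, ic, (h g).2]; ring
  · intro h g
    obtain ⟨z, hz, e⟩ := h g
    rw [e, ma, mc, hz.1, hz.2, add_zero, add_zero]
    exact ⟨rfl, rfl⟩

theorem Tr_one : Tr (1 : MulAut (Qb K)) := fun _ => ⟨rfl, rfl⟩

theorem Tr_mul {γ δ : MulAut (Qb K)} (h : Tr γ) (h' : Tr δ) : Tr (γ * δ) := fun g => by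
  rw [MulAut.mul_apply, (h _).1, (h _).2, (h' _).1, (h' _).2]
  exact ⟨rfl, rfl⟩

theorem Tr_inv {γ : MulAut (Qb K)} (h : Tr γ) : Tr γ⁻¹ := fun g => by
  have h1 := h (γ⁻¹ g)
  rw [MulAut.apply_inv_self] at h1
  exact ⟨h1.1.symm, h1.2.symm⟩

theorem Tr_conj (h3 : (3 : K) = 0) {γ : MulAut (Qb K)} (h : Tr γ) (g : MulAut (Qb K)) : Tr (g * γ * g⁻¹) := by
  rw [Tr_iff] at h ⊢
  intro x
  obtain ⟨z, hz, e⟩ := h (g⁻¹ x)
  refine ⟨g z, Z_map h3 g hz, ?_⟩
  rw [MulAut.mul_apply, MulAut.mul_apply, e, map_mul, MulAut.apply_inv_self]

/-- the hypotheses of `StLb0` -/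
structure Hy (Γ : Subgroup (MulAut (Qb K))) : Prop where
  three : (3 : K) = 0
  fin : Finite K
  indu : autInducedBy ⊤ (Qb K) ≤ Γ
  syl : ∀ P : Subgroup (MulAut (Qb K)), P ≤ Γ → IsPGroup 3 P → ∃ g ∈ Γ, ∀ x ∈ P, g * x * g⁻¹ ∈ autInducedBy ⊤ (Qb K)
  ext : ∀ γ ∈ Γ, NormAut ⊤ γ → ∃ α : MulAut (GU K), IsR α γ

namespace Hy

variable {Γ : Subgroup (MulAut (Qb K))} (H : Hy Γ)

include H

/-- `3`-elements of `Γ` trivial on `Q_b / Z₃` are inner -/
theorem inn_of_pow {r : MulAut (Qb K)} (hr : r ∈ Γ) (ht : Tr r) {k : ℕ} (hk : r ^ 3 ^ k = 1) : r ∈ Inn (Qb K) := by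
  obtain ⟨g, hg, h⟩ := H.syl (Subgroup.zpowers r) (by rwa [Subgroup.zpowers_le]) (by
    rintro ⟨_, m, rfl⟩
    refine ⟨k, Subtype.ext ?_⟩
    rw [Subgroup.coe_pow, Subgroup.coe_one]
    show (r ^ m) ^ 3 ^ k = 1
    rw [← zpow_natCast, ← zpow_mul, mul_comm, zpow_mul, zpow_natCast, hk, one_zpow])
  obtain ⟨x, hx⟩ := mem_ind.1 (h r (Subgroup.mem_zpowers r))
  have h1 := Tr_conj H.three ht g
  rw [hx] at h1
  have h2 := (h1 (qb 1 0 0 0 0)).2
  rw [cj_c, qb_a, qb_c, mul_one, zero_add] at h2
  have h3 : g * r * g⁻¹ ∈ Inn (Qb K) := by rw [hx]; exact inn_of_b h2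
  have h4 := (innNormal (Qb K)).conj_mem _ h3 g⁻¹
  have h5 : g⁻¹ * (g * r * g⁻¹) * g⁻¹⁻¹ = r := by group
  rwa [h5] at h4

/-- elements of `Γ` trivial on `Q_b / Z₃` and stabilizing the rest of the chain are inner -/
theorem inn_of_chain {r : MulAut (Qb K)} (hr : r ∈ Γ) (ht : Tr r)
    (he : ∀ z : Qb K, Z z → ((r z : Qb K) : GU K).e = (z : GU K).e)
    (hf : ∀ z : Qb K, Z z → (z : GU K).e = 0 → ((r z : Qb K) : GU K).f = (z : GU K).f) : r ∈ Inn (Qb K) :=
  H.inn_of_pow hr ht (chain H.three ht he hf)

/-- every element of `K` is a cube -/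
theorem exists_cube (t : K) : ∃ a : K, a ^ 3 = t := by
  have := H.fin
  have h3 := H.three
  have hinj : Function.Injective (fun a : K => a ^ 3) := by
    intro a b h
    have h1 : a ^ 3 = b ^ 3 := h
    have h2 : (a - b) ^ 3 = 0 := by linear_combination h1 + (a * b ^ 2 - a ^ 2 * b) * h3
    exact sub_eq_zero.1 (pow_eq_zero_iff (by norm_num) |>.1 h2)
  exact (Finite.injective_iff_surjective.1 hinj) t

/-- cubes in `GU K` -/
theorem cube_GU (h : GU K) : h * h * h = ⟨0, 0, 0, -(h.a ^ 2 * h.b), 0, h.a ^ 3 * h.b ^ 2⟩ := by
  have h3 := H.three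
  apply GU.ext
  · simp only [GU.mul_a]; linear_combination h.a * h3
  · simp only [GU.mul_b]; linear_combination h.b * h3
  · simp only [GU.mul_a, GU.mul_b, GU.mul_c]; linear_combination (h.c + h.a * h.b) * h3
  · simp only [GU.mul_a, GU.mul_b, GU.mul_c, GU.mul_d]
    linear_combination (h.d + 2 * h.a * h.c + 2 * h.a ^ 2 * h.b) * h3
  · simp only [GU.mul_a, GU.mul_b, GU.mul_c, GU.mul_d, GU.mul_e]
    linear_combination (h.e + 3 * h.a * h.d + 5 * h.a ^ 2 * h.c + 3 * h.a ^ 3 * h.b) * h3
  · simp only [GU.mul_a, GU.mul_b, GU.mul_c, GU.mul_d, GU.mul_e, GU.mul_f]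
    linear_combination (h.f + 3 * h.c * h.d - h.b * h.e + 13 * h.a * h.c ^ 2 - 4 * h.a * h.b * h.d +
      9 * h.a ^ 2 * h.b * h.c + h.a ^ 3 * h.b ^ 2) * h3

/-- **elements of `Γ` normalizing `Aut_S(Q_b)` and trivial on `Q_b / Z₃` are inner** -/
theorem inn_of_norm {r : MulAut (Qb K)} (hr : r ∈ Γ) (ht : Tr r) (hn : NormAut ⊤ r) : r ∈ Inn (Qb K) := by
  have h3 := H.three
  obtain ⟨α, hα⟩ := H.ext r hr hn
  -- conjugation
  have hcj : ∀ (h : GU K) (g : Qb K), r (MulAut.conjNormal h g) = MulAut.conjNormal (α h) (r g) := by
    intro h g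
    apply Subtype.ext
    rw [hα, MulAut.conjNormal_apply, MulAut.conjNormal_apply, hα, map_mul, map_mul, map_inv]
  -- `b` is preserved
  have hb : ∀ h : GU K, (α h).b = h.b := by
    intro h
    have h1 := congrArg (fun x : Qb K => (x : GU K).c) (hcj h (qb 1 0 0 0 0))
    simp only [(ht _).2, cj_c, (ht _).1, qb_a, qb_c, zero_add, mul_one] at h1
    exact h1.symm
  -- `x_β(1)`
  obtain ⟨y, hy⟩ : ∃ y : GU K, y = ⟨0, 1, 0, 0, 0, 0⟩ := ⟨_, rfl⟩
  have hyb : (α y).b = 1 := by rw [hb, hy]
  have hya : (α y).a = 0 := by
    have h1 : α (y * y * y) = α y * α y * α y := by rw [map_mul, map_mul]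
    rw [H.cube_GU, H.cube_GU, hyb, hy] at h1
    have h2 : (⟨0, 0, 0, -((0 : K) ^ 2 * 1), 0, 0 ^ 3 * 1 ^ 2⟩ : GU K) = 1 := by
      apply GU.ext <;> simp
    simp only at h1
    rw [h2, map_one] at h1
    have h4 := congrArg GU.f h1
    simp only [GU.one_f] at h4
    have h5 : (α y).a ^ 3 = 0 := by rw [hy]; linear_combination -h4
    exact pow_eq_zero_iff (by norm_num) |>.1 h5
  -- `x_{3α+2β}(f)` is fixed
  have h6 : ∀ f : K, r (qb 0 0 0 0 f) = qb 0 0 0 0 f := by
    intro f
    obtain ⟨a, rfl⟩ := H.exists_cube f
    obtain ⟨h, hh⟩ : ∃ h : GU K, h = ((qb a 0 0 0 0 : Qb K) : GU K) * y := ⟨_, rfl⟩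
    have ha : h.a = a := by rw [hh, hy, GU.mul_a]; simp
    have hb1 : h.b = 1 := by rw [hh, hy, GU.mul_b]; simp
    have ha' : (α h).a = a := by
      rw [hh, map_mul, GU.mul_a, hya, ← hα, (ht _).1, qb_a, add_zero]
    have h7 : α (h * h * h) = h * h * h := by
      rw [map_mul, map_mul, H.cube_GU (α h), H.cube_GU h, ha', ha, hb, hb1]
    have h8 : h * h * h = ((qb 0 0 (-a ^ 2) 0 (a ^ 3) : Qb K) : GU K) := by
      rw [H.cube_GU h, ha, hb1]
      apply GU.ext <;> simp
    rw [h8, ← hα] at h7
    have h9 : r (qb 0 0 (-a ^ 2) 0 (a ^ 3)) = qb 0 0 (-a ^ 2) 0 (a ^ 3) := Subtype.ext h7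
    have h10 : (qb 0 0 (-a ^ 2) 0 (a ^ 3) : Qb K) = qb 0 0 (-a ^ 2) 0 0 * qb 0 0 0 0 (a ^ 3) := by
      apply qext
      · rw [ma]; simp
      · rw [mc]; simp
      · rw [md]; simp
      · rw [me h3]; simp
      · rw [mf h3]; simp
    rw [h10, map_mul, x4_fix h3 ht] at h9
    exact mul_left_cancel h9
  refine H.inn_of_chain hr ht (fun z hz => ?_) fun z hz hze => ?_
  · have h7 : MulAut.conjNormal y z = z * qb 0 0 0 0 (z : GU K).e := by
      have hd : ((MulAut.conjNormal y z : Qb K) : GU K).d = (z : GU K).d := by
        rw [MulAut.conjNormal_apply, hy]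
        simp only [GU.mul_d, GU.mul_c, GU.mul_b, GU.mul_a, GU.inv_a, GU.inv_b, GU.inv_c, GU.inv_d, gb, hz.1, hz.2]
        ring
      apply qext
      · rw [cj_a, ma]; simp
      · rw [cj_c, mc, hz.1]; simp
      · rw [hd, md]; simp
      · rw [cj_e h3 _ hz, me h3]; simp
      · rw [cj_f h3 _ hz, mf h3, hy]; simp
    have h8 := hcj y z
    rw [h7, map_mul, h6] at h8
    have h9 := congrArg (fun x : Qb K => (x : GU K).f) h8
    simp only [mf h3, cj_f h3 _ (Z_map h3 r hz), hyb, qb_f, one_mul] at h9
    exact (add_left_cancel h9).symm
  · have h7 : z = qb 0 0 (z : GU K).d 0 0 * qb 0 0 0 0 (z : GU K).f := by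
      apply qext
      · rw [ma, hz.1]; simp
      · rw [mc, hz.2]; simp
      · rw [md]; simp
      · rw [me h3, hze]; simp
      · rw [mf h3]; simp
    have h8 : r z = z := by
      conv_lhs => rw [h7, map_mul, x4_fix h3 ht, h6]
      exact h7.symm
    rw [h8]

end Hy

end Cfsg.Agent.H428.GT
end
end

-- part: H428/GT/LbZero3
section
prune_inst 0x20000180080010020041000009200000000d8c002000a4610202004200170900810080882c040080000000000d0020000000a000800000100208000520033500d04360019802000000000000000000000000000000000041004000000000
set_option linter.all false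
open scoped Cfsg.Agent.FastGrp

-- part: H428/GT/LbZero2
section
/-!
# `StLb0` (helper428), for S5211, II
-/

set_option autoImplicit false
set_option linter.unusedSimpArgs false

namespace Cfsg.Agent.H428.GT

open Cfsg Cfsg.FusionSystem Cfsg.Agent.H756.PU Cfsg.Agent.H779.G2

universe u

variable {K : Type u} [Field K]

/-- the coordinates `e`, `f` -/
def ef (z : Qb K) : K × K := ((z : GU K).e, (z : GU K).f)

theorem ef_mul (h3 : (3 : K) = 0) (g h : Qb K) : ef (g * h) = ef g + ef h := by
  unfold ef
  rw [me h3, mf h3]
  rfl

theorem qb_zero : (qb 0 0 0 0 0 : Qb K) = 1 := rfl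

theorem Z_decomp (h3 : (3 : K) = 0) {z : Qb K} (hz : Z z) :
    z = qb 0 0 (z : GU K).d 0 0 * qb 0 0 0 (z : GU K).e (z : GU K).f := by
  apply qext
  · rw [ma, hz.1]; simp
  · rw [mc, hz.2]; simp
  · rw [md]; simp
  · rw [me h3]; simp
  · rw [mf h3]; simp

/-- the action on `Z₃ / X₄` -/
def act (h3 : (3 : K) = 0) (γ : MulAut (Qb K)) : AddMonoid.End (K × K) where
  toFun v := ef (γ (qb 0 0 0 v.1 v.2))
  map_zero' := by
    show ef (γ (qb 0 0 0 0 0)) = 0
    rw [qb_zero, map_one]
    rfl
  map_add' v w := by
    have h1 : (qb 0 0 0 (v + w).1 (v + w).2 : Qb K) = qb 0 0 0 v.1 v.2 * qb 0 0 0 w.1 w.2 := by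
      apply qext
      · rw [ma]; simp
      · rw [mc]; simp
      · rw [md]; simp
      · rw [me h3]; simp
      · rw [mf h3]; simp
    rw [h1, map_mul, ef_mul h3]

theorem act_apply (h3 : (3 : K) = 0) (γ : MulAut (Qb K)) (v : K × K) :
    act h3 γ v = ef (γ (qb 0 0 0 v.1 v.2)) := rfl

theorem act_ef (h3 : (3 : K) = 0) (γ : MulAut (Qb K)) {z : Qb K} (hz : Z z) : act h3 γ (ef z) = ef (γ z) := by
  rw [act_apply]
  conv_rhs => rw [Z_decomp h3 hz, map_mul, ef_mul h3]
  obtain ⟨d', hd⟩ := x4_map h3 γ (z : GU K).d
  rw [hd]
  show _ = (0 : K × K) + _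
  rw [zero_add]
  rfl

/-- the action on `Z₃ / X₄` as a homomorphism -/
def rho0 (h3 : (3 : K) = 0) : MulAut (Qb K) →* AddMonoid.End (K × K) where
  toFun := act h3
  map_one' := by
    ext1 v
    rfl
  map_mul' γ δ := by
    ext1 v
    show ef (γ (δ (qb 0 0 0 v.1 v.2))) = act h3 γ (act h3 δ v)
    rw [act_apply h3 δ, act_ef h3 γ (Z_map h3 δ ⟨rfl, rfl⟩)]

/-- the action on `Z₃ / X₄` by units -/
def rho (h3 : (3 : K) = 0) : MulAut (Qb K) →* (AddMonoid.End (K × K))ˣ := (rho0 h3).toHomUnits

theorem rho_coe (h3 : (3 : K) = 0) (γ : MulAut (Qb K)) :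
    ((rho h3 γ : (AddMonoid.End (K × K))ˣ) : AddMonoid.End (K × K)) = act h3 γ := rfl

theorem act_mul (h3 : (3 : K) = 0) (γ δ : MulAut (Qb K)) (v : K × K) : act h3 (γ * δ) v = act h3 γ (act h3 δ v) :=
  DFunLike.congr_fun ((rho0 h3).map_mul γ δ) v

theorem act_inj (h3 : (3 : K) = 0) (γ : MulAut (Qb K)) {v : K × K} (h : act h3 γ v = 0) : v = 0 := by
  have h1 : act h3 (γ⁻¹ * γ) v = v := by
    rw [inv_mul_cancel]
    rfl
  rw [act_mul, h, map_zero] at h1
  exact h1.symm

theorem act_cj (h3 : (3 : K) = 0) (x : GU K) (v : K × K) :
    act h3 (MulAut.conjNormal x) v = (v.1, v.2 + x.b * v.1) := by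
  have hz : Z (qb 0 0 0 v.1 v.2 : Qb K) := ⟨rfl, rfl⟩
  rw [act_apply]
  unfold ef
  rw [cj_e h3 x hz, cj_f h3 x hz]
  rfl

theorem act_inn (h3 : (3 : K) = 0) {γ : MulAut (Qb K)} (h : γ ∈ Inn (Qb K)) (v : K × K) : act h3 γ v = v := by
  obtain ⟨x, rfl⟩ := h
  rw [act_apply, MulAut.conj_apply]
  have h1 := (Z_iff h3).1 (show Z (qb 0 0 0 v.1 v.2 : Qb K) from ⟨rfl, rfl⟩) x
  rw [← h1, mul_inv_cancel_right]
  rfl

namespace Hy

variable {Γ : Subgroup (MulAut (Qb K))} (H : Hy Γ)

include H

/-- elements trivial on `Q_b / Z₃` and on `Z₃ / X₄` are inner -/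
theorem inn_of_act {r : MulAut (Qb K)} (hr : r ∈ Γ) (ht : Tr r) (ha : ∀ v, act H.three r v = v) : r ∈ Inn (Qb K) := by
  have key : ∀ z : Qb K, Z z → ef (r z) = ef z := fun z hz => by rw [← act_ef H.three r hz, ha]
  exact H.inn_of_chain hr ht (fun z hz => congrArg Prod.fst (key z hz)) fun z hz _ => congrArg Prod.snd (key z hz)

/-- **elements of `Γ` trivial on `Q_b / Z₃` commuting with `x_β(1)` on `Z₃ / X₄` are inner** -/
theorem inn_of_comm {r : MulAut (Qb K)} (hr : r ∈ Γ) (ht : Tr r)
    (hc : ∀ v : K × K, act H.three r (v.1, v.2 + v.1) = ((act H.three r v).1, (act H.three r v).2 + (act H.three r v).1)) :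
    r ∈ Inn (Qb K) := by
  have h3 := H.three
  have star : ∀ v : K × K, act h3 r (0, v.1) = (0, (act h3 r v).1) := by
    intro v
    have h1 : act h3 r ((v.1, v.2 + v.1) - v) = act h3 r (v.1, v.2 + v.1) - act h3 r v := map_sub _ _ _
    rw [hc v] at h1
    have h2 : ((v.1, v.2 + v.1) - v : K × K) = (0, v.1) := by
      apply Prod.ext
      · simp
      · simp
    rw [h2] at h1
    rw [h1]
    apply Prod.ext
    · simp
    · simp
  refine H.inn_of_norm hr ht fun y hy => ?_
  obtain ⟨x, rfl⟩ := mem_ind.1 hy
  obtain ⟨X, hX⟩ : ∃ X : MulAut (Qb K), X = MulAut.conjNormal x := ⟨_, rfl⟩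
  rw [← hX] at hy ⊢
  -- the commutator
  obtain ⟨κ, hκ⟩ : ∃ κ : MulAut (Qb K), κ = r * (X * r⁻¹ * X⁻¹) := ⟨_, rfl⟩
  have hT : Tr κ := by
    rw [hκ]
    exact Tr_mul ht (Tr_conj h3 (Tr_inv ht) _)
  have hx : X ∈ Γ := H.indu hy
  have hm : κ ∈ Γ := by
    rw [hκ]
    exact mul_mem hr (mul_mem (mul_mem hx (inv_mem hr)) (inv_mem hx))
  have hval : ∀ z : Qb K, Z z → ∃ w : K × K, (act h3 r w) = ((z : GU K).e, (z : GU K).f - x.b * (z : GU K).e) ∧
      ef (κ z) = act h3 r w + (0, (act h3 r (x.b * w.1, 0)).1) := by
    intro z hz
    obtain ⟨w, hw⟩ : ∃ w, w = act h3 r⁻¹ (act h3 X⁻¹ (ef z)) := ⟨_, rfl⟩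
    have e0 : act h3 X⁻¹ (ef z) = ((z : GU K).e, (z : GU K).f - x.b * (z : GU K).e) := by
      rw [hX, ← map_inv, act_cj]
      unfold ef
      apply Prod.ext
      · rfl
      · show _ + _ = _
        rw [GU.inv_b]
        ring
    have e1 : act h3 r w = ((z : GU K).e, (z : GU K).f - x.b * (z : GU K).e) := by
      rw [hw, ← act_mul, mul_inv_cancel, e0]
      rfl
    refine ⟨w, e1, ?_⟩
    rw [← act_ef h3 _ hz, hκ, act_mul, act_mul, act_mul, ← hw, hX, act_cj]
    have e2 : ((w.1, w.2 + x.b * w.1) : K × K) = w + (0, x.b * w.1) := by
      apply Prod.ext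
      · simp
      · simp
    rw [e2, map_add]
    congr 1
    exact star (x.b * w.1, 0)
  have hin : κ ∈ Inn (Qb K) := by
    refine H.inn_of_chain hm hT (fun z hz => ?_) fun z hz hze => ?_
    · obtain ⟨w, h1, h2⟩ := hval z hz
      have h4 := congrArg Prod.fst h2
      rw [h1] at h4
      simpa [ef] using h4
    · obtain ⟨w, h1, h2⟩ := hval z hz
      have h4 : (act h3 r w).1 = 0 := by rw [h1]; exact hze
      have h5 : w.1 = 0 := by
        have h6 := star w
        rw [h4] at h6
        have h7 := act_inj h3 r (v := (0, w.1)) h6
        exact congrArg Prod.snd h7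
      have h6 := congrArg Prod.snd h2
      rw [h1, h5, mul_zero] at h6
      have h7 : act h3 r (0, 0) = 0 := map_zero _
      rw [h7, hze] at h6
      simpa [ef] using h6
  have h4 : r * X * r⁻¹ = κ * X := by rw [hκ]; group
  rw [h4]
  exact mul_mem (inn_le_ind hin) hy

end Hy

end Cfsg.Agent.H428.GT
end

-- part: H428/GT/LbZero3
section
/-!
# `StLb0` (helper428), for S5211, III
-/

set_option autoImplicit false
set_option linter.unusedSimpArgs false

namespace Cfsg.Agent.H428.GT

open Cfsg Cfsg.FusionSystem Cfsg.Agent.H756.PU Cfsg.Agent.H779.G2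

universe u

variable {K : Type u} [Field K]

theorem finite_Qb [Finite K] : Finite (Qb K) := by
  refine Finite.of_injective
    (fun g : Qb K => ((g : GU K).a, (g : GU K).c, (g : GU K).d, (g : GU K).e, (g : GU K).f)) ?_
  intro g h e
  simp only [Prod.mk.injEq] at e
  exact qext e.1 e.2.1 e.2.2.1 e.2.2.2.1 e.2.2.2.2

theorem finite_MulAut [Finite K] : Finite (MulAut (Qb K)) := by
  have := finite_Qb (K := K)
  exact Finite.of_injective (fun γ : MulAut (Qb K) => (γ : Qb K → Qb K)) DFunLike.coe_injective

theorem three_End (h3 : (3 : K) = 0) : (3 : AddMonoid.End (K × K)) = 0 := by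
  have h1 : ((3 : ℕ) : AddMonoid.End (K × K)) = 0 := by
    ext1 v
    rw [AddMonoid.End.natCast_apply]
    show 3 • v = 0
    apply Prod.ext
    · show 3 • v.1 = 0
      rw [nsmul_eq_mul, Nat.cast_ofNat, h3, zero_mul]
    · show 3 • v.2 = 0
      rw [nsmul_eq_mul, Nat.cast_ofNat, h3, zero_mul]
  exact_mod_cast h1

namespace Hy

variable {Γ : Subgroup (MulAut (Qb K))} (H : Hy Γ)

include H

/-- **the elements of `Γ` trivial on `Q_b / Z₃` are inner** -/
theorem main1 {r : MulAut (Qb K)} (hr : r ∈ Γ) (ht : Tr r) : r ∈ Inn (Qb K) := by
  have h3 := H.three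
  have := H.fin
  have := finite_MulAut (K := K)
  obtain ⟨N, hN⟩ : ∃ N : Subgroup (MulAut (Qb K)), ∀ s, s ∈ N ↔ s ∈ Γ ∧ Tr s :=
    ⟨{ carrier := {s | s ∈ Γ ∧ Tr s}
       mul_mem' := fun h h' => ⟨mul_mem h.1 h'.1, Tr_mul h.2 h'.2⟩
       one_mem' := ⟨one_mem _, Tr_one⟩
       inv_mem' := fun h => ⟨inv_mem h.1, Tr_inv h.2⟩ }, fun _ => Iff.rfl⟩
  obtain ⟨x, hx⟩ : ∃ x : MulAut (Qb K), x = MulAut.conjNormal (⟨0, 1, 0, 0, 0, 0⟩ : GU K) := ⟨_, rfl⟩
  have hxΓ : x ∈ Γ := H.indu (mem_ind.2 ⟨_, hx⟩)
  have hxv : ∀ v : K × K, act h3 x v = (v.1, v.2 + v.1) := by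
    intro v
    rw [hx, act_cj]
    show (v.1, v.2 + 1 * v.1) = _
    rw [one_mul]
  have hX : ((rho h3 x : AddMonoid.End (K × K)) - 1) * ((rho h3 x : AddMonoid.End (K × K)) - 1) = 0 := by
    have h1 : ∀ v : K × K, ((rho h3 x : AddMonoid.End (K × K)) - 1) v = (0, v.1) := by
      intro v
      show act h3 x v - v = _
      rw [hxv]
      apply Prod.ext
      · simp
      · simp
    ext1 v
    show ((rho h3 x : AddMonoid.End (K × K)) - 1) (((rho h3 x : AddMonoid.End (K × K)) - 1) v) = 0
    rw [h1, h1]
    rfl
  have hfin : Finite (N.map (rho h3)) := ((Set.toFinite (N : Set (MulAut (Qb K)))).image (rho h3)).to_subtype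
  have hn : ∀ s ∈ N.map (rho h3), rho h3 x * s * (rho h3 x)⁻¹ ∈ N.map (rho h3) := by
    rintro _ ⟨s, hs, rfl⟩
    refine ⟨x * s * x⁻¹, ?_, by rw [map_mul, map_mul, map_inv]⟩
    have hs' := (hN s).1 hs
    exact (hN _).2 ⟨mul_mem (mul_mem hxΓ hs'.1) (inv_mem hxΓ), Tr_conj h3 hs'.2 x⟩
  have hn' : ∀ s ∈ N.map (rho h3), (rho h3 x)⁻¹ * s * rho h3 x ∈ N.map (rho h3) := by
    rintro _ ⟨s, hs, rfl⟩
    refine ⟨x⁻¹ * s * x, ?_, by rw [map_mul, map_mul, map_inv]⟩
    have hs' := (hN s).1 hs
    refine (hN _).2 ⟨mul_mem (mul_mem (inv_mem hxΓ) hs'.1) hxΓ, ?_⟩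
    have := Tr_conj h3 hs'.2 x⁻¹
    rwa [inv_inv] at this
  have hinn : ∀ s : MulAut (Qb K), s ∈ Inn (Qb K) → rho h3 s = 1 := by
    intro s hs
    apply Units.ext
    rw [rho_coe]
    ext1 v
    exact act_inn h3 hs v
  have hc : ∀ s ∈ N.map (rho h3), rho h3 x * s = s * rho h3 x → s = 1 := by
    rintro _ ⟨s, hs, rfl⟩ hcs
    have hs' := (hN s).1 hs
    apply hinn
    apply H.inn_of_comm hs'.1 hs'.2
    intro v
    have h1 : act h3 x (act h3 s v) = act h3 s (act h3 x v) := by
      have h2 := congrArg (fun y : (AddMonoid.End (K × K))ˣ => (y : AddMonoid.End (K × K)) v) hcs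
      exact h2
    rw [hxv, hxv] at h1
    exact h1.symm
  have h3' : ∀ s ∈ N.map (rho h3), s ^ 3 = 1 → s = 1 := by
    rintro _ ⟨s, hs, rfl⟩ hcs
    have hs' := (hN s).1 hs
    rw [← map_pow] at hcs
    have hT : Tr (s ^ 3) := by
      rw [pow_succ, pow_two]
      exact Tr_mul (Tr_mul hs'.2 hs'.2) hs'.2
    have hid : ∀ v, act h3 (s ^ 3) v = v := by
      intro v
      have h2 := congrArg (fun y : (AddMonoid.End (K × K))ˣ => (y : AddMonoid.End (K × K)) v) hcs
      exact h2
    have key : ∀ z : Qb K, Z z → ef ((s ^ 3) z) = ef z := fun z hz => by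
      rw [← act_ef h3 _ hz, hid]
    have h9 : (s ^ 3) ^ 3 ^ 2 = 1 :=
      chain h3 hT (fun z hz => congrArg Prod.fst (key z hz)) fun z hz _ => congrArg Prod.snd (key z hz)
    apply hinn
    apply H.inn_of_pow hs'.1 hs'.2 (k := 3)
    rw [← pow_mul] at h9
    exact h9
  have hfinal := trivial_of_quadratic (three_End h3) hX hn hn' hc h3' (rho h3 r) ⟨r, (hN r).2 ⟨hr, ht⟩, rfl⟩
  apply H.inn_of_act hr ht
  intro v
  have h2 := congrArg (fun y : (AddMonoid.End (K × K))ˣ => (y : AddMonoid.End (K × K)) v) hfinal
  exact h2

/-- **`Γ` moves `Z₄`** -/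
theorem main2 (hnn : ¬ ∀ γ ∈ Γ, NormAut ⊤ γ) :
    ∃ γ ∈ Γ, ∃ g : Qb K, (g : GU K).a = 0 ∧ ((γ g : Qb K) : GU K).a ≠ 0 := by
  by_contra hcon
  push Not at hcon
  apply hnn
  have h3 := H.three
  have := H.fin
  have := finite_MulAut (K := K)
  -- the characterization
  have Wiff : ∀ u : MulAut (Qb K), (∀ g : Qb K, ((u g : Qb K) : GU K).a = (g : GU K).a ∧
      ((g : GU K).a = 0 → ((u g : Qb K) : GU K).c = (g : GU K).c)) ↔
      ((∀ g : Qb K, ∃ z : Qb K, (z : GU K).a = 0 ∧ u g = g * z) ∧
        ∀ g : Qb K, (g : GU K).a = 0 → ∃ z : Qb K, Z z ∧ u g = g * z) := by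
    intro u
    constructor
    · intro h
      refine ⟨fun g => ⟨g⁻¹ * u g, ?_, by group⟩, fun g hg => ⟨g⁻¹ * u g, ⟨?_, ?_⟩, by group⟩⟩
      · rw [ma, ia, (h g).1]; ring
      · rw [ma, ia, (h g).1]; ring
      · rw [mc, ic, (h g).2 hg]; ring
    · rintro ⟨h1, h2⟩ g
      constructor
      · obtain ⟨z, hz, e⟩ := h1 g
        rw [e, ma, hz, add_zero]
      · intro hg
        obtain ⟨z, hz, e⟩ := h2 g hg
        rw [e, mc, hz.2, add_zero]
  obtain ⟨U, hU⟩ : ∃ U : Subgroup (MulAut (Qb K)), ∀ u, u ∈ U ↔ u ∈ Γ ∧
      ∀ g : Qb K, ((u g : Qb K) : GU K).a = (g : GU K).a ∧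
        ((g : GU K).a = 0 → ((u g : Qb K) : GU K).c = (g : GU K).c) :=
    ⟨{ carrier := {u | u ∈ Γ ∧ ∀ g : Qb K, ((u g : Qb K) : GU K).a = (g : GU K).a ∧
        ((g : GU K).a = 0 → ((u g : Qb K) : GU K).c = (g : GU K).c)}
       mul_mem' := fun {u v} h h' => ⟨mul_mem h.1 h'.1, fun g => by
         rw [MulAut.mul_apply]
         refine ⟨by rw [(h.2 _).1, (h'.2 _).1], fun hg => ?_⟩
         rw [(h.2 _).2 (by rw [(h'.2 _).1, hg]), (h'.2 _).2 hg]⟩
       one_mem' := ⟨one_mem _, fun g => ⟨rfl, fun _ => rfl⟩⟩
       inv_mem' := fun {u} h => ⟨inv_mem h.1, fun g => by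
         have h1 := h.2 (u⁻¹ g)
         rw [MulAut.apply_inv_self] at h1
         exact ⟨h1.1.symm, fun hg => (h1.2 (by rw [← h1.1, hg])).symm⟩⟩ }, fun _ => Iff.rfl⟩
  -- conjugation
  have hconj : ∀ γ ∈ Γ, ∀ u ∈ U, γ * u * γ⁻¹ ∈ U := by
    intro γ hγ u hu
    rw [hU, Wiff] at hu ⊢
    obtain ⟨hu1, hu2, hu3⟩ := hu
    refine ⟨mul_mem (mul_mem hγ hu1) (inv_mem hγ), fun g => ?_, fun g hg => ?_⟩
    · obtain ⟨z, hz, e⟩ := hu2 (γ⁻¹ g)
      refine ⟨γ z, hcon γ hγ z hz, ?_⟩
      rw [MulAut.mul_apply, MulAut.mul_apply, e, map_mul, MulAut.apply_inv_self]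
    · obtain ⟨z, hz, e⟩ := hu3 (γ⁻¹ g) (hcon _ (inv_mem hγ) g hg)
      refine ⟨γ z, Z_map h3 γ hz, ?_⟩
      rw [MulAut.mul_apply, MulAut.mul_apply, e, map_mul, MulAut.apply_inv_self]
  -- `U` is a `3`-group
  have hp : IsPGroup 3 U := by
    rintro ⟨u, hu⟩
    refine ⟨2, Subtype.ext ?_⟩
    rw [Subgroup.coe_pow, Subgroup.coe_one]
    show u ^ 3 ^ 2 = 1
    have hu' := (hU u).1 hu
    have hT : Tr (u ^ 3) := by
      intro g
      have e3 : (u ^ 3) g = u (u (u g)) := rfl
      rw [e3]
      refine ⟨by rw [(hu'.2 _).1, (hu'.2 _).1, (hu'.2 _).1], ?_⟩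
      obtain ⟨z, hz⟩ : ∃ z, z = g⁻¹ * u g := ⟨_, rfl⟩
      have e1 : u g = g * z := by rw [hz]; group
      have za : (z : GU K).a = 0 := by rw [hz, ma, ia, (hu'.2 g).1]; ring
      have zc : ((u z : Qb K) : GU K).c = (z : GU K).c := (hu'.2 z).2 za
      have zc' : ((u (u z) : Qb K) : GU K).c = (z : GU K).c := by
        rw [(hu'.2 (u z)).2 (by rw [(hu'.2 z).1, za]), zc]
      have s1 : u (u (u g)) = g * z * u z * u (u z) := by
        rw [e1, map_mul, e1, map_mul, map_mul, e1]
      rw [s1, mc, mc, mc, zc, zc']
      linear_combination (z : GU K).c * h3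
    obtain ⟨x, hx⟩ := H.main1 (pow_mem hu'.1 3) hT
    have h9 : u ^ 3 ^ 2 = (u ^ 3) ^ 3 := by rw [← pow_mul]; norm_num
    rw [h9, ← hx, ← map_pow, pow_succ, pow_two, cube_eq_one h3, map_one]
  -- `U = Aut_S(Q_b)`
  have hPU : autInducedBy ⊤ (Qb K) ≤ U := by
    intro y hy
    obtain ⟨x, rfl⟩ := mem_ind.1 hy
    refine (hU _).2 ⟨H.indu hy, fun g => ⟨cj_a x g, fun hg => ?_⟩⟩
    rw [cj_c, hg, mul_zero, add_zero]
  obtain ⟨g, hg, hgU⟩ := H.syl U (fun u hu => ((hU u).1 hu).1) hp
  have hcard : Nat.card U ≤ Nat.card (autInducedBy ⊤ (Qb K) : Subgroup (MulAut (Qb K))) := by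
    refine Nat.card_le_card_of_injective
      (fun u : U => (⟨g * u * g⁻¹, hgU u u.2⟩ : (autInducedBy ⊤ (Qb K) : Subgroup (MulAut (Qb K))))) ?_
    intro u v e
    have h1 := congrArg Subtype.val e
    exact Subtype.ext (mul_left_cancel (mul_right_cancel h1))
  have hEq : autInducedBy ⊤ (Qb K) = U := Subgroup.eq_of_le_of_card_ge hPU hcard
  intro γ hγ y hy
  rw [hEq] at hy ⊢
  exact hconj γ hγ y hy

end Hy

/-- **`StLb0`** -/
theorem stLb0 : StLb0.{u} := by
  intro K _ n hK Γ hind hsyl hnn hext
  have := hK.char
  have h3 : (3 : K) = 0 := by exact_mod_cast CharP.cast_eq_zero K 3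
  have H : Hy Γ := ⟨h3, hK.fin, hind, hsyl, hext⟩
  exact ⟨fun γ hγ ht => H.main1 hγ ht, H.main2 hnn⟩

end Cfsg.Agent.H428.GT
end

private theorem dce_86b29b389658 : _root_.True := by
  try have : _root_.True := by simp only [_root_.Cfsg.Agent.H428.GT.act.congr_simp]
  try have : _root_.True := by simp only [_root_.Cfsg.Agent.H428.GT.ef.eq_1]
  exact _root_.True.intro
end
end

-- part: H199/GT/Pos
section
set_option linter.all false
open scoped Cfsg.Agent.FastGrp

/-!
# S5211, task G2-POS (5440, helper199): every `p'`-group of automorphisms of `GU K` is conjugate into `TT K`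
-/

set_option autoImplicit false
set_option linter.unusedSectionVars false
set_option linter.unusedVariables false
set_option linter.unusedSimpArgs false

namespace Cfsg.Agent.H199.GT

open Cfsg Cfsg.FusionSystem Cfsg.Agent.H756.PU Cfsg.Agent.H779.G2 Cfsg.Agent.H103.GT

universe u

variable {K : Type u} [Field K] {p n : ℕ}

/-! ### invariant subgroups -/

/-- `α` preserves `Q` -/
def Pr (α : MulAut (GU K)) (Q : Subgroup (GU K)) : Prop := ∀ g, α g ∈ Q ↔ g ∈ Q

theorem iff_of_map {α : MulAut (GU K)} {Q Q' : Subgroup (GU K)} (h : Q.map α.toMonoidHom = Q') (g : GU K) :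
    α g ∈ Q' ↔ g ∈ Q := by
  rw [← h]
  exact Subgroup.mem_map_iff_mem α.injective

theorem Pr.inf {α : MulAut (GU K)} {Q R : Subgroup (GU K)} (hQ : Pr α Q) (hR : Pr α R) : Pr α (Q ⊓ R) :=
  fun g => ⟨fun h => ⟨(hQ g).1 h.1, (hR g).1 h.2⟩, fun h => ⟨(hQ g).2 h.1, (hR g).2 h.2⟩⟩

/-- the centralizer of an invariant subgroup is invariant -/
theorem Pr.cent {α : MulAut (GU K)} {Q H : Subgroup (GU K)} (hQ : Pr α Q)
    (hH : ∀ x, (∀ z ∈ Q, x * z = z * x) ↔ x ∈ H) : Pr α H := by
  intro g
  rw [← hH, ← hH]
  constructor
  · intro h z hz
    apply α.injective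
    rw [map_mul, map_mul, h _ ((hQ z).2 hz)]
  · intro h z hz
    obtain ⟨y, rfl⟩ := α.surjective z
    rw [← map_mul, ← map_mul, h y ((hQ y).1 hz)]

/-- the swapping alternative -/
def Sw (α : MulAut (GU K)) : Prop := (∀ g, α g ∈ Qb K ↔ g ∈ Qa K) ∧ (∀ g, α g ∈ Qa K ↔ g ∈ Qb K)

theorem pres (h : HypG K p n) (hq : 2 < p ^ n) (hTI : StTI.{u}) (α : MulAut (GU K)) :
    (Pr α (Qa K) ∧ Pr α (Qb K)) ∨ Sw α := by
  have h1 := (hTI h hq (Qa K) (Or.inl rfl)).2.2.2.2 α
  have h2 := (hTI h hq (Qb K) (Or.inr rfl)).2.2.2.2 α
  have hne : Qa K ≠ Qb K := by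
    intro he
    have h3 : x1 (1 : K) ∈ Qa K := he ▸ x1_mem 1
    exact one_ne_zero (mem_Qa.1 h3)
  have hinj : Function.Injective (Subgroup.map α.toMonoidHom) := Subgroup.map_injective α.injective
  rcases h1 with h1 | h1 <;> rcases h2 with h2 | h2
  · exact absurd (hinj (h1.trans h2.symm)) hne
  · exact Or.inl ⟨iff_of_map h1, iff_of_map h2⟩
  · exact Or.inr ⟨iff_of_map h1, iff_of_map h2⟩
  · exact absurd (hinj (h1.trans h2.symm)) hne

theorem pres' (h : HypG K p n) (hq : 2 < p ^ n) (hTI : StTI.{u}) (h3 : p ≠ 3) (α : MulAut (GU K)) :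
    Pr α (Qa K) ∧ Pr α (Qb K) :=
  ⟨iff_of_map ((hTI h hq (Qa K) (Or.inl rfl)).2.2.2.1 h3 α),
    iff_of_map ((hTI h hq (Qb K) (Or.inr rfl)).2.2.2.1 h3 α)⟩

theorem pr_Z4 (h : HypG K p n) (hq : 2 < p ^ n) (hTI : StTI.{u}) (α : MulAut (GU K)) : Pr α (Z4 K) := by
  rw [← Qa_inf_Qb]
  rcases pres h hq hTI α with h1 | h1
  · exact h1.1.inf h1.2
  · intro g
    exact ⟨fun h => ⟨(h1.1 g).1 h.2, (h1.2 g).1 h.1⟩, fun h => ⟨(h1.2 g).2 h.2, (h1.1 g).2 h.1⟩⟩

/-! ### characteristic `3` -/

/-- `X₃X₄X₆` -/
def Y3 (K : Type u) [Field K] : Subgroup (GU K) where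
  carrier := {g | g.a = 0 ∧ g.b = 0 ∧ g.e = 0}
  one_mem' := by simp
  mul_mem' := by
    rintro x y ⟨h1, h2, h3⟩ ⟨k1, k2, k3⟩
    simp [h1, h2, h3, k1, k2, k3]
  inv_mem' := by
    rintro x ⟨h1, h2, h3⟩
    simp [h1, h2, h3]

/-- `X₄X₆` -/
def ZS (K : Type u) [Field K] : Subgroup (GU K) where
  carrier := {g | g.a = 0 ∧ g.b = 0 ∧ g.c = 0 ∧ g.e = 0}
  one_mem' := by simp
  mul_mem' := by
    rintro x y ⟨h1, h2, h3, h4⟩ ⟨k1, k2, k3, k4⟩
    simp [h1, h2, h3, h4, k1, k2, k3, k4]
  inv_mem' := by
    rintro x ⟨h1, h2, h3, h4⟩
    simp [h1, h2, h3, h4]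

theorem cent_Qb_three (h3 : (3 : K) = 0) (x : GU K) : (∀ z ∈ Qb K, x * z = z * x) ↔ x ∈ Z3 K := by
  constructor
  · intro h
    obtain ⟨ha, hb⟩ := (cent_Z4_three h3).1 fun z hz => h z (Z4_le_Qb hz)
    have h1 := (comm_iff _ _).1 (h (x1 1) (x1_mem 1))
    rw [cm_d] at h1
    have h4 := h1.2.1
    simp only [x1, ha, hb] at h4
    exact ⟨ha, hb, by linear_combination -h4 + x.c * h3⟩
  · intro hx z hz
    exact (comm_Qb_Z3 h3 hz hx).symm

theorem cent_Qa_three (h3 : (3 : K) = 0) (x : GU K) : (∀ z ∈ Qa K, x * z = z * x) ↔ x ∈ Y3 K := by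
  constructor
  · intro h
    obtain ⟨ha, hb⟩ := (cent_Z4_three h3).1 fun z hz => h z (Z4_le_Qa hz)
    have h1 := (comm_iff _ _).1 (h (x2 1) (x2_mem 1))
    rw [cm_f] at h1
    have h4 := h1.2.2.2
    simp only [x2, ha, hb] at h4
    exact ⟨ha, hb, by linear_combination -h4⟩
  · rintro ⟨ha, hb, he⟩ z hz
    have hz' : z.a = 0 := hz
    rw [comm_iff, cm_c, cm_d, cm_e, cm_f]
    simp only [ha, hb, he, hz']
    refine ⟨?_, ?_, ?_, ?_⟩
    · ring
    · ring
    · ring
    · linear_combination (-x.c * z.d + x.d * z.c) * h3

/-! ### invariance of `Z₃` -/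

theorem pr_Z3_of_two (h2 : (2 : K) ≠ 0) {α : MulAut (GU K)} (hb : Pr α (Qb K)) (h4 : Pr α (Z4 K)) (hZ : Pr α (Z2 K)) :
    Pr α (Z3 K) := by
  have key : ∀ y : GU K, y ∈ Z3 K ↔ y ∈ Z4 K ∧ ∀ x ∈ Qb K, x * y * x⁻¹ * y⁻¹ ∈ Z2 K := by
    intro y
    constructor
    · intro hy
      exact ⟨Z3_le_Z4 hy, fun x hx => com_Qb_Z3 x hx y hy⟩
    · rintro ⟨hy, h1⟩
      have h5 := (mem_Z2.1 (h1 (x1 1) (x1_mem 1))).2.2.2
      rw [cm_d] at h5
      obtain ⟨ya, yb⟩ := mem_Z4.1 hy
      simp only [x1, ya, yb] at h5
      refine ⟨ya, yb, ?_⟩
      apply mul_left_cancel₀ h2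
      linear_combination -h5
  intro g
  rw [key, key, h4 g]
  refine and_congr_right (fun _ => ?_)
  constructor
  · intro h x hx
    have := h (α x) ((hb x).2 hx)
    rw [← map_inv, ← map_inv, ← map_mul, ← map_mul, ← map_mul] at this
    exact ((hZ _).1 this :)
  · intro h x hx
    obtain ⟨y, rfl⟩ := α.surjective x
    rw [← map_inv, ← map_inv, ← map_mul, ← map_mul, ← map_mul]
    exact (hZ _).2 (h y ((hb y).1 hx))

/-- `X₃X₅X₆` -/
def Z3s (K : Type u) [Field K] : Subgroup (GU K) where
  carrier := {g | g.a = 0 ∧ g.b = 0 ∧ g.d = 0}
  one_mem' := by simp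
  mul_mem' := by
    rintro x y ⟨h1, h2, h3⟩ ⟨k1, k2, k3⟩
    simp [h1, h2, h3, k1, k2, k3]
  inv_mem' := by
    rintro x ⟨h1, h2, h3⟩
    simp [h1, h2, h3]

/-- characteristic `2`: the elements of `Z₄` with exactly one non-zero coordinate among `c, d` -/
theorem two_key (h2 : (2 : K) = 0) (z : GU K) :
    (z ∈ Z4 K ∧ z ∉ Z2 K ∧ ∀ x ∈ Qb K, x * z * x⁻¹ * z⁻¹ ∈ Z1 K → x ∈ Z4 K) ↔
      (z ∈ Z4 K ∧ ((z.c = 0 ∧ z.d ≠ 0) ∨ (z.c ≠ 0 ∧ z.d = 0))) := by
  refine and_congr_right (fun hz => ?_)
  obtain ⟨za, zb⟩ := mem_Z4.1 hz
  have hcm : ∀ x ∈ Qb K, (x * z * x⁻¹ * z⁻¹ ∈ Z1 K ↔ x.a * (z.d + x.a * z.c) = 0) := by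
    intro x hx
    have hx' : x.b = 0 := hx
    rw [mem_Z1, cm_a, cm_b, cm_c, cm_d, cm_e]
    simp only [za, zb, hx']
    constructor
    · rintro ⟨-, -, -, -, h5⟩
      linear_combination h5 + (2 * x.a * z.d - x.a ^ 2 * z.c) * h2
    · intro h5
      refine ⟨trivial, trivial, by ring, ?_, ?_⟩
      · linear_combination (-x.a * z.c) * h2
      · linear_combination h5 + (x.a ^ 2 * z.c - 2 * x.a * z.d) * h2
  constructor
  · rintro ⟨h1, h3⟩
    by_cases hc : z.c = 0
    · left
      refine ⟨hc, fun hd => h1 ⟨za, zb, hc, hd⟩⟩
    · right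
      refine ⟨hc, ?_⟩
      by_contra hd
      have h4 := h3 (x1 (-z.d / z.c)) (x1_mem _) ((hcm _ (x1_mem _)).2 (by
        simp only [x1]
        have : z.d + -z.d / z.c * z.c = 0 := by
          rw [div_mul_cancel₀ _ hc]; ring
        rw [this, mul_zero]))
      have h5 : -z.d / z.c = 0 := (mem_Z4.1 h4).1
      rcases div_eq_zero_iff.1 h5 with h6 | h6
      · exact hd (neg_eq_zero.1 h6)
      · exact hc h6
  · rintro (⟨hc, hd⟩ | ⟨hc, hd⟩)
    · refine ⟨fun h => hd (mem_Z2.1 h).2.2.2, fun x hx h5 => ⟨?_, hx⟩⟩
      have h6 := (hcm x hx).1 h5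
      rw [hc, mul_zero, add_zero] at h6
      exact (mul_eq_zero.1 h6).resolve_right hd
    · refine ⟨fun h => hc (mem_Z2.1 h).2.2.1, fun x hx h5 => ⟨?_, hx⟩⟩
      have h6 := (hcm x hx).1 h5
      rw [hd, zero_add, ← mul_assoc] at h6
      exact mul_self_eq_zero.1 ((mul_eq_zero.1 h6).resolve_right hc)

/-- the property of `two_key` is invariant -/
theorem two_inv {α : MulAut (GU K)} (hb : Pr α (Qb K)) (h4 : Pr α (Z4 K)) (hZ2 : Pr α (Z2 K)) (hZ1 : Pr α (Z1 K))
    (z : GU K) :
    (α z ∈ Z4 K ∧ α z ∉ Z2 K ∧ ∀ x ∈ Qb K, x * α z * x⁻¹ * (α z)⁻¹ ∈ Z1 K → x ∈ Z4 K) ↔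
      (z ∈ Z4 K ∧ z ∉ Z2 K ∧ ∀ x ∈ Qb K, x * z * x⁻¹ * z⁻¹ ∈ Z1 K → x ∈ Z4 K) := by
  rw [h4 z, hZ2 z]
  refine and_congr_right (fun _ => and_congr_right (fun _ => ?_))
  constructor
  · intro h x hx h1
    refine (h4 x).1 (h (α x) ((hb x).2 hx) ?_)
    rw [← map_inv, ← map_inv, ← map_mul, ← map_mul, ← map_mul]
    exact (hZ1 _).2 h1
  · intro h x hx h1
    obtain ⟨y, rfl⟩ := α.surjective x
    rw [← map_inv, ← map_inv, ← map_mul, ← map_mul, ← map_mul] at h1
    exact (h4 y).2 (h y ((hb y).1 hx) (((hZ1 _).1 h1 :)))

theorem card_Z3s [Finite K] : Nat.card (Z3s K) = Nat.card K ^ 3 := by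
  let e : Z3s K ≃ K × K × K :=
    { toFun := fun x => ((x : GU K).c, (x : GU K).e, (x : GU K).f)
      invFun := fun y => ⟨⟨0, 0, y.1, 0, y.2.1, y.2.2⟩, ⟨rfl, rfl, rfl⟩⟩
      left_inv := fun x => by
        apply Subtype.ext
        obtain ⟨ha, hb, hd⟩ := x.2
        ext
        · exact ha.symm
        · exact hb.symm
        · rfl
        · exact hd.symm
        · rfl
        · rfl
      right_inv := fun y => rfl }
  rw [Nat.card_congr e, Nat.card_prod, Nat.card_prod]
  ring

/-- characteristic `2`: `Z₃` and `X₃X₅X₆` are preserved or swapped -/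
theorem two_dich [Finite K] (h2 : (2 : K) = 0) {α : MulAut (GU K)} (hb : Pr α (Qb K)) (h4 : Pr α (Z4 K))
    (hZ2 : Pr α (Z2 K)) (hZ1 : Pr α (Z1 K)) (Q : Subgroup (GU K)) (hQ : Q = Z3 K ∨ Q = Z3s K) :
    Q.map α.toMonoidHom = Z3 K ∨ Q.map α.toMonoidHom = Z3s K := by
  have hQ4 : Q ≤ Z4 K := by
    rcases hQ with rfl | rfl
    · exact Z3_le_Z4
    · exact fun g hg => ⟨hg.1, hg.2.1⟩
  have hcQ : Nat.card Q = Nat.card K ^ 3 := by
    rcases hQ with rfl | rfl
    · exact card_Z3
    · exact card_Z3s
  have hone : ∀ z ∈ Q, z ∉ Z2 K → z ∈ Z4 K ∧ ((z.c = 0 ∧ z.d ≠ 0) ∨ (z.c ≠ 0 ∧ z.d = 0)) := by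
    intro z hz hz2
    refine ⟨hQ4 hz, ?_⟩
    rcases hQ with rfl | rfl
    · obtain ⟨h1, h3, h5⟩ := hz
      exact Or.inl ⟨h5, fun h6 => hz2 ⟨h1, h3, h5, h6⟩⟩
    · obtain ⟨h1, h3, h5⟩ := hz
      exact Or.inr ⟨fun h6 => hz2 ⟨h1, h3, h6, h5⟩, h5⟩
  have himg : ∀ z ∈ Q, α z ∉ Z2 K → α z ∈ Z4 K ∧ (((α z).c = 0 ∧ (α z).d ≠ 0) ∨ ((α z).c ≠ 0 ∧ (α z).d = 0)) := by
    intro z hz hz2
    have h1 := hone z hz (fun h => hz2 ((hZ2 z).2 h))
    rw [← two_key h2, ← two_inv hb h4 hZ2 hZ1, two_key h2] at h1
    exact h1
  have hcard : Nat.card (Q.map α.toMonoidHom) = Nat.card K ^ 3 := by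
    rw [← hcQ]
    exact (Nat.card_congr (Q.equivMapOfInjective α.toMonoidHom α.injective).toEquiv).symm
  have hmain : Q.map α.toMonoidHom ≤ Z3 K ∨ Q.map α.toMonoidHom ≤ Z3s K := by
    by_contra hcon
    push Not at hcon
    obtain ⟨h5, h6⟩ := hcon
    obtain ⟨_, ⟨z1, hz1, rfl⟩, h7⟩ := SetLike.not_le_iff_exists.1 h5
    obtain ⟨_, ⟨z2, hz2, rfl⟩, h8⟩ := SetLike.not_le_iff_exists.1 h6
    change α z1 ∉ Z3 K at h7
    change α z2 ∉ Z3s K at h8
    have k1 := (mem_Z4.1 ((h4 z1).2 (hQ4 hz1)))
    have k2 := (mem_Z4.1 ((h4 z2).2 (hQ4 hz2)))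
    have c1 : (α z1).c ≠ 0 := fun h => h7 ⟨k1.1, k1.2, h⟩
    have d2 : (α z2).d ≠ 0 := fun h => h8 ⟨k2.1, k2.2, h⟩
    have d1 : (α z1).d = 0 := by
      rcases (himg z1 hz1 (fun h => c1 (mem_Z2.1 h).2.2.1)).2 with h9 | h9
      · exact absurd h9.1 c1
      · exact h9.2
    have c2 : (α z2).c = 0 := by
      rcases (himg z2 hz2 (fun h => d2 (mem_Z2.1 h).2.2.2)).2 with h9 | h9
      · exact h9.1
      · exact absurd h9.2 d2
    have c3 : (α (z1 * z2)).c = (α z1).c := by
      rw [map_mul, GU.mul_c, c2, k2.1]; ring
    have d3 : (α (z1 * z2)).d = (α z2).d := by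
      rw [map_mul, GU.mul_d, d1, k2.1]; ring
    rcases (himg (z1 * z2) (Q.mul_mem hz1 hz2) (fun h => c1 (c3 ▸ (mem_Z2.1 h).2.2.1))).2 with h9 | h9
    · exact c1 (c3 ▸ h9.1)
    · exact d2 (d3 ▸ h9.2)
  have hfin : ∀ H : Subgroup (GU K), Nat.card H = Nat.card K ^ 3 → Q.map α.toMonoidHom ≤ H →
      Q.map α.toMonoidHom = H := by
    intro H hH hle
    exact Subgroup.eq_of_le_of_card_ge hle (by rw [hH, hcard])
  rcases hmain with h5 | h5
  · exact Or.inl (hfin _ card_Z3 h5)
  · exact Or.inr (hfin _ card_Z3s h5)

/-- characteristic `2`: an automorphism of odd order preserves `Z₃` -/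
theorem pr_Z3_two [Finite K] (h2 : (2 : K) = 0) (hall : ∀ α : MulAut (GU K), Pr α (Qb K) ∧ Pr α (Z4 K) ∧ Pr α (Z2 K) ∧
    Pr α (Z1 K)) {α : MulAut (GU K)} {m : ℕ} (hm : α ^ m = 1) (hodd : Odd m) : Pr α (Z3 K) := by
  have hdi : ∀ Q : Subgroup (GU K), (Q = Z3 K ∨ Q = Z3s K) →
      Q.map α.toMonoidHom = Z3 K ∨ Q.map α.toMonoidHom = Z3s K := fun Q hQ =>
    two_dich h2 (hall α).1 (hall α).2.1 (hall α).2.2.1 (hall α).2.2.2 Q hQ
  have hne : Z3 K ≠ Z3s K := by
    intro he
    have h3 : x4 (1 : K) ∈ Z3s K := he ▸ x4_mem 1
    exact one_ne_zero h3.2.2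
  have hinj : Function.Injective (Subgroup.map α.toMonoidHom) := Subgroup.map_injective α.injective
  rcases hdi _ (Or.inl rfl) with h1 | h1
  · exact iff_of_map h1
  exfalso
  have h3 : (Z3s K).map α.toMonoidHom = Z3 K := by
    rcases hdi _ (Or.inr rfl) with h3 | h3
    · exact h3
    · exact absurd (hinj (h1.trans h3.symm)) hne
  -- even powers preserve, odd powers swap
  have hpow : ∀ k : ℕ, (Z3 K).map (α ^ (2 * k)).toMonoidHom = Z3 K := by
    intro k
    induction k with
    | zero =>
      rw [mul_zero, pow_zero]
      exact Subgroup.map_id _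
    | succ k ih =>
      have e : (Z3 K).map (α ^ (2 * (k + 1))).toMonoidHom =
          (((Z3 K).map (α ^ (2 * k)).toMonoidHom).map α.toMonoidHom).map α.toMonoidHom := by
        rw [Subgroup.map_map, Subgroup.map_map]
        congr 1
        refine MonoidHom.ext fun x => ?_
        change (α ^ (2 * (k + 1))) x = α (α ((α ^ (2 * k)) x))
        rw [show 2 * (k + 1) = 1 + 1 + 2 * k by ring, pow_add, pow_add, pow_one, MulAut.mul_apply, MulAut.mul_apply]
      rw [e, ih, h1, h3]
  obtain ⟨k, rfl⟩ := hodd
  have h5 := hpow k
  have h6 : ((Z3 K).map (α ^ (2 * k)).toMonoidHom).map α.toMonoidHom = Z3 K := by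
    rw [Subgroup.map_map]
    have e : (α.toMonoidHom.comp (α ^ (2 * k)).toMonoidHom) = MonoidHom.id (GU K) := by
      ext1 x
      change α ((α ^ (2 * k)) x) = x
      rw [← MulAut.mul_apply, ← pow_succ', hm, MulAut.one_apply]
    rw [e]
    exact Subgroup.map_id _
  rw [h5, h1] at h6
  exact hne h6.symm

/-! ### good automorphisms -/

/-- the invariance needed -/
structure Gd (α : MulAut (GU K)) : Prop where
  qa : Pr α (Qa K)
  qb : Pr α (Qb K)
  z4 : Pr α (Z4 K)
  z3 : Pr α (Z3 K)

/-- automorphisms of `p'`-order not swapping are good -/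
theorem gd_of (h : HypG K p n) (hq : 2 < p ^ n) (hTI : StTI.{u}) {α : MulAut (GU K)} (hs : ¬ Sw α) {m : ℕ}
    (hm : α ^ m = 1) (hpm : ¬ p ∣ m) : Gd α := by
  have hfin := h.fin
  have hch := h.char
  have h4 := pr_Z4 h hq hTI
  have hab := (pres h hq hTI α).resolve_right hs
  refine ⟨hab.1, hab.2, h4 α, ?_⟩
  by_cases hp3 : p = 3
  · subst hp3
    have h3 : (3 : K) = 0 := by exact_mod_cast CharP.cast_eq_zero K 3
    exact hab.2.cent (cent_Qb_three h3)
  have h3 : (3 : K) ≠ 0 := by
    intro h3
    have h5 : ((3 : ℕ) : K) = 0 := by exact_mod_cast h3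
    exact hp3 ((Nat.prime_dvd_prime_iff_eq h.pp Nat.prime_three).1 ((CharP.cast_eq_zero_iff K p 3).1 h5))
  have hqb : ∀ β : MulAut (GU K), Pr β (Qb K) := fun β => (pres' h hq hTI hp3 β).2
  have hz2 : ∀ β : MulAut (GU K), Pr β (Z2 K) := fun β => (hqb β).cent (fun x => cent_Qb h3)
  have hz1 : ∀ β : MulAut (GU K), Pr β (Z1 K) := fun β => (pres' h hq hTI hp3 β).1.cent (fun x => cent_Qa h3)
  by_cases hp2 : p = 2
  · subst hp2
    have h2 : (2 : K) = 0 := by exact_mod_cast CharP.cast_eq_zero K 2
    refine pr_Z3_two h2 (fun β => ⟨hqb β, h4 β, hz2 β, hz1 β⟩) hm ?_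
    exact Nat.not_even_iff_odd.1 (fun he => hpm he.two_dvd)
  · refine pr_Z3_of_two ?_ (hqb α) (h4 α) (hz2 α)
    intro h2
    have h5 : ((2 : ℕ) : K) = 0 := by exact_mod_cast h2
    exact hp2 ((Nat.prime_dvd_prime_iff_eq h.pp Nat.prime_two).1 ((CharP.cast_eq_zero_iff K p 2).1 h5))

/-! ### coordinates -/

theorem a_congr {α : MulAut (GU K)} (ha : Pr α (Qa K)) {x y : GU K} (h : x.a = y.a) : (α x).a = (α y).a := by
  have h1 : x⁻¹ * y ∈ Qa K := by
    rw [mem_Qa, GU.mul_a, GU.inv_a, h, neg_add_cancel]
  have h2 := mem_Qa.1 ((ha _).2 h1)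
  rw [map_mul, map_inv, GU.mul_a, GU.inv_a] at h2
  linear_combination -h2

theorem b_congr {α : MulAut (GU K)} (ha : Pr α (Qb K)) {x y : GU K} (h : x.b = y.b) : (α x).b = (α y).b := by
  have h1 : x⁻¹ * y ∈ Qb K := by
    rw [mem_Qb, GU.mul_b, GU.inv_b, h, neg_add_cancel]
  have h2 := mem_Qb.1 ((ha _).2 h1)
  rw [map_mul, map_inv, GU.mul_b, GU.inv_b] at h2
  linear_combination -h2

/-- coordinates on an invariant subgroup, additive there -/
theorem chi_congr {α : MulAut (GU K)} {P Q : Subgroup (GU K)} {χ : GU K → K} (hP : Pr α P) (hQ : Pr α Q)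
    (hχ : ∀ x ∈ P, ∀ y ∈ P, χ (x * y) = χ x + χ y) (hχi : ∀ x ∈ P, χ x⁻¹ = - χ x)
    (hPQ : ∀ x ∈ P, χ x = 0 ↔ x ∈ Q) {x y : GU K} (hx : x ∈ P) (hy : y ∈ P) (h : χ x = χ y) :
    χ (α x) = χ (α y) := by
  have h0 : x⁻¹ * y ∈ P := P.mul_mem (P.inv_mem hx) hy
  have h1 : x⁻¹ * y ∈ Q := by
    rw [← hPQ _ h0, hχ _ (P.inv_mem hx) _ hy, hχi _ hx, h, neg_add_cancel]
  have h2 := (hPQ _ ((hP _).2 h0)).2 ((hQ _).2 h1)
  rw [map_mul, map_inv, hχ _ (P.inv_mem ((hP x).2 hx)) _ ((hP y).2 hy), hχi _ ((hP x).2 hx)] at h2
  linear_combination -h2

theorem add_c {x y : GU K} (hx : x ∈ Z4 K) (hy : y ∈ Z4 K) : (x * y).c = x.c + y.c := by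
  rw [GU.mul_c, hx.2]; ring

theorem add_d {x y : GU K} (hx : x ∈ Z4 K) (hy : y ∈ Z4 K) : (x * y).d = x.d + y.d := by
  rw [GU.mul_d, hy.1]; ring

theorem add_e {x y : GU K} (hx : x ∈ Z4 K) (hy : y ∈ Z4 K) : (x * y).e = x.e + y.e := by
  rw [GU.mul_e, hy.1]; ring

theorem neg_c {x : GU K} (hx : x ∈ Z4 K) : (x⁻¹).c = - x.c := by
  rw [GU.inv_c, hx.1]; ring

theorem neg_d {x : GU K} (hx : x ∈ Z4 K) : (x⁻¹).d = - x.d := by
  rw [GU.inv_d, hx.1]; ring

theorem neg_e {x : GU K} (hx : x ∈ Z4 K) : (x⁻¹).e = - x.e := by
  rw [GU.inv_e, hx.1]; ring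

theorem c_congr {α : MulAut (GU K)} (h4 : Pr α (Z4 K)) (h3 : Pr α (Z3 K)) {x y : GU K} (hx : x ∈ Z4 K)
    (hy : y ∈ Z4 K) (h : x.c = y.c) : (α x).c = (α y).c :=
  chi_congr (χ := GU.c) h4 h3 (fun x hx y hy => add_c hx hy) (fun x hx => neg_c hx)
    (fun x hx => ⟨fun h => ⟨hx.1, hx.2, h⟩, fun h => h.2.2⟩) hx hy h

/-- the counting argument -/
theorem defect {P : Subgroup (GU K)} {χ : GU K → K} {α : MulAut (GU K)}
    (hχ : ∀ x ∈ P, ∀ y ∈ P, χ (x * y) = χ x + χ y) (hP : Pr α P)
    (hα : ∀ x ∈ P, χ (α x) = χ x) (h1 : χ 1 = 0) {x : GU K} (hx : x⁻¹ * α x ∈ P) {m : ℕ}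
    (hm : α ^ m = 1) (hm0 : (m : K) ≠ 0) : χ (x⁻¹ * α x) = 0 := by
  have key : ∀ j : ℕ, x⁻¹ * (α ^ j) x ∈ P ∧ χ (x⁻¹ * (α ^ j) x) = j * χ (x⁻¹ * α x) := by
    intro j
    induction j with
    | zero =>
      have e : x⁻¹ * (α ^ 0) x = 1 := by
        rw [pow_zero, MulAut.one_apply, inv_mul_cancel]
      rw [e]
      exact ⟨P.one_mem, by rw [h1, Nat.cast_zero, zero_mul]⟩
    | succ j ih =>
      have e : x⁻¹ * (α ^ (j + 1)) x = (x⁻¹ * α x) * α (x⁻¹ * (α ^ j) x) := by
        rw [pow_succ', MulAut.mul_apply, map_mul, map_inv]
        group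
      rw [e]
      refine ⟨P.mul_mem hx ((hP _).2 ih.1), ?_⟩
      rw [hχ _ hx _ ((hP _).2 ih.1), hα _ ih.1, ih.2]
      push_cast
      ring
  have h2 := (key m).2
  rw [hm, MulAut.one_apply, inv_mul_cancel, h1] at h2
  exact (mul_eq_zero.1 h2.symm).resolve_left hm0

/-! ### the automorphisms trivial on `S/Z₄` -/

variable (K) in
/-- the automorphisms trivial on `S/Z₄` -/
def RR : Subgroup (MulAut (GU K)) where
  carrier := {α | ∀ x, (α x).a = x.a ∧ (α x).b = x.b}
  one_mem' := fun x => ⟨rfl, rfl⟩
  mul_mem' := by
    intro α β ha hb x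
    rw [MulAut.mul_apply]
    exact ⟨((ha _).1).trans (hb x).1, ((ha _).2).trans (hb x).2⟩
  inv_mem' := by
    intro α ha x
    have h1 := ha (α⁻¹ x)
    have e : α (α⁻¹ x) = x := α.apply_symm_apply x
    rw [e] at h1
    exact ⟨h1.1.symm, h1.2.symm⟩

theorem RR_normal (hall : ∀ α : MulAut (GU K), Pr α (Z4 K)) : (RR K).Normal := by
  constructor
  intro α ha γ x
  have ha' : ∀ x, (α x).a = x.a ∧ (α x).b = x.b := ha
  have e : γ (γ⁻¹ x) = x := γ.apply_symm_apply x
  rw [MulAut.mul_apply, MulAut.mul_apply]
  have h1 := ha' (γ⁻¹ x)
  have h2 : (γ⁻¹ x)⁻¹ * α (γ⁻¹ x) ∈ Z4 K := by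
    rw [mem_Z4, GU.mul_a, GU.mul_b, GU.inv_a, GU.inv_b, h1.1, h1.2]
    exact ⟨neg_add_cancel _, neg_add_cancel _⟩
  have h3 := mem_Z4.1 ((hall γ _).2 h2)
  rw [map_mul, map_inv, e, GU.mul_a, GU.mul_b, GU.inv_a, GU.inv_b] at h3
  exact ⟨by linear_combination h3.1, by linear_combination h3.2⟩

/-- `α x = x z` -/
theorem split (α : MulAut (GU K)) (x : GU K) : ∃ z, z = x⁻¹ * α x ∧ α x = x * z :=
  ⟨_, rfl, by rw [mul_inv_cancel_left]⟩

/-- a `p'`-element of `RR` that preserves `Z₃` is trivial -/
theorem RR_trivial (h : HypG K p n) (hq : 2 < p ^ n) (hTI : StTI.{u}) {α : MulAut (GU K)} (ha : α ∈ RR K)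
    (hg : Gd α) {m : ℕ} (hm : α ^ m = 1) (hpm : ¬ p ∣ m) : α = 1 := by
  have hfin := h.fin
  have hch := h.char
  have hm0 : (m : K) ≠ 0 := by
    intro h0
    exact hpm ((CharP.cast_eq_zero_iff K p m).1 h0)
  have ha' : ∀ x, (α x).a = x.a ∧ (α x).b = x.b := ha
  obtain ⟨qa, qb, q4, q3⟩ := hg
  -- on `Z₄/Z₃`
  have s1 : ∀ y ∈ Z4 K, (α y).c = y.c := by
    intro y hy
    have e1 : (x2 y.c * x1 1 * (x2 y.c)⁻¹ * (x1 (1 : K))⁻¹).c = y.c := by
      rw [cm_c]; simp [x1, x2]
    have e2 : x2 y.c * x1 1 * (x2 y.c)⁻¹ * (x1 (1 : K))⁻¹ ∈ Z4 K := ⟨cm_a _ _, cm_b _ _⟩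
    rw [← c_congr q4 q3 e2 hy e1, map_mul, map_mul, map_mul, map_inv, map_inv, cm_c, (ha' _).1, (ha' _).2,
      (ha' _).1, (ha' _).2]
    simp [x1, x2]
  have d0 : ∀ x, x⁻¹ * α x ∈ Z4 K := by
    intro x
    rw [mem_Z4, GU.mul_a, GU.mul_b, GU.inv_a, GU.inv_b, (ha' x).1, (ha' x).2]
    exact ⟨neg_add_cancel _, neg_add_cancel _⟩
  have d1 : ∀ x, x⁻¹ * α x ∈ Z3 K := by
    intro x
    exact ⟨(d0 x).1, (d0 x).2, defect (P := Z4 K) (χ := GU.c) (fun x hx y hy => add_c hx hy) q4 s1 rfl (d0 x) hm hm0⟩
  have hc : ∀ x, (α x).c = x.c := by
    intro x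
    obtain ⟨z, hz, e⟩ := split α x
    have hz' := d1 x
    rw [← hz] at hz'
    obtain ⟨z1, z2, z3⟩ := hz'
    rw [e, GU.mul_c, z1, z3]; ring
  have hone : (∀ x, x⁻¹ * α x = 1) → α = 1 := by
    intro hx
    refine MulEquiv.ext fun x => ?_
    rw [MulAut.one_apply]
    exact (inv_mul_eq_one.1 (hx x)).symm
  apply hone
  by_cases h3 : (3 : K) = 0
  · -- characteristic `3`
    have hY : Pr α (Y3 K) := qa.cent (cent_Qa_three h3)
    have hZS : Pr α (ZS K) := by
      have : ZS K = Z3 K ⊓ Y3 K := by
        ext g
        exact ⟨fun h => ⟨⟨h.1, h.2.1, h.2.2.1⟩, ⟨h.1, h.2.1, h.2.2.2⟩⟩, fun h => ⟨h.1.1, h.1.2.1, h.1.2.2, h.2.2.2⟩⟩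
      rw [this]
      exact q3.inf hY
    have hem : ∀ x y : GU K, (x * y * x⁻¹ * y⁻¹).e = - x.a ^ 3 * y.b + x.b * y.a ^ 3 := by
      intro x y
      rw [cm_e]
      linear_combination (x.a * x.b * y.a ^ 2 - 2 * x.a * x.c * y.a + 2 * x.a * y.a * y.c - x.a * y.a ^ 2 * y.b -
        x.a * y.d + x.a ^ 2 * x.b * y.a - x.a ^ 2 * y.a * y.b + x.a ^ 2 * y.c - x.c * y.a ^ 2 + x.d * y.a) * h3
    have s2 : ∀ y ∈ Z4 K, (α y).e = y.e := by
      intro y hy
      have e1 : (x2 y.e * x1 1 * (x2 y.e)⁻¹ * (x1 (1 : K))⁻¹).e = y.e := by
        rw [hem]; simp [x1, x2]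
      have e2 : x2 y.e * x1 1 * (x2 y.e)⁻¹ * (x1 (1 : K))⁻¹ ∈ Z4 K := ⟨cm_a _ _, cm_b _ _⟩
      rw [← chi_congr (χ := GU.e) q4 hY (fun x hx y hy => add_e hx hy) (fun x hx => neg_e hx)
        (fun x hx => ⟨fun h => ⟨hx.1, hx.2, h⟩, fun h => h.2.2⟩) e2 hy e1, map_mul, map_mul, map_mul, map_inv, map_inv,
        hem, (ha' _).1, (ha' _).2, (ha' _).1, (ha' _).2]
      simp [x1, x2]
    have d2 : ∀ x, x⁻¹ * α x ∈ ZS K := by
      intro x
      exact ⟨(d1 x).1, (d1 x).2.1, (d1 x).2.2,
        defect (P := Z4 K) (χ := GU.e) (fun x hx y hy => add_e hx hy) q4 s2 rfl (d0 x) hm hm0⟩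
    have he : ∀ x, (α x).e = x.e := by
      intro x
      obtain ⟨z, hz, e⟩ := split α x
      have hz' := d2 x
      rw [← hz] at hz'
      obtain ⟨z1, z2, z3, z4⟩ := hz'
      rw [e, GU.mul_e, z1, z4]; ring
    -- commutators are fixed
    have hfix : ∀ x y : GU K, α (x * y * x⁻¹ * y⁻¹) = x * y * x⁻¹ * y⁻¹ := by
      intro x y
      have hd1 : (α (x * y * x⁻¹ * y⁻¹)).d = (x * y * x⁻¹ * y⁻¹).d := by
        rw [map_mul, map_mul, map_mul, map_inv, map_inv, cm_d, cm_d, (ha' x).1, (ha' x).2, (ha' y).1, (ha' y).2, hc, hc]
      have hf1 : (α (x * y * x⁻¹ * y⁻¹)).f = (x * y * x⁻¹ * y⁻¹).f := by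
        have hfm : ∀ x y : GU K, (x * y * x⁻¹ * y⁻¹).f = - 2 * x.a ^ 3 * y.b ^ 2 + x.b * y.e - x.b ^ 2 * y.a ^ 3 -
            x.e * y.b := by
          intro x y
          rw [cm_f]
          linear_combination (x.a * x.b * y.a ^ 2 * y.b - x.a * x.b ^ 2 * y.a ^ 2 - 2 * x.a * x.c * y.a * y.b -
            x.a * y.b * y.d + x.a * y.c ^ 2 + 2 * x.a ^ 2 * x.b * y.a * y.b - x.a ^ 2 * y.a * y.b ^ 2 +
            x.a ^ 2 * y.b * y.c + x.b * x.c * y.a ^ 2 + x.b * x.d * y.a - x.c * y.d - x.c ^ 2 * y.a + x.d * y.c) * h3
        rw [map_mul, map_mul, map_mul, map_inv, map_inv, hfm, hfm, (ha' x).1, (ha' x).2, (ha' y).1, (ha' y).2, he, he]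
      refine GU.ext (ha' _).1 (ha' _).2 (hc _) hd1 (he _) hf1
    have hd4 : ∀ t : K, α (x4 t) = x4 t := by
      intro t
      have e : x4 t = x1 1 * x3 t * (x1 1)⁻¹ * (x3 t)⁻¹ := by
        refine GU.ext ?_ ?_ ?_ ?_ ?_ ?_
        · rw [cm_a]; rfl
        · rw [cm_b]; rfl
        · rw [cm_c]; simp [x1, x3, x4]
        · rw [cm_d]
          simp only [x1, x3, x4]
          linear_combination t * h3
        · rw [hem]; simp [x1, x3, x4]
        · rw [cm_f]
          simp only [x1, x3, x4]
          linear_combination (-t ^ 2) * h3
      rw [e]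
      exact hfix _ _
    have hd6 : ∀ t : K, α (x6 t) = x6 t := by
      intro t
      have e : x6 t = x2 1 * x5 t * (x2 1)⁻¹ * (x5 t)⁻¹ := by
        refine GU.ext ?_ ?_ ?_ ?_ ?_ ?_
        · rw [cm_a]; rfl
        · rw [cm_b]; rfl
        · rw [cm_c]; simp [x2, x5, x6]
        · rw [cm_d]; simp [x2, x5, x6]
        · rw [cm_e]; simp [x2, x5, x6]
        · rw [cm_f]; simp [x2, x5, x6]
      rw [e]
      exact hfix _ _
    have hZf : ∀ y ∈ ZS K, α y = y := by
      intro y hy
      obtain ⟨y1, y2, y3, y4⟩ := hy
      have e : y = x4 y.d * x6 y.f := by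
        refine GU.ext ?_ ?_ ?_ ?_ ?_ ?_ <;> simp [x4, x6, y1, y2, y3, y4]
      rw [e, map_mul, hd4, hd6]
    intro x
    have hd : (x⁻¹ * α x).d = 0 := defect (P := ZS K) (χ := GU.d)
      (fun x hx y hy => add_d ⟨hx.1, hx.2.1⟩ ⟨hy.1, hy.2.1⟩) hZS (fun y hy => by rw [hZf y hy]) rfl (d2 x) hm hm0
    have hf : (x⁻¹ * α x).f = 0 := defect (P := ZS K) (χ := GU.f)
      (fun x hx y hy => by
        obtain ⟨x1, x2, x3, x4⟩ := hx
        obtain ⟨y1, y2, y3, y4⟩ := hy
        rw [GU.mul_f]
        simp only [x1, x2, x3, x4, y1, y2, y3, y4]; ring) hZS (fun y hy => by rw [hZf y hy]) rfl (d2 x) hm hm0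
    obtain ⟨z1, z2, z3, z4⟩ := d2 x
    exact GU.ext z1 z2 z3 hd z4 hf
  · -- characteristic `≠ 3`
    have hz2 : Pr α (Z2 K) := qb.cent (fun x => cent_Qb h3)
    have hz1 : Pr α (Z1 K) := qa.cent (fun x => cent_Qa h3)
    have hcd : ∀ x y : GU K, (α (x * y * x⁻¹ * y⁻¹)).d = (x * y * x⁻¹ * y⁻¹).d := by
      intro x y
      rw [map_mul, map_mul, map_mul, map_inv, map_inv, cm_d, cm_d, (ha' x).1, (ha' x).2, (ha' y).1, (ha' y).2, hc, hc]
    obtain ⟨t, ht0, ht1⟩ : ∃ t : K, t ≠ 0 ∧ 1 - t ≠ 0 := by
      by_contra hcon
      push Not at hcon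
      have h5 : Nat.card K ≤ 2 := by
        classical
        have := Fintype.ofFinite K
        rw [Nat.card_eq_fintype_card]
        have h7 : (Finset.univ : Finset K) ⊆ {0, 1} := by
          intro x _
          by_cases hx : x = 0
          · simp only [hx, _root_.Finset.mem_insert, _root_.Finset.mem_singleton, _root_.zero_ne_one, _root_.or_false]
          · have := hcon x hx
            simp only [(sub_eq_zero.1 this).symm, _root_.Finset.mem_insert, _root_.one_ne_zero, _root_.Finset.mem_singleton, _root_.or_true]
        calc Fintype.card K = (Finset.univ : Finset K).card := rfl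
          _ ≤ ({0, 1} : Finset K).card := Finset.card_le_card h7
          _ ≤ 2 := Finset.card_le_two
      rw [h.card] at h5
      omega
    have s2 : ∀ y ∈ Z3 K, (α y).d = y.d := by
      intro y hy
      set k : K := y.d / (t * (1 - t)) with hk
      have htt : t * (1 - t) ≠ 0 := mul_ne_zero ht0 ht1
      set u : GU K := x2 k * x1 t * (x2 k)⁻¹ * (x1 t)⁻¹ with hu
      set v : GU K := x2 (k * t) * x1 1 * (x2 (k * t))⁻¹ * (x1 1)⁻¹ with hv
      have u4 : u ∈ Z4 K := ⟨cm_a _ _, cm_b _ _⟩
      have v4 : v ∈ Z4 K := ⟨cm_a _ _, cm_b _ _⟩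
      have uc : u.c = k * t := by rw [hu, cm_c]; simp [x1, x2]
      have vc : v.c = k * t := by rw [hv, cm_c]; simp [x1, x2]
      have ud : u.d = - (k * t ^ 2) := by
        rw [hu, cm_d]; simp only [x1, x2]; ring
      have vd : v.d = - (k * t) := by
        rw [hv, cm_d]; simp only [x1, x2]; ring
      have w4 : u * v⁻¹ ∈ Z4 K := (Z4 K).mul_mem u4 ((Z4 K).inv_mem v4)
      have wc : (u * v⁻¹).c = 0 := by rw [add_c u4 ((Z4 K).inv_mem v4), neg_c v4, uc, vc]; ring
      have w3 : u * v⁻¹ ∈ Z3 K := ⟨w4.1, w4.2, wc⟩
      have wd : (u * v⁻¹).d = y.d := by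
        rw [add_d u4 ((Z4 K).inv_mem v4), neg_d v4, ud, vd]
        have : k * (t * (1 - t)) = y.d := by rw [hk, div_mul_cancel₀ _ htt]
        linear_combination this
      have e1 : (α (u * v⁻¹)).d = (α y).d :=
        chi_congr (χ := GU.d) q3 hz2 (fun x hx y hy => add_d (Z3_le_Z4 hx) (Z3_le_Z4 hy))
          (fun x hx => neg_d (Z3_le_Z4 hx))
          (fun x hx => ⟨fun h => ⟨hx.1, hx.2.1, hx.2.2, h⟩, fun h => h.2.2.2⟩) w3 hy wd
      rw [← e1, map_mul, map_inv, add_d ((q4 _).2 u4) ((Z4 K).inv_mem ((q4 _).2 v4)), neg_d ((q4 _).2 v4), hcd, hcd,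
        ← neg_d v4, ← add_d u4 ((Z4 K).inv_mem v4)]
      exact wd
    have d2 : ∀ x, x⁻¹ * α x ∈ Z2 K := by
      intro x
      exact ⟨(d1 x).1, (d1 x).2.1, (d1 x).2.2,
        defect (P := Z3 K) (χ := GU.d) (fun x hx y hy => add_d (Z3_le_Z4 hx) (Z3_le_Z4 hy)) q3 s2 rfl (d1 x) hm hm0⟩
    have hd : ∀ x, (α x).d = x.d := by
      intro x
      obtain ⟨z, hz, e⟩ := split α x
      have hz' := d2 x
      rw [← hz] at hz'
      obtain ⟨z1, z2, z3, z4⟩ := hz'
      rw [e, GU.mul_d, z1, z4]; ring
    have s3 : ∀ y ∈ Z2 K, (α y).e = y.e := by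
      intro y hy
      set w : GU K := x1 1 * x4 (- y.e / 3) * (x1 1)⁻¹ * (x4 (- y.e / 3))⁻¹ with hw
      have we : w.e = y.e := by
        rw [hw, cm_e]
        simp only [x1, x4]
        field_simp
        ring
      have w2 : w ∈ Z2 K := by
        refine ⟨cm_a _ _, cm_b _ _, ?_, ?_⟩
        · rw [hw, cm_c]; simp [x1, x4]
        · rw [hw, cm_d]; simp [x1, x4]
      have e1 : (α w).e = (α y).e :=
        chi_congr (χ := GU.e) hz2 hz1 (fun x hx y hy => add_e (Z2_le_Z4 hx) (Z2_le_Z4 hy))
          (fun x hx => neg_e (Z2_le_Z4 hx))
          (fun x hx => ⟨fun h => ⟨hx.1, hx.2.1, hx.2.2.1, hx.2.2.2, h⟩, fun h => h.2.2.2.2⟩) w2 hy we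
      rw [← e1, hw, map_mul, map_mul, map_mul, map_inv, map_inv, cm_e]
      rw [(ha' (x1 1)).1, (ha' (x1 1)).2, (ha' (x4 _)).1, (ha' (x4 _)).2, hc, hc, hd, hd, ← cm_e]
      exact we
    have d3 : ∀ x, x⁻¹ * α x ∈ Z1 K := by
      intro x
      exact ⟨(d2 x).1, (d2 x).2.1, (d2 x).2.2.1, (d2 x).2.2.2,
        defect (P := Z2 K) (χ := GU.e) (fun x hx y hy => add_e (Z2_le_Z4 hx) (Z2_le_Z4 hy)) hz2 s3 rfl (d2 x) hm hm0⟩
    have he : ∀ x, (α x).e = x.e := by
      intro x
      obtain ⟨z, hz, e⟩ := split α x
      have hz' := d3 x
      rw [← hz] at hz'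
      obtain ⟨z1, z2, z3, z4, z5⟩ := hz'
      rw [e, GU.mul_e, z1, z5]; ring
    have s4 : ∀ y ∈ Z1 K, (α y).f = y.f := by
      intro y hy
      obtain ⟨y1, y2, y3, y4, y5⟩ := hy
      have e : y = x2 1 * x5 y.f * (x2 1)⁻¹ * (x5 y.f)⁻¹ := by
        refine GU.ext ?_ ?_ ?_ ?_ ?_ ?_
        · rw [cm_a, y1]
        · rw [cm_b, y2]
        · rw [cm_c, y3]; simp [x2, x5]
        · rw [cm_d, y4]; simp [x2, x5]
        · rw [cm_e, y5]; simp [x2, x5]
        · rw [cm_f]; simp [x2, x5]
      have e1 : (α (x2 1 * x5 y.f * (x2 1)⁻¹ * (x5 y.f)⁻¹)).f = (x2 1 * x5 y.f * (x2 1)⁻¹ * (x5 y.f)⁻¹).f := by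
        rw [map_mul, map_mul, map_mul, map_inv, map_inv, cm_f, cm_f, (ha' (x2 1)).1, (ha' (x2 1)).2, (ha' (x5 _)).1,
          (ha' (x5 _)).2, hc, hc, hd, hd, he, he]
      rw [← e] at e1
      exact e1
    intro x
    have hf : (x⁻¹ * α x).f = 0 := defect (P := Z1 K) (χ := GU.f)
      (fun x hx y hy => by
        obtain ⟨x1, x2, x3, x4, x5⟩ := hx
        obtain ⟨y1, y2, y3, y4, y5⟩ := hy
        rw [GU.mul_f]
        simp only [x1, x2, x3, x4, x5, y1, y2, y3]; ring) hz1 s4 rfl (d3 x) hm hm0
    obtain ⟨z1, z2, z3, z4, z5⟩ := d3 x
    exact GU.ext z1 z2 z3 z4 z5 hf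

/-! ### `Aut (GU K) = RR · TT` -/

theorem finite_mulAut (h : HypG K p n) : Finite (MulAut (GU K)) := by
  have := h.fin
  exact Finite.of_injective (fun α : MulAut (GU K) => (α : GU K → GU K)) (fun α β hab => by
    ext1 x
    exact congrFun hab x)

/-- a good automorphism agrees on `S/Z₄` with a torus element -/
theorem exists_tt (h : HypG K p n) {α : MulAut (GU K)} (hg : Gd α) : ∃ β ∈ TT K, α * β⁻¹ ∈ RR K := by
  have hfin := h.fin
  obtain ⟨qa, qb, q4, q3⟩ := hg
  let f : K → K := fun t => (α (x1 t)).a
  let g : K → K := fun t => (α (x2 t)).b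
  let k : K → K := fun t => (α (x3 t)).c
  have hf : ∀ x, (α x).a = f x.a := fun x => a_congr qa rfl
  have hgg : ∀ x, (α x).b = g x.b := fun x => b_congr qb rfl
  have hk : ∀ x ∈ Z4 K, (α x).c = k x.c := fun x hx => c_congr q4 q3 hx (x3_mem _) rfl
  have fadd : ∀ s t, f (s + t) = f s + f t := by
    intro s t
    have := hf (x1 s * x1 t)
    rw [map_mul, GU.mul_a, hf, hf, GU.mul_a] at this
    exact this.symm
  have gadd : ∀ s t, g (s + t) = g s + g t := by
    intro s t
    have := hgg (x2 s * x2 t)
    rw [map_mul, GU.mul_b, hgg, hgg, GU.mul_b] at this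
    exact this.symm
  have f0 : f 0 = 0 := by
    have := fadd 0 0
    rw [add_zero] at this
    linear_combination -this
  have g0 : g 0 = 0 := by
    have := gadd 0 0
    rw [add_zero] at this
    linear_combination -this
  have hcom : ∀ s t, k (s * t) = g s * f t := by
    intro s t
    have e1 : (x2 s * x1 t * (x2 s)⁻¹ * (x1 t)⁻¹).c = s * t := by
      rw [cm_c]; simp [x1, x2]
    have e2 : x2 s * x1 t * (x2 s)⁻¹ * (x1 t)⁻¹ ∈ Z4 K := ⟨cm_a _ _, cm_b _ _⟩
    rw [← e1, ← hk _ e2, map_mul, map_mul, map_mul, map_inv, map_inv, cm_c, hf, hf, hgg, hgg]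
    have a1 : (x1 t : GU K).a = t := rfl
    have a2 : (x2 s : GU K).b = s := rfl
    have a3 : (x2 s : GU K).a = 0 := rfl
    have a4 : (x1 t : GU K).b = 0 := rfl
    rw [a1, a2, a3, a4, f0, g0]
    ring
  have f1 : f 1 ≠ 0 := by
    intro h0
    have h1 : α (x1 1) ∈ Qa K := h0
    exact one_ne_zero (mem_Qa.1 ((qa _).1 h1))
  have g1 : g 1 ≠ 0 := by
    intro h0
    have h1 : α (x2 1) ∈ Qb K := h0
    exact one_ne_zero (mem_Qb.1 ((qb _).1 h1))
  have hgf : ∀ t, g 1 * f t = g t * f 1 := by
    intro t
    rw [← hcom, ← hcom, one_mul, mul_one]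
  have hff : ∀ s t, f (s * t) * f 1 = f s * f t := by
    intro s t
    apply mul_left_cancel₀ g1
    have h1 : g 1 * f (s * t) = g s * f t := by
      rw [← hcom, ← hcom, one_mul]
    linear_combination f 1 * h1 - f t * hgf s
  let φ : K →+* K :=
    { toFun := fun t => f t * (f 1)⁻¹
      map_one' := mul_inv_cancel₀ f1
      map_mul' := by
        intro s t
        field_simp
        linear_combination hff s t
      map_zero' := by rw [f0, zero_mul]
      map_add' := by
        intro s t
        rw [fadd, add_mul] }
  have hbij : Function.Bijective φ := Finite.injective_iff_bijective.1 φ.injective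
  let τ : K ≃+* K := RingEquiv.ofBijective φ hbij
  have hτ : ∀ t, τ t = f t * (f 1)⁻¹ := fun t => rfl
  obtain ⟨β, hβ⟩ := exists_tor τ f1 g1
  refine ⟨β, Subgroup.subset_closure (Or.inl ⟨_, _, _, hβ⟩), ?_⟩
  have e1 : ∀ x, (α x).a = (β x).a := by
    intro x
    rw [hf, hβ.a, hτ]
    field_simp
  have e2 : ∀ x, (α x).b = (β x).b := by
    intro x
    rw [hgg, hβ.b, hτ]
    field_simp
    linear_combination -hgf x.b
  intro x
  have e : β (β⁻¹ x) = x := β.apply_symm_apply x
  rw [MulAut.mul_apply, e1, e2, e]
  exact ⟨rfl, rfl⟩

theorem not_sw_of_RR {α : MulAut (GU K)} (ha : α ∈ RR K) : ¬ Sw α := by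
  intro h
  have h1 := (h.1 (x2 (1 : K))).2 (x2_mem 1)
  have h2 := (ha (x2 (1 : K))).2
  rw [mem_Qb, h2] at h1
  exact one_ne_zero h1

theorem RR_inf_TT (h : HypG K p n) : RR K ⊓ TT K = ⊥ := by
  have hfin := h.fin
  rw [eq_bot_iff]
  rintro α ⟨h1, h2⟩
  have h1' : ∀ x, (α x).a = x.a ∧ (α x).b = x.b := h1
  rcases mem_TT h2 with ⟨s, t, τ, hα⟩ | ⟨s, t, τ, α', ρ, hα, hρ, rfl⟩
  · have e1 : ∀ u, s * τ u = u := by
      intro u
      have := (h1' (x1 u)).1
      rw [hα.a] at this
      exact this
    have e2 : ∀ u, t * τ u = u := by
      intro u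
      have := (h1' (x2 u)).2
      rw [hα.b] at this
      exact this
    have es : s = 1 := by
      have := e1 1
      rwa [map_one, mul_one] at this
    have et : t = 1 := by
      have := e2 1
      rwa [map_one, mul_one] at this
    have eτ : ∀ u, τ u = u := by
      intro u
      have := e1 u
      rwa [es, one_mul] at this
    rw [Subgroup.mem_bot]
    refine ext_aut fun x => ?_
    rw [MulAut.one_apply, hα.a, hα.b, hα.c, hα.d, hα.e, hα.f, es, et]
    simp only [eτ, one_mul, one_pow, and_self]
  · exfalso
    have h3 := (h1' (x1 1)).1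
    rw [MulAut.mul_apply, hα.a, hρ.a] at h3
    have h4 : s * τ 0 = 1 := h3
    rw [map_zero, mul_zero] at h4
    exact zero_ne_one h4

theorem RR_card (h : HypG K p n) (hq : 2 < p ^ n) (hTI : StTI.{u}) : ∃ e : ℕ, Nat.card (RR K) = p ^ e := by
  have := finite_mulAut h
  refine ⟨_, Nat.eq_prime_pow_of_unique_prime_dvd (Nat.card_pos (α := RR K)).ne' ?_⟩
  intro d hd hdvd
  by_contra hne
  have : Fact d.Prime := ⟨hd⟩
  obtain ⟨α, hα⟩ := exists_prime_orderOf_dvd_card' (G := RR K) d hdvd
  have h1 : (α : MulAut (GU K)) ^ d = 1 := by
    rw [← SubmonoidClass.coe_pow, ← hα, pow_orderOf_eq_one, OneMemClass.coe_one]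
  have hpd : ¬ p ∣ d := fun h3 => hne ((Nat.prime_dvd_prime_iff_eq h.pp hd).1 h3).symm
  have h2 : (α : MulAut (GU K)) = 1 :=
    RR_trivial h hq hTI α.2 (gd_of h hq hTI (not_sw_of_RR α.2) h1 hpd) h1 hpd
  have h3 : α = 1 := Subtype.ext h2
  rw [h3, orderOf_one] at hα
  exact hd.one_lt.ne hα

/-! ### the conjugation -/

open scoped Pointwise in
/-- Schur-Zassenhaus inside a subgroup -/
theorem sz_in {G : Type u} [Group G] [Finite G] (R D T : Subgroup G) [R.Normal] (hs : Group.IsSolvable R)
    (hcop : (Nat.card D).Coprime (Nat.card R)) (hRT : R ⊓ T = ⊥)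
    (hall : ∀ x ∈ D, ∃ t ∈ T, x * t⁻¹ ∈ R) : ∃ g : G, ∀ d ∈ D, g * d * g⁻¹ ∈ T := by
  let L : Subgroup G := D ⊔ R
  have hDL : D ≤ L := le_sup_left
  have hRL : R ≤ L := le_sup_right
  let N : Subgroup L := R.subgroupOf L
  have hN : N.Normal := inferInstance
  let H : Subgroup L := D.subgroupOf L
  let T' : Subgroup L := T.subgroupOf L
  have cN : Nat.card N = Nat.card R := Nat.card_congr (Subgroup.subgroupOfEquivOfLe hRL).toEquiv
  have cH : Nat.card H = Nat.card D := Nat.card_congr (Subgroup.subgroupOfEquivOfLe hDL).toEquiv
  have hDR : D ⊓ R = ⊥ := (Subgroup.disjoint_of_coprime_natCard hcop).eq_bot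
  have hNH : N.IsComplement' H := by
    refine Subgroup.isComplement'_of_disjoint_and_mul_eq_univ ?_ ?_
    · rw [disjoint_iff, eq_bot_iff]
      rintro ⟨x, hx⟩ ⟨h1, h2⟩
      have h3 : x ∈ D ⊓ R := ⟨h2, h1⟩
      rw [hDR] at h3
      exact Subgroup.mem_bot.2 (Subtype.ext h3)
    · rw [Set.eq_univ_iff_forall]
      rintro ⟨x, hx⟩
      have hx' : x ∈ ((R ⊔ D : Subgroup G) : Set G) := by
        rw [sup_comm]
        exact hx
      rw [Subgroup.normal_mul] at hx'
      obtain ⟨r, hr, d, hd, rfl⟩ := Set.mem_mul.1 hx'
      exact Set.mem_mul.2 ⟨⟨r, hRL hr⟩, hr, ⟨d, hDL hd⟩, hd, rfl⟩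
  have hNT : N.IsComplement' T' := by
    refine Subgroup.isComplement'_of_disjoint_and_mul_eq_univ ?_ ?_
    · rw [disjoint_iff, eq_bot_iff]
      rintro ⟨x, hx⟩ ⟨h1, h2⟩
      have h3 : x ∈ R ⊓ T := ⟨h1, h2⟩
      rw [hRT] at h3
      exact Subgroup.mem_bot.2 (Subtype.ext h3)
    · rw [Set.eq_univ_iff_forall]
      rintro ⟨x, hx⟩
      have hx' : x ∈ ((R ⊔ D : Subgroup G) : Set G) := by
        rw [sup_comm]
        exact hx
      rw [Subgroup.normal_mul] at hx'
      obtain ⟨r, hr, d, hd, rfl⟩ := Set.mem_mul.1 hx'
      obtain ⟨t, ht, hdt⟩ := hall d hd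
      have hxt : r * d * t⁻¹ ∈ R := by
        rw [mul_assoc]
        exact R.mul_mem hr hdt
      have htL : t ∈ L := by
        have h5 : (r * d * t⁻¹)⁻¹ * (r * d) ∈ L := L.mul_mem (L.inv_mem (hRL hxt)) hx
        have h6 : (r * d * t⁻¹)⁻¹ * (r * d) = t := by group
        rwa [h6] at h5
      refine Set.mem_mul.2 ⟨⟨r * d * t⁻¹, hRL hxt⟩, hxt, ⟨t, htL⟩, ht, ?_⟩
      exact Subtype.ext (inv_mul_cancel_right (r * d) t)
  have iH : Nat.card H = N.index := hNH.symm.index_eq_card.symm
  have iT : Nat.card T' = N.index := hNT.symm.index_eq_card.symm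
  have hcop' : (Nat.card N).Coprime N.index := by
    rw [cN, ← iH, cH]
    exact hcop.symm
  have hsN : Group.IsSolvable N :=
    Group.isSolvable_of_isSolvable_injective (f := (Subgroup.subgroupOfEquivOfLe hRL).toMonoidHom)
      (Subgroup.subgroupOfEquivOfLe hRL).injective
  obtain ⟨g, hg⟩ := Cfsg.Agent.Solvable.SZ.main (Nat.card L) L rfl N hcop' H T' (Or.inl hsN) iH iT
  refine ⟨g, fun d hd => ?_⟩
  have h1 : MulAut.conj g • (⟨d, hDL hd⟩ : L) ∈ MulAut.conj g • H :=
    Subgroup.smul_mem_pointwise_smul _ _ _ hd
  rw [hg] at h1
  exact h1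

/-- **[G2-POS]** `StPos` from `StTI` -/
theorem stPos (hTI : StTI.{u}) : StPos.{u} := by
  intro K _ p n h hq D hD
  have hfin := h.fin
  have hch := h.char
  have := finite_mulAut h
  have : (RR K).Normal := RR_normal (pr_Z4 h hq hTI)
  obtain ⟨e, he⟩ := RR_card h hq hTI
  have hp : Fact p.Prime := ⟨h.pp⟩
  have hpg : IsPGroup p (RR K) := IsPGroup.of_card he
  have hnil := hpg.isNilpotent
  have hs : Group.IsSolvable (RR K) := inferInstance
  refine sz_in (RR K) D (TT K) hs ?_ (RR_inf_TT h) ?_
  · rw [he]
    exact Nat.Coprime.pow_right e hD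
  intro d hd
  have hm : d ^ Nat.card D = 1 := by
    have h1 : (⟨d, hd⟩ : D) ^ Nat.card D = 1 := pow_card_eq_one'
    exact congrArg Subtype.val h1
  have hpm : ¬ p ∣ Nat.card D := by
    intro h1
    exact (Nat.Prime.coprime_iff_not_dvd h.pp).1 hD.symm h1
  by_cases hsw : Sw d
  · -- only in characteristic `3`
    have hp3 : p = 3 := by
      by_contra hp3
      have h1 := (pres' h hq hTI hp3 d).1
      have h2 := (hsw.1 (x2 (1 : K))).2 (x2_mem 1)
      have h3 := (h1 (x2 (1 : K))).2 (x2_mem 1)
      have h4 : d (x2 1) ∈ Z4 K := ⟨h3, h2⟩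
      have h5 := (mem_Z4.1 ((pr_Z4 h hq hTI d _).1 h4)).2
      exact one_ne_zero h5
    subst hp3
    have h3 : (3 : K) = 0 := by exact_mod_cast CharP.cast_eq_zero K 3
    obtain ⟨ρ, hρ⟩ := exists_gr h3
    have hg : Gd (d * ρ⁻¹) := by
      have hρa : ∀ g, ρ⁻¹ g ∈ Qb K ↔ g ∈ Qa K := by
        intro g
        have e : ρ (ρ⁻¹ g) = g := ρ.apply_symm_apply g
        have h5 := hρ.a (ρ⁻¹ g)
        rw [e] at h5
        rw [mem_Qb, mem_Qa, h5]
      have hρb : ∀ g, ρ⁻¹ g ∈ Qa K ↔ g ∈ Qb K := by
        intro g
        have e : ρ (ρ⁻¹ g) = g := ρ.apply_symm_apply g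
        have h5 := hρ.b (ρ⁻¹ g)
        rw [e] at h5
        rw [mem_Qb, mem_Qa, h5]
        exact (pow_eq_zero_iff (by norm_num)).symm
      have ha : Pr (d * ρ⁻¹) (Qa K) := fun g => by rw [MulAut.mul_apply, hsw.2, hρa]
      have hb : Pr (d * ρ⁻¹) (Qb K) := fun g => by rw [MulAut.mul_apply, hsw.1, hρb]
      exact ⟨ha, hb, pr_Z4 h hq hTI _, hb.cent (cent_Qb_three h3)⟩
    obtain ⟨β, hβ, h5⟩ := exists_tt h hg
    refine ⟨β * ρ, (TT K).mul_mem hβ (Subgroup.subset_closure (Or.inr hρ)), ?_⟩
    rw [mul_inv_rev, ← mul_assoc]
    exact h5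
  · exact exists_tt h (gd_of h hq hTI hsw hm hpm)

end Cfsg.Agent.H199.GT
end

section
prune_inst 0xfcfdfbeff8addfdfff7ffffefddffd99b87fffefdffdcbffe8e1ff0fdf4b0a8fe7fb8f8ff010fe1ef6e21c10b87853fbfffeffea6ffc7ffffdfff45ffbee4fe5f7bd08719698340fbc0fff63f07f8e7f000000000000000000000000000000000200000000

-- part: H234/GT/Elt
section
prune_inst 0x30004100652202000800001022000660380000020020400031c00800004f550080060100f2b008108082105470380040001001400010000000003800011b01a080024000926c0104260009800000000000000000000000000000000000041000000000000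
set_option linter.all false
open scoped Cfsg.Agent.FastGrp

-- part: H234/GT/Oct
section
/-!
# S5211, task G2-Q2-G23: the automorphism group of the octonions over `F₃` in an orthonormal basis

`OG` is the automorphism group of the algebra with basis `e₀, …, e₇`, `e_i e_j = ± e_{i xor j}`, over `F₃`; it is isomorphic to
`G₂(3)` and has order `64 · 66339`.
-/

set_option autoImplicit false

namespace Cfsg.Agent.H234.GT

open Cfsg.Lie Matrix

/-- vectors -/
abbrev V : Type := Fin 8 → ZMod 3

/-- the multiplication of the octonions -/
def oct (x y : V) : V :=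
  ![x 0 * y 0 - x 1 * y 1 - x 2 * y 2 - x 3 * y 3 - x 4 * y 4 - x 5 * y 5 - x 6 * y 6 - x 7 * y 7,
    x 0 * y 1 + x 1 * y 0 + x 2 * y 3 - x 3 * y 2 + x 4 * y 5 - x 5 * y 4 - x 6 * y 7 + x 7 * y 6,
    x 0 * y 2 - x 1 * y 3 + x 2 * y 0 + x 3 * y 1 + x 4 * y 6 + x 5 * y 7 - x 6 * y 4 - x 7 * y 5,
    x 0 * y 3 + x 1 * y 2 - x 2 * y 1 + x 3 * y 0 + x 4 * y 7 - x 5 * y 6 + x 6 * y 5 - x 7 * y 4,
    x 0 * y 4 - x 1 * y 5 - x 2 * y 6 - x 3 * y 7 + x 4 * y 0 + x 5 * y 1 + x 6 * y 2 + x 7 * y 3,
    x 0 * y 5 + x 1 * y 4 - x 2 * y 7 + x 3 * y 6 - x 4 * y 1 + x 5 * y 0 - x 6 * y 3 + x 7 * y 2,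
    x 0 * y 6 + x 1 * y 7 + x 2 * y 4 - x 3 * y 5 - x 4 * y 2 + x 5 * y 3 + x 6 * y 0 - x 7 * y 1,
    x 0 * y 7 - x 1 * y 6 + x 2 * y 5 + x 3 * y 4 - x 4 * y 3 - x 5 * y 2 + x 6 * y 1 + x 7 * y 0]

/-- the automorphism group of the octonions over `F₃` -/
abbrev OG : Subgroup (GL (Fin 8) (ZMod 3)) := mulAut (ZMod 3) oct

/-- the action on vectors -/
def ac (g : OG) (x : V) : V := ((g : GL (Fin 8) (ZMod 3)) : Matrix (Fin 8) (Fin 8) (ZMod 3)) *ᵥ x

theorem ac_mul (g h : OG) (x : V) : ac (g * h) x = ac g (ac h x) := by
  rw [ac, ac, ac, Matrix.mulVec_mulVec]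
  rfl

theorem ac_one (x : V) : ac (1 : OG) x = x := Matrix.one_mulVec x

theorem ac_ext {g h : OG} (H : ∀ x, ac g x = ac h x) : g = h := by
  apply Subtype.ext
  apply Units.ext
  exact Matrix.ext_of_mulVec_single fun i => H _

theorem ac_add (g : OG) (x y : V) : ac g (x + y) = ac g x + ac g y := Matrix.mulVec_add _ _ _

theorem ac_smul (g : OG) (c : ZMod 3) (x : V) : ac g (c • x) = c • ac g x := Matrix.mulVec_smul _ _ _

theorem ac_neg (g : OG) (x : V) : ac g (-x) = -ac g x := Matrix.mulVec_neg _ _

theorem ac_oct (g : OG) (x y : V) : ac g (oct x y) = oct (ac g x) (ac g y) := g.2 x y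

theorem ac_ac_inv (g : OG) (x : V) : ac g (ac g⁻¹ x) = x := by
  rw [← ac_mul, mul_inv_cancel, ac_one]

/-! ### the isomorphism with `G₂(3)` -/

/-- the base change -/
def bc (x : V) : V :=
  ![x 0 + x 6 - x 7, x 1 + x 6 + x 7, x 2 + x 4 - x 5, -x 3 + x 4 + x 5, -x 1 + x 6 + x 7, -x 2 + x 4 - x 5, x 3 + x 4 + x 5,
    x 0 - x 6 + x 7]

/-- the inverse of the base change -/
def bci (x : V) : V :=
  ![-x 0 - x 7, -x 1 + x 4, -x 2 + x 5, x 3 - x 6, x 2 + x 3 + x 5 + x 6, -x 2 + x 3 - x 5 + x 6, x 0 + x 1 + x 4 - x 7,
    -x 0 + x 1 + x 4 + x 7]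

theorem bc_bci (x : V) : bc (bci x) = x := by
  ext i
  (revert i; simp only [bc, bci, _root_.Fin.forall_fin_succ, Fin.isValue, _root_.Matrix.cons_val_zero, _root_.Matrix.cons_val, _root_.Matrix.cons_val_one, _root_.neg_sub, _root_.neg_add_rev, _root_.neg_neg, _root_.sub_add_add_cancel, _root_.sub_sub_sub_cancel_right, _root_.Matrix.cons_val_succ, _root_.Fin.succ_zero_eq_one, _root_.Fin.succ_one_eq_two, Fin.reduceSucc, _root_.Matrix.cons_val_fin_one, _root_.IsEmpty.forall_iff, _root_.and_true]) <;> grind

theorem bci_bc (x : V) : bci (bc x) = x := by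
  ext i
  (revert i; simp only [bc, bci, _root_.Fin.forall_fin_succ, Fin.isValue, _root_.Matrix.cons_val_zero, _root_.neg_sub, _root_.Matrix.cons_val, _root_.Matrix.cons_val_one, _root_.neg_add_rev, _root_.sub_add_sub_cancel', _root_.add_sub_add_right_eq_sub, _root_.sub_add_add_cancel, _root_.Matrix.cons_val_succ, _root_.Fin.succ_zero_eq_one, _root_.Fin.succ_one_eq_two, Fin.reduceSucc, _root_.Matrix.cons_val_fin_one, _root_.IsEmpty.forall_iff, _root_.and_true]) <;> grind

theorem bc_oct (x y : V) : bc (oct x y) = zornMul (bc x) (bc y) := by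
  ext i
  (revert i; simp only [bc, oct, zornMul, zA, zB, dot3, cross3, _root_.Fin.forall_fin_succ, Fin.isValue, _root_.Matrix.cons_val_zero, _root_.Matrix.cons_val, _root_.Matrix.cons_val_one, _root_.neg_sub, _root_.neg_add_rev, _root_.Matrix.smul_cons, _root_.smul_eq_mul, _root_.Matrix.smul_empty, _root_.Matrix.add_cons, _root_.Matrix.head_cons, _root_.Matrix.tail_cons, _root_.Matrix.empty_add_empty, _root_.Pi.sub_apply, _root_.Pi.add_apply, _root_.Matrix.cons_val_succ, _root_.Matrix.cons_val_fin_one, _root_.forall_const]) <;> grind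

/-- a linear map with an inverse -/
structure Pair (f f' : V → V) : Prop where
  add : ∀ x y, f (x + y) = f x + f y
  smul : ∀ (c : ZMod 3) (x : V), f (c • x) = c • f x
  l : ∀ x, f' (f x) = x
  r : ∀ x, f (f' x) = x

theorem Pair.exists_unit {f f' : V → V} (h : Pair f f') :
    ∃ g : GL (Fin 8) (ZMod 3), ∀ x : V, (g : Matrix (Fin 8) (Fin 8) (ZMod 3)) *ᵥ x = f x := by
  let e : V ≃ₗ[ZMod 3] V :=
    { toFun := f, map_add' := h.add, map_smul' := h.smul, invFun := f', left_inv := h.l, right_inv := h.r }
  refine ⟨⟨LinearMap.toMatrix' (e : V →ₗ[ZMod 3] V), LinearMap.toMatrix' (e.symm : V →ₗ[ZMod 3] V), ?_, ?_⟩, fun x => ?_⟩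
  · rw [← LinearMap.toMatrix'_comp, LinearEquiv.comp_symm, LinearMap.toMatrix'_id]
  · rw [← LinearMap.toMatrix'_comp, LinearEquiv.symm_comp, LinearMap.toMatrix'_id]
  · show LinearMap.toMatrix' (e : V →ₗ[ZMod 3] V) *ᵥ x = f x
    rw [← Matrix.toLin'_apply, Matrix.toLin'_toMatrix']
    rfl

/-- existence of elements of `OG` -/
theorem Pair.exists_el {f f' : V → V} (h : Pair f f') (hm : ∀ x y, f (oct x y) = oct (f x) (f y)) :
    ∃ g : OG, ∀ x, ac g x = f x := by
  obtain ⟨g, hg⟩ := h.exists_unit
  refine ⟨⟨g, fun x y => ?_⟩, fun x => hg x⟩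
  have h1 : ∀ x : V, (Units.coeHom (Matrix (Fin 8) (Fin 8) (ZMod 3)) g) *ᵥ x = f x := hg
  rw [h1, h1, h1, hm]

theorem pair_bc : Pair bc bci where
  add x y := by ext i; (revert i; simp only [bc, _root_.Fin.forall_fin_succ, Fin.isValue, _root_.Pi.add_apply, _root_.neg_add_rev, _root_.Matrix.cons_val_zero, _root_.Matrix.cons_val_succ, _root_.Matrix.cons_val_fin_one, _root_.forall_const]) <;> (repeat' with_reducible apply And.intro) <;> ring
  smul c x := by ext i; (revert i; simp only [bc, _root_.Fin.forall_fin_succ, Fin.isValue, _root_.Pi.smul_apply, _root_.smul_eq_mul, _root_.Matrix.cons_val_zero, _root_.Matrix.cons_val_succ, _root_.Matrix.cons_val_fin_one, _root_.forall_const]) <;> (repeat' with_reducible apply And.intro) <;> ring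
  l := bci_bc
  r := bc_bci

theorem card_OG : Nat.card OG = 4245696 := by
  obtain ⟨P, hP⟩ := pair_bc.exists_unit
  have hP1 : ∀ x : V, ((P⁻¹ : GL (Fin 8) (ZMod 3)) : Matrix (Fin 8) (Fin 8) (ZMod 3)) *ᵥ bc x = x := fun x => by
    rw [← hP, Matrix.mulVec_mulVec, ← Units.val_mul, inv_mul_cancel, Units.val_one, Matrix.one_mulVec]
  have key : ∀ g : GL (Fin 8) (ZMod 3), g ∈ OG ↔ (MulAut.conj P).toEquiv g ∈ Cfsg.Lie.G2 (ZMod 3) := by
    intro g
    have h1 : ∀ x : V, (Units.coeHom (Matrix (Fin 8) (Fin 8) (ZMod 3)) ((MulAut.conj P).toEquiv g)) *ᵥ bc x =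
        bc ((g : Matrix (Fin 8) (Fin 8) (ZMod 3)) *ᵥ x) := by
      intro x
      show ((P * g * P⁻¹ : GL (Fin 8) (ZMod 3)) : Matrix (Fin 8) (Fin 8) (ZMod 3)) *ᵥ bc x = _
      rw [Units.val_mul, Units.val_mul, ← Matrix.mulVec_mulVec, hP1, ← Matrix.mulVec_mulVec, hP]
    constructor
    · intro hg x y
      rw [← bc_bci x, ← bc_bci y, ← bc_oct, h1, h1, h1, ← bc_oct]
      exact congrArg bc (hg _ _)
    · intro hg x y
      have h2 := hg (bc x) (bc y)
      rw [← bc_oct, h1, h1, h1, ← bc_oct] at h2
      have h3 := congrArg bci h2
      rwa [bci_bc, bci_bc] at h3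
  have h1 : Nat.card OG = Nat.card (Cfsg.Lie.G2 (ZMod 3)) := Nat.card_congr ((MulAut.conj P).toEquiv.subtypeEquiv key)
  rw [h1, Cfsg.Agent.H638.G2Iso.card_G2, Nat.card_zmod]
  norm_num

end Cfsg.Agent.H234.GT
end

-- part: H234/GT/Elt
section
/-!
# S5211, task G2-Q2-G23: elements of the automorphism group of the octonions over `F₃`

`X1, …, X6` generate a Sylow `2`-subgroup; `g1`, `g2`, `h` have order three.
-/

set_option autoImplicit false

namespace Cfsg.Agent.H234.GT

open Cfsg.Lie Matrix

def fX1 (x : V) : V := ![x 0, -x 1, x 3, x 2, x 5, x 4, -x 6, x 7]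
def fX2 (x : V) : V := ![x 0, -x 1, x 2, -x 3, -x 7, x 6, x 5, -x 4]
def fX3 (x : V) : V := ![x 0, -x 1, -x 2, x 3, x 4, -x 5, -x 6, x 7]
def fX4 (x : V) : V := ![x 0, -x 1, -x 2, x 3, -x 5, -x 4, x 7, x 6]
def fX5 (x : V) : V := ![x 0, x 1, -x 2, -x 3, x 4, x 5, -x 6, -x 7]
def fX6 (x : V) : V := ![x 0, x 1, x 2, x 3, -x 4, -x 5, -x 6, -x 7]
def fg1 (x : V) : V :=
  ![x 0, x 1, x 2, x 3, x 4 - x 5 - x 6 - x 7, x 4 + x 5 - x 6 + x 7, x 4 + x 5 + x 6 - x 7, x 4 - x 5 + x 6 + x 7]
def fg1i (x : V) : V :=
  ![x 0, x 1, x 2, x 3, x 4 + x 5 + x 6 + x 7, -x 4 + x 5 + x 6 - x 7, -x 4 - x 5 + x 6 + x 7, -x 4 + x 5 - x 6 + x 7]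
def fg2 (x : V) : V :=
  ![x 0, x 3, x 1, x 2, x 4 + x 5 + x 6 + x 7, -x 4 + x 5 - x 6 + x 7, -x 4 + x 5 + x 6 - x 7, -x 4 - x 5 + x 6 + x 7]
def fg2i (x : V) : V :=
  ![x 0, x 2, x 3, x 1, x 4 - x 5 - x 6 - x 7, x 4 + x 5 + x 6 - x 7, x 4 - x 5 + x 6 + x 7, x 4 + x 5 - x 6 + x 7]
def fh (x : V) : V := ![x 0, x 1, x 6, -x 7, -x 3, x 2, x 5, x 4]
def fhi (x : V) : V := ![x 0, x 1, x 5, -x 4, x 7, x 6, x 2, -x 3]

theorem p1 : Pair fX1 fX1 where
  add x y := by ext i; (revert i; simp only [fX1, _root_.Fin.forall_fin_succ, Fin.isValue, _root_.Pi.add_apply, _root_.neg_add_rev, _root_.Matrix.cons_val_zero, _root_.Matrix.cons_val_succ, _root_.Matrix.cons_val_fin_one, _root_.implies_true, _root_.and_true, _root_.true_and]) <;> (repeat' with_reducible apply And.intro) <;> ring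
  smul c x := by ext i; (revert i; simp only [fX1, _root_.Fin.forall_fin_succ, Fin.isValue, _root_.Pi.smul_apply, _root_.smul_eq_mul, _root_.Matrix.cons_val_zero, _root_.Matrix.cons_val_succ, _root_.mul_neg, _root_.Matrix.cons_val_fin_one, _root_.implies_true, _root_.and_self])
  l x := by ext i; (revert i; simp only [fX1, _root_.Fin.forall_fin_succ, Fin.isValue, _root_.Matrix.cons_val_zero, _root_.Matrix.cons_val_one, _root_.neg_neg, _root_.Matrix.cons_val, _root_.Matrix.cons_val_succ, _root_.Fin.succ_zero_eq_one, _root_.Fin.succ_one_eq_two, Fin.reduceSucc, _root_.Matrix.cons_val_fin_one, _root_.IsEmpty.forall_iff, _root_.and_self])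
  r x := by ext i; (revert i; simp only [fX1, _root_.Fin.forall_fin_succ, Fin.isValue, _root_.Matrix.cons_val_zero, _root_.Matrix.cons_val_one, _root_.neg_neg, _root_.Matrix.cons_val, _root_.Matrix.cons_val_succ, _root_.Fin.succ_zero_eq_one, _root_.Fin.succ_one_eq_two, Fin.reduceSucc, _root_.Matrix.cons_val_fin_one, _root_.IsEmpty.forall_iff, _root_.and_self])

theorem p2 : Pair fX2 fX2 where
  add x y := by ext i; (revert i; simp only [fX2, _root_.Fin.forall_fin_succ, Fin.isValue, _root_.Pi.add_apply, _root_.neg_add_rev, _root_.Matrix.cons_val_zero, _root_.Matrix.cons_val_succ, _root_.Matrix.cons_val_fin_one, _root_.forall_const, _root_.true_and]) <;> (repeat' with_reducible apply And.intro) <;> ring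
  smul c x := by ext i; (revert i; simp only [fX2, _root_.Fin.forall_fin_succ, Fin.isValue, _root_.Pi.smul_apply, _root_.smul_eq_mul, _root_.Matrix.cons_val_zero, _root_.Matrix.cons_val_succ, _root_.mul_neg, _root_.Matrix.cons_val_fin_one, _root_.implies_true, _root_.and_self])
  l x := by ext i; (revert i; simp only [fX2, _root_.Fin.forall_fin_succ, Fin.isValue, _root_.Matrix.cons_val_zero, _root_.Matrix.cons_val_one, _root_.neg_neg, _root_.Matrix.cons_val, _root_.Matrix.cons_val_succ, _root_.Fin.succ_zero_eq_one, _root_.Fin.succ_one_eq_two, Fin.reduceSucc, _root_.Matrix.cons_val_fin_one, _root_.IsEmpty.forall_iff, _root_.and_self])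
  r x := by ext i; (revert i; simp only [fX2, _root_.Fin.forall_fin_succ, Fin.isValue, _root_.Matrix.cons_val_zero, _root_.Matrix.cons_val_one, _root_.neg_neg, _root_.Matrix.cons_val, _root_.Matrix.cons_val_succ, _root_.Fin.succ_zero_eq_one, _root_.Fin.succ_one_eq_two, Fin.reduceSucc, _root_.Matrix.cons_val_fin_one, _root_.IsEmpty.forall_iff, _root_.and_self])

theorem p3 : Pair fX3 fX3 where
  add x y := by ext i; (revert i; simp only [fX3, _root_.Fin.forall_fin_succ, Fin.isValue, _root_.Pi.add_apply, _root_.neg_add_rev, _root_.Matrix.cons_val_zero, _root_.Matrix.cons_val_succ, _root_.Matrix.cons_val_fin_one, _root_.implies_true, _root_.and_true, _root_.true_and]) <;> (repeat' with_reducible apply And.intro) <;> ring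
  smul c x := by ext i; (revert i; simp only [fX3, _root_.Fin.forall_fin_succ, Fin.isValue, _root_.Pi.smul_apply, _root_.smul_eq_mul, _root_.Matrix.cons_val_zero, _root_.Matrix.cons_val_succ, _root_.mul_neg, _root_.Matrix.cons_val_fin_one, _root_.implies_true, _root_.and_self])
  l x := by ext i; (revert i; simp only [fX3, _root_.Fin.forall_fin_succ, Fin.isValue, _root_.Matrix.cons_val_zero, _root_.Matrix.cons_val_one, _root_.neg_neg, _root_.Matrix.cons_val, _root_.Matrix.cons_val_succ, _root_.Fin.succ_zero_eq_one, _root_.Fin.succ_one_eq_two, Fin.reduceSucc, _root_.Matrix.cons_val_fin_one, _root_.IsEmpty.forall_iff, _root_.and_self])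
  r x := by ext i; (revert i; simp only [fX3, _root_.Fin.forall_fin_succ, Fin.isValue, _root_.Matrix.cons_val_zero, _root_.Matrix.cons_val_one, _root_.neg_neg, _root_.Matrix.cons_val, _root_.Matrix.cons_val_succ, _root_.Fin.succ_zero_eq_one, _root_.Fin.succ_one_eq_two, Fin.reduceSucc, _root_.Matrix.cons_val_fin_one, _root_.IsEmpty.forall_iff, _root_.and_self])

theorem p4 : Pair fX4 fX4 where
  add x y := by ext i; (revert i; simp only [fX4, _root_.Fin.forall_fin_succ, Fin.isValue, _root_.Pi.add_apply, _root_.neg_add_rev, _root_.Matrix.cons_val_zero, _root_.Matrix.cons_val_succ, _root_.Matrix.cons_val_fin_one, _root_.implies_true, _root_.and_self, _root_.and_true, _root_.true_and]) <;> (repeat' with_reducible apply And.intro) <;> ring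
  smul c x := by ext i; (revert i; simp only [fX4, _root_.Fin.forall_fin_succ, Fin.isValue, _root_.Pi.smul_apply, _root_.smul_eq_mul, _root_.Matrix.cons_val_zero, _root_.Matrix.cons_val_succ, _root_.mul_neg, _root_.Matrix.cons_val_fin_one, _root_.implies_true, _root_.and_self])
  l x := by ext i; (revert i; simp only [fX4, _root_.Fin.forall_fin_succ, Fin.isValue, _root_.Matrix.cons_val_zero, _root_.Matrix.cons_val_one, _root_.neg_neg, _root_.Matrix.cons_val, _root_.Matrix.cons_val_succ, _root_.Fin.succ_zero_eq_one, _root_.Fin.succ_one_eq_two, Fin.reduceSucc, _root_.Matrix.cons_val_fin_one, _root_.IsEmpty.forall_iff, _root_.and_self])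
  r x := by ext i; (revert i; simp only [fX4, _root_.Fin.forall_fin_succ, Fin.isValue, _root_.Matrix.cons_val_zero, _root_.Matrix.cons_val_one, _root_.neg_neg, _root_.Matrix.cons_val, _root_.Matrix.cons_val_succ, _root_.Fin.succ_zero_eq_one, _root_.Fin.succ_one_eq_two, Fin.reduceSucc, _root_.Matrix.cons_val_fin_one, _root_.IsEmpty.forall_iff, _root_.and_self])

theorem p5 : Pair fX5 fX5 where
  add x y := by ext i; (revert i; simp only [fX5, _root_.Fin.forall_fin_succ, Fin.isValue, _root_.Pi.add_apply, _root_.neg_add_rev, _root_.Matrix.cons_val_zero, _root_.Matrix.cons_val_succ, _root_.Matrix.cons_val_fin_one, _root_.forall_const, _root_.true_and]) <;> (repeat' with_reducible apply And.intro) <;> ring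
  smul c x := by ext i; (revert i; simp only [fX5, _root_.Fin.forall_fin_succ, Fin.isValue, _root_.Pi.smul_apply, _root_.smul_eq_mul, _root_.Matrix.cons_val_zero, _root_.Matrix.cons_val_succ, _root_.mul_neg, _root_.Matrix.cons_val_fin_one, _root_.implies_true, _root_.and_self])
  l x := by ext i; (revert i; simp only [fX5, _root_.Fin.forall_fin_succ, Fin.isValue, _root_.Matrix.cons_val_zero, _root_.Matrix.cons_val_one, _root_.Matrix.cons_val, _root_.neg_neg, _root_.Matrix.cons_val_succ, _root_.Fin.succ_zero_eq_one, _root_.Fin.succ_one_eq_two, Fin.reduceSucc, _root_.Matrix.cons_val_fin_one, _root_.IsEmpty.forall_iff, _root_.and_self])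
  r x := by ext i; (revert i; simp only [fX5, _root_.Fin.forall_fin_succ, Fin.isValue, _root_.Matrix.cons_val_zero, _root_.Matrix.cons_val_one, _root_.Matrix.cons_val, _root_.neg_neg, _root_.Matrix.cons_val_succ, _root_.Fin.succ_zero_eq_one, _root_.Fin.succ_one_eq_two, Fin.reduceSucc, _root_.Matrix.cons_val_fin_one, _root_.IsEmpty.forall_iff, _root_.and_self])

theorem p6 : Pair fX6 fX6 where
  add x y := by ext i; (revert i; simp only [fX6, _root_.Fin.forall_fin_succ, Fin.isValue, _root_.Pi.add_apply, _root_.neg_add_rev, _root_.Matrix.cons_val_zero, _root_.Matrix.cons_val_succ, _root_.Matrix.cons_val_fin_one, _root_.forall_const, _root_.true_and]) <;> (repeat' with_reducible apply And.intro) <;> ring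
  smul c x := by ext i; (revert i; simp only [fX6, _root_.Fin.forall_fin_succ, Fin.isValue, _root_.Pi.smul_apply, _root_.smul_eq_mul, _root_.Matrix.cons_val_zero, _root_.Matrix.cons_val_succ, _root_.mul_neg, _root_.Matrix.cons_val_fin_one, _root_.implies_true, _root_.and_self])
  l x := by ext i; (revert i; simp only [fX6, _root_.Fin.forall_fin_succ, Fin.isValue, _root_.Matrix.cons_val_zero, _root_.Matrix.cons_val_one, _root_.Matrix.cons_val, _root_.neg_neg, _root_.Matrix.cons_val_succ, _root_.Fin.succ_zero_eq_one, _root_.Fin.succ_one_eq_two, Fin.reduceSucc, _root_.Matrix.cons_val_fin_one, _root_.IsEmpty.forall_iff, _root_.and_self])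
  r x := by ext i; (revert i; simp only [fX6, _root_.Fin.forall_fin_succ, Fin.isValue, _root_.Matrix.cons_val_zero, _root_.Matrix.cons_val_one, _root_.Matrix.cons_val, _root_.neg_neg, _root_.Matrix.cons_val_succ, _root_.Fin.succ_zero_eq_one, _root_.Fin.succ_one_eq_two, Fin.reduceSucc, _root_.Matrix.cons_val_fin_one, _root_.IsEmpty.forall_iff, _root_.and_self])

theorem ph : Pair fh fhi where
  add x y := by ext i; (revert i; simp only [fh, _root_.Fin.forall_fin_succ, Fin.isValue, _root_.Pi.add_apply, _root_.neg_add_rev, _root_.Matrix.cons_val_zero, _root_.Matrix.cons_val_succ, _root_.Matrix.cons_val_fin_one, _root_.implies_true, _root_.and_self, _root_.and_true, _root_.true_and]) <;> (repeat' with_reducible apply And.intro) <;> ring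
  smul c x := by ext i; (revert i; simp only [fh, _root_.Fin.forall_fin_succ, Fin.isValue, _root_.Pi.smul_apply, _root_.smul_eq_mul, _root_.Matrix.cons_val_zero, _root_.Matrix.cons_val_succ, _root_.mul_neg, _root_.Matrix.cons_val_fin_one, _root_.implies_true, _root_.and_self])
  l x := by ext i; (revert i; simp only [fh, fhi, _root_.Fin.forall_fin_succ, Fin.isValue, _root_.Matrix.cons_val_zero, _root_.Matrix.cons_val_one, _root_.Matrix.cons_val, _root_.neg_neg, _root_.Matrix.cons_val_succ, _root_.Fin.succ_zero_eq_one, _root_.Fin.succ_one_eq_two, Fin.reduceSucc, _root_.Matrix.cons_val_fin_one, _root_.IsEmpty.forall_iff, _root_.and_self])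
  r x := by ext i; (revert i; simp only [fh, fhi, _root_.Fin.forall_fin_succ, Fin.isValue, _root_.Matrix.cons_val_zero, _root_.Matrix.cons_val_one, _root_.Matrix.cons_val, _root_.neg_neg, _root_.Matrix.cons_val_succ, _root_.Fin.succ_zero_eq_one, _root_.Fin.succ_one_eq_two, Fin.reduceSucc, _root_.Matrix.cons_val_fin_one, _root_.IsEmpty.forall_iff, _root_.and_self])

theorem pg1 : Pair fg1 fg1i where
  add x y := by ext i; (revert i; simp only [fg1, _root_.Fin.forall_fin_succ, Fin.isValue, _root_.Pi.add_apply, _root_.Matrix.cons_val_zero, _root_.Matrix.cons_val_succ, _root_.Matrix.cons_val_fin_one, _root_.forall_const, _root_.true_and]) <;> (repeat' with_reducible apply And.intro) <;> ring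
  smul c x := by ext i; (revert i; simp only [fg1, _root_.Fin.forall_fin_succ, Fin.isValue, _root_.Pi.smul_apply, _root_.smul_eq_mul, _root_.Matrix.cons_val_zero, _root_.Matrix.cons_val_succ, _root_.Matrix.cons_val_fin_one, _root_.forall_const, _root_.true_and]) <;> (repeat' with_reducible apply And.intro) <;> ring
  l x := by ext i; (revert i; simp only [fg1, fg1i, _root_.Fin.forall_fin_succ, Fin.isValue, _root_.Matrix.cons_val_zero, _root_.Matrix.cons_val_one, _root_.Matrix.cons_val, _root_.sub_add_add_cancel, _root_.neg_sub, _root_.Matrix.cons_val_succ, _root_.Fin.succ_zero_eq_one, _root_.Fin.succ_one_eq_two, Fin.reduceSucc, _root_.Matrix.cons_val_fin_one, _root_.IsEmpty.forall_iff, _root_.and_true, _root_.true_and]) <;> grind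
  r x := by ext i; (revert i; simp only [fg1, fg1i, _root_.Fin.forall_fin_succ, Fin.isValue, _root_.Matrix.cons_val_zero, _root_.Matrix.cons_val_one, _root_.Matrix.cons_val, _root_.add_add_sub_cancel, _root_.Matrix.cons_val_succ, _root_.Fin.succ_zero_eq_one, _root_.Fin.succ_one_eq_two, Fin.reduceSucc, _root_.Matrix.cons_val_fin_one, _root_.IsEmpty.forall_iff, _root_.and_true, _root_.true_and]) <;> grind

theorem pg2 : Pair fg2 fg2i where
  add x y := by ext i; (revert i; simp only [fg2, _root_.Fin.forall_fin_succ, Fin.isValue, _root_.Pi.add_apply, _root_.neg_add_rev, _root_.Matrix.cons_val_zero, _root_.Matrix.cons_val_succ, _root_.Matrix.cons_val_fin_one, _root_.forall_const, _root_.true_and]) <;> (repeat' with_reducible apply And.intro) <;> ring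
  smul c x := by ext i; (revert i; simp only [fg2, _root_.Fin.forall_fin_succ, Fin.isValue, _root_.Pi.smul_apply, _root_.smul_eq_mul, _root_.Matrix.cons_val_zero, _root_.Matrix.cons_val_succ, _root_.Matrix.cons_val_fin_one, _root_.forall_const, _root_.true_and]) <;> (repeat' with_reducible apply And.intro) <;> ring
  l x := by ext i; (revert i; simp only [fg2, fg2i, _root_.Fin.forall_fin_succ, Fin.isValue, _root_.Matrix.cons_val_zero, _root_.Matrix.cons_val, _root_.Matrix.cons_val_one, _root_.add_sub_add_right_eq_sub, _root_.Matrix.cons_val_succ, _root_.Fin.succ_zero_eq_one, _root_.Fin.succ_one_eq_two, Fin.reduceSucc, _root_.Matrix.cons_val_fin_one, _root_.IsEmpty.forall_iff, _root_.and_true, _root_.true_and]) <;> grind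
  r x := by ext i; (revert i; simp only [fg2, fg2i, _root_.Fin.forall_fin_succ, Fin.isValue, _root_.Matrix.cons_val_zero, _root_.Matrix.cons_val, _root_.Matrix.cons_val_one, _root_.neg_sub, _root_.sub_add_sub_cancel', _root_.Matrix.cons_val_succ, _root_.Fin.succ_zero_eq_one, _root_.Fin.succ_one_eq_two, Fin.reduceSucc, _root_.Matrix.cons_val_fin_one, _root_.IsEmpty.forall_iff, _root_.and_true, _root_.true_and]) <;> grind

theorem ex1 : ∃ g : OG, ∀ x, ac g x = fX1 x :=
  p1.exists_el fun x y => by ext i; (revert i; simp only [fX1, oct, _root_.Fin.forall_fin_succ, Fin.isValue, _root_.Matrix.cons_val_zero, _root_.Matrix.cons_val_one, _root_.neg_add_rev, _root_.neg_sub, _root_.Matrix.cons_val, _root_.mul_neg, _root_.neg_mul, _root_.neg_neg, _root_.sub_neg_eq_add, _root_.sub_left_inj, _root_.Matrix.cons_val_succ, _root_.add_left_inj, _root_.Matrix.cons_val_fin_one, _root_.forall_const]) <;> (repeat' with_reducible apply And.intro) <;> ring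
theorem ex2 : ∃ g : OG, ∀ x, ac g x = fX2 x :=
  p2.exists_el fun x y => by ext i; (revert i; simp only [fX2, oct, _root_.Fin.forall_fin_succ, Fin.isValue, _root_.Matrix.cons_val_zero, _root_.Matrix.cons_val_one, _root_.neg_add_rev, _root_.neg_sub, _root_.Matrix.cons_val, _root_.mul_neg, _root_.neg_mul, _root_.neg_neg, _root_.sub_neg_eq_add, _root_.Matrix.cons_val_succ, _root_.Matrix.cons_val_fin_one, _root_.forall_const]) <;> (repeat' with_reducible apply And.intro) <;> ring
theorem ex3 : ∃ g : OG, ∀ x, ac g x = fX3 x :=
  p3.exists_el fun x y => by ext i; (revert i; simp only [fX3, oct, _root_.Fin.forall_fin_succ, Fin.isValue, _root_.Matrix.cons_val_zero, _root_.Matrix.cons_val_one, _root_.neg_add_rev, _root_.neg_sub, _root_.Matrix.cons_val, _root_.mul_neg, _root_.neg_mul, _root_.neg_neg, _root_.sub_neg_eq_add, _root_.Matrix.cons_val_succ, _root_.Matrix.cons_val_fin_one, _root_.implies_true, _root_.and_true, _root_.true_and]) <;> (repeat' with_reducible apply And.intro) <;> ring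
theorem ex4 : ∃ g : OG, ∀ x, ac g x = fX4 x :=
  p4.exists_el fun x y => by ext i; (revert i; simp only [fX4, oct, _root_.Fin.forall_fin_succ, Fin.isValue, _root_.Matrix.cons_val_zero, _root_.Matrix.cons_val_one, _root_.neg_add_rev, _root_.neg_sub, _root_.Matrix.cons_val, _root_.mul_neg, _root_.neg_mul, _root_.neg_neg, _root_.sub_neg_eq_add, _root_.Matrix.cons_val_succ, _root_.Matrix.cons_val_fin_one, _root_.forall_const]) <;> (repeat' with_reducible apply And.intro) <;> ring
theorem ex5 : ∃ g : OG, ∀ x, ac g x = fX5 x :=
  p5.exists_el fun x y => by ext i; (revert i; simp only [fX5, oct, _root_.Fin.forall_fin_succ, Fin.isValue, _root_.Matrix.cons_val_zero, _root_.Matrix.cons_val_one, _root_.Matrix.cons_val, _root_.neg_sub, _root_.neg_add_rev, _root_.mul_neg, _root_.neg_mul, _root_.neg_neg, _root_.sub_neg_eq_add, _root_.Matrix.cons_val_succ, _root_.Matrix.cons_val_fin_one, _root_.forall_const, _root_.true_and]) <;> (repeat' with_reducible apply And.intro) <;> ring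
theorem ex6 : ∃ g : OG, ∀ x, ac g x = fX6 x :=
  p6.exists_el fun x y => by ext i; (revert i; simp only [fX6, oct, _root_.Fin.forall_fin_succ, Fin.isValue, _root_.Matrix.cons_val_zero, _root_.Matrix.cons_val_one, _root_.Matrix.cons_val, _root_.neg_add_rev, _root_.neg_sub, _root_.mul_neg, _root_.neg_mul, _root_.neg_neg, _root_.sub_neg_eq_add, _root_.Matrix.cons_val_succ, _root_.Matrix.cons_val_fin_one, _root_.forall_const, _root_.true_and]) <;> (repeat' with_reducible apply And.intro) <;> ring
theorem exh : ∃ g : OG, ∀ x, ac g x = fh x :=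
  ph.exists_el fun x y => by ext i; (revert i; simp only [fh, oct, _root_.Fin.forall_fin_succ, Fin.isValue, _root_.Matrix.cons_val_zero, _root_.Matrix.cons_val_one, _root_.Matrix.cons_val, _root_.neg_add_rev, _root_.neg_sub, _root_.mul_neg, _root_.neg_mul, _root_.neg_neg, _root_.sub_neg_eq_add, _root_.Matrix.cons_val_succ, _root_.Matrix.cons_val_fin_one, _root_.forall_const]) <;> (repeat' with_reducible apply And.intro) <;> ring
theorem exg1 : ∃ g : OG, ∀ x, ac g x = fg1 x :=
  pg1.exists_el fun x y => by
    ext i
    (revert i; simp only [fg1, oct, _root_.Fin.forall_fin_succ, Fin.isValue, _root_.Matrix.cons_val_zero, _root_.Matrix.cons_val_one, _root_.Matrix.cons_val, _root_.Matrix.cons_val_succ, _root_.Matrix.cons_val_fin_one, _root_.forall_const]) <;> grind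
theorem exg2 : ∃ g : OG, ∀ x, ac g x = fg2 x :=
  pg2.exists_el fun x y => by
    ext i
    (revert i; simp only [fg2, oct, _root_.Fin.forall_fin_succ, Fin.isValue, _root_.Matrix.cons_val_zero, _root_.Matrix.cons_val, _root_.Matrix.cons_val_one, _root_.neg_add_rev, _root_.neg_sub, _root_.Matrix.cons_val_succ, _root_.Matrix.cons_val_fin_one, _root_.forall_const]) <;> grind

noncomputable def X1 : OG := ex1.choose
noncomputable def X2 : OG := ex2.choose
noncomputable def X3 : OG := ex3.choose
noncomputable def X4 : OG := ex4.choose
noncomputable def X5 : OG := ex5.choose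
noncomputable def X6 : OG := ex6.choose
noncomputable def h : OG := exh.choose
noncomputable def g1 : OG := exg1.choose
noncomputable def g2 : OG := exg2.choose

theorem ac_X1 (x : V) : ac X1 x = fX1 x := ex1.choose_spec x
theorem ac_X2 (x : V) : ac X2 x = fX2 x := ex2.choose_spec x
theorem ac_X3 (x : V) : ac X3 x = fX3 x := ex3.choose_spec x
theorem ac_X4 (x : V) : ac X4 x = fX4 x := ex4.choose_spec x
theorem ac_X5 (x : V) : ac X5 x = fX5 x := ex5.choose_spec x
theorem ac_X6 (x : V) : ac X6 x = fX6 x := ex6.choose_spec x
theorem ac_h (x : V) : ac h x = fh x := exh.choose_spec x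
theorem ac_g1 (x : V) : ac g1 x = fg1 x := exg1.choose_spec x
theorem ac_g2 (x : V) : ac g2 x = fg2 x := exg2.choose_spec x

end Cfsg.Agent.H234.GT
end

private theorem dce_2e2dfa1f13e7 : _root_.True := by
  try have : _root_.True := by simp only [_root_.Cfsg.Agent.H234.GT.ac.eq_1]
  try have : _root_.True := by simp only [_root_.Cfsg.Agent.H234.GT.bci.eq_1]
  try have : _root_.True := by simp only [_root_.Cfsg.Agent.H234.GT.fg2.eq_1]
  try have : _root_.True := by simp only [_root_.Cfsg.Agent.H234.GT.bc.eq_1]
  try have : _root_.True := by simp only [_root_.Cfsg.Agent.H234.GT.fX4.eq_1]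
  try have : _root_.True := by simp only [_root_.Cfsg.Agent.H234.GT.fX1.eq_1]
  try have : _root_.True := by simp only [_root_.Cfsg.Agent.H234.GT.fX5.eq_1]
  try have : _root_.True := by simp only [_root_.Cfsg.Agent.H234.GT.fX6.eq_1]
  try have : _root_.True := by simp only [_root_.Cfsg.Agent.H234.GT.fhi.eq_1]
  try have : _root_.True := by simp only [_root_.Cfsg.Agent.H234.GT.fX3.eq_1]
  try have : _root_.True := by simp only [_root_.Cfsg.Agent.H234.GT.fg1.eq_1]
  try have : _root_.True := by simp only [_root_.Cfsg.Agent.H234.GT.fg1i.eq_1]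
  try have : _root_.True := by simp only [_root_.Cfsg.Agent.H234.GT.fg2i.eq_1]
  try have : _root_.True := by simp only [_root_.Cfsg.Agent.H234.GT.oct.eq_1]
  try have : _root_.True := by simp only [_root_.Cfsg.Agent.H234.GT.fh.eq_1]
  try have : _root_.True := by simp only [_root_.Cfsg.Agent.H234.GT.fX2.eq_1]
  exact _root_.True.intro
end

-- part: H428/U2/GL2
section
prune_inst 0x300041007422000000000000200006643000010200030000610002000249060080450600b620001090180c542838004000100100002000000000080001180080000000028008a000000000000000000000000000000000000000000000000004000000000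
set_option linter.all false
open scoped Cfsg.Agent.FastGrp

/-!
# The conclusion of `StU2P` for groups mapping into `PGL₂(p)` (helper428)
-/

set_option autoImplicit false
set_option linter.unusedSimpArgs false

namespace Cfsg.Agent.H428.U2

open Matrix

universe u v w

section mats

variable {F : Type v} [Field F]

/-- upper unitriangular matrices -/
def uu (t : F) : GL (Fin 2) F :=
  ⟨!![1, t; 0, 1], !![1, -t; 0, 1], by
    rw [Matrix.mul_fin_two, Matrix.one_fin_two]; congr <;> simp, by
    rw [Matrix.mul_fin_two, Matrix.one_fin_two]; congr <;> simp⟩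

/-- the Weyl element -/
def ww : GL (Fin 2) F :=
  ⟨!![0, 1; -1, 0], !![0, -1; 1, 0], by
    rw [Matrix.mul_fin_two, Matrix.one_fin_two]; congr <;> simp, by
    rw [Matrix.mul_fin_two, Matrix.one_fin_two]; congr <;> simp⟩

/-- the diagonal matrices of determinant one -/
def dd (m : Fˣ) : GL (Fin 2) F :=
  ⟨!![(m : F), 0; 0, ((m⁻¹ : Fˣ) : F)], !![((m⁻¹ : Fˣ) : F), 0; 0, (m : F)], by
    rw [Matrix.mul_fin_two, Matrix.one_fin_two]; congr <;> simp, by
    rw [Matrix.mul_fin_two, Matrix.one_fin_two]; congr <;> simp⟩

theorem coe_uu (t : F) : ((uu t : GL (Fin 2) F) : Matrix (Fin 2) (Fin 2) F) = !![1, t; 0, 1] := rfl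
theorem coe_ww : ((ww : GL (Fin 2) F) : Matrix (Fin 2) (Fin 2) F) = !![0, 1; -1, 0] := rfl
theorem coe_ww_inv : ((ww⁻¹ : GL (Fin 2) F) : Matrix (Fin 2) (Fin 2) F) = !![0, -1; 1, 0] := rfl
theorem coe_dd (m : Fˣ) : ((dd m : GL (Fin 2) F) : Matrix (Fin 2) (Fin 2) F) = !![(m : F), 0; 0, ((m⁻¹ : Fˣ) : F)] := rfl

theorem uu_mul (s t : F) : uu s * uu t = uu (s + t) := by
  apply Units.ext
  rw [Units.val_mul, coe_uu, coe_uu, coe_uu]
  ext i j
  fin_cases i <;> fin_cases j <;> simp [Matrix.mul_apply, Fin.sum_univ_two, add_comm]

theorem uu_zero : (uu 0 : GL (Fin 2) F) = 1 := by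
  apply Units.ext
  rw [coe_uu, Units.val_one, Matrix.one_fin_two]

theorem uu_inv (t : F) : (uu t)⁻¹ = uu (-t) := by
  rw [inv_eq_iff_mul_eq_one, uu_mul, add_neg_cancel, uu_zero]

theorem uu_inj {s t : F} (h : uu s = uu t) : s = t := by
  have h1 := congrArg (fun g : GL (Fin 2) F => g.1 0 1) h
  exact h1

/-- the upper unitriangular group -/
def Us (F : Type v) [Field F] : Subgroup (GL (Fin 2) F) where
  carrier := Set.range uu
  one_mem' := ⟨0, uu_zero⟩
  mul_mem' := by
    rintro _ _ ⟨s, rfl⟩ ⟨t, rfl⟩
    exact ⟨s + t, (uu_mul s t).symm⟩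
  inv_mem' := by
    rintro _ ⟨t, rfl⟩
    exact ⟨-t, (uu_inv t).symm⟩

theorem card_Us : Nat.card (Us F) = Nat.card F := by
  refine (Nat.card_eq_of_bijective (fun t : F => (⟨uu t, t, rfl⟩ : Us F)) ⟨?_, ?_⟩).symm
  · intro s t h
    exact uu_inj (congrArg Subtype.val h)
  · rintro ⟨_, t, rfl⟩
    exact ⟨t, rfl⟩

/-- upper triangular matrices normalize -/
theorem conj_Us {b : GL (Fin 2) F} (hb : b.1 1 0 = 0) : (Us F).map (MulAut.conj b).toMonoidHom = Us F := by
  have key : ∀ c : GL (Fin 2) F, c.1 1 0 = 0 → ∀ t : F, ∃ s : F, c * uu t * c⁻¹ = uu s := by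
    intro c hc t
    have hd : c.1 0 0 * c.1 1 1 ≠ 0 := by
      have h1 : (c.1).det ≠ 0 := by
        have h2 : (c.1).det = ((GeneralLinearGroup.det c : Fˣ) : F) := rfl
        rw [h2]
        exact Units.ne_zero _
      rw [Matrix.det_fin_two, hc] at h1
      simpa using h1
    have h0 : c.1 0 0 ≠ 0 := left_ne_zero_of_mul hd
    have h1 : c.1 1 1 ≠ 0 := right_ne_zero_of_mul hd
    refine ⟨c.1 0 0 * t / c.1 1 1, ?_⟩
    rw [mul_inv_eq_iff_eq_mul]
    apply Units.ext
    rw [Units.val_mul, Units.val_mul, coe_uu, coe_uu]
    ext i j
    fin_cases i <;> fin_cases j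
    · simp [Matrix.mul_apply, Fin.sum_univ_two, hc]
    · simp [Matrix.mul_apply, Fin.sum_univ_two, hc]
      field_simp
      ring
    · simp [Matrix.mul_apply, Fin.sum_univ_two, hc]
    · simp [Matrix.mul_apply, Fin.sum_univ_two, hc]
  have hb' : (b⁻¹).1 1 0 = 0 := by
    have h1 : (b⁻¹).1 = (b.1)⁻¹ := Matrix.coe_units_inv b
    rw [h1, Matrix.inv_def, Matrix.adjugate_fin_two]
    simp [hb]
  apply le_antisymm
  · rintro _ ⟨_, ⟨t, rfl⟩, rfl⟩
    obtain ⟨s, hs⟩ := key b hb t
    exact ⟨s, hs.symm⟩
  · rintro _ ⟨t, rfl⟩
    obtain ⟨s, hs⟩ := key b⁻¹ hb' t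
    refine ⟨uu s, ⟨s, rfl⟩, ?_⟩
    show b * uu s * b⁻¹ = uu t
    rw [← hs]
    group

/-- Bruhat decomposition -/
theorem bruhat {B : GL (Fin 2) F} (hB : B.1 1 0 ≠ 0) : ∃ (l : F) (b : GL (Fin 2) F), b.1 1 0 = 0 ∧ B = uu l * ww * b := by
  refine ⟨B.1 0 0 / B.1 1 0, ww⁻¹ * uu (-(B.1 0 0 / B.1 1 0)) * B, ?_, ?_⟩
  · rw [Units.val_mul, Units.val_mul, coe_ww_inv, coe_uu]
    simp [Matrix.mul_apply, Fin.sum_univ_two]
    field_simp
    ring
  · rw [← uu_inv]
    group

/-- `x y x` -/
theorem xyx : (uu 1 * (ww * uu 1 * ww⁻¹) * uu 1 : GL (Fin 2) F) = ww := by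
  apply Units.ext
  simp only [Units.val_mul, coe_ww, coe_ww_inv, coe_uu]
  ext i j
  fin_cases i <;> fin_cases j <;> simp [Matrix.mul_apply, Fin.sum_univ_two]

theorem ww_sq : ((ww * ww : GL (Fin 2) F) : Matrix (Fin 2) (Fin 2) F) 1 0 = 0 := by
  rw [Units.val_mul, coe_ww]
  simp [Matrix.mul_apply, Fin.sum_univ_two]

theorem dd_10 (m : Fˣ) : (dd m).1 1 0 = 0 := by rw [coe_dd]; simp

theorem dd_mul (m n : Fˣ) : dd m * dd n = dd (m * n) := by
  apply Units.ext
  rw [Units.val_mul, coe_dd, coe_dd, coe_dd]
  ext i j
  fin_cases i <;> fin_cases j <;> simp [Matrix.mul_apply, Fin.sum_univ_two, mul_comm]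

theorem dd_one : (dd 1 : GL (Fin 2) F) = 1 := by
  apply Units.ext
  rw [coe_dd, Units.val_one]
  ext i j
  fin_cases i <;> fin_cases j <;> simp

theorem dd_pow (m : Fˣ) (k : ℕ) : dd m ^ k = dd (m ^ k) := by
  induction k with
  | zero => rw [pow_zero, pow_zero, dd_one]
  | succ k ih => rw [pow_succ, ih, dd_mul, pow_succ]

theorem dd_conj (m : Fˣ) (t : F) : dd m * uu t * (dd m)⁻¹ = uu ((m : F) ^ 2 * t) := by
  rw [mul_inv_eq_iff_eq_mul]
  apply Units.ext
  rw [Units.val_mul, Units.val_mul, coe_uu, coe_uu, coe_dd]
  have hm : (m : F) ≠ 0 := m.ne_zero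
  ext i j
  fin_cases i <;> fin_cases j
  · simp [Matrix.mul_apply, Fin.sum_univ_two]
  · simp [Matrix.mul_apply, Fin.sum_univ_two]
    field_simp
  · simp [Matrix.mul_apply, Fin.sum_univ_two]
  · simp [Matrix.mul_apply, Fin.sum_univ_two]

/-- the torus from root elements -/
theorem dd_eq (m : Fˣ) : dd m = uu (m : F) * (ww * uu ((m⁻¹ : Fˣ) : F) * ww⁻¹) * uu (m : F) *
    (uu (-1) * (ww * uu (-1) * ww⁻¹) * uu (-1)) := by
  apply Units.ext
  simp only [Units.val_mul, coe_ww, coe_ww_inv, coe_uu, coe_dd]
  ext i j
  fin_cases i <;> fin_cases j <;> simp [Matrix.mul_apply, Fin.sum_univ_two]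

end mats

end Cfsg.Agent.H428.U2
end

-- part: H428/U2/Abs
section
prune_inst 0x20204000112202000000000020000644580001000020000050000a000a02570000430100b4b01810100a26c468380040001000400008000000000000011901a0800850021210ac00360009000004000000000000000000000000000000041004000000000
set_option linter.all false
open scoped Cfsg.Agent.FastGrp

/-!
# The conclusion of `StU2P`, abstract form (helper428)
-/

set_option autoImplicit false
set_option linter.unusedSimpArgs false
set_option linter.unusedSectionVars false

namespace Cfsg.Agent.H428.U2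

open Matrix

universe u v w

section abs

variable {F : Type v} [Field F] {A : Type w} [Group A] (ρ : GL (Fin 2) F →* A)

/-- the image of `B U B⁻¹` -/
def T (B : GL (Fin 2) F) : Subgroup A := ((Us F).map (MulAut.conj B).toMonoidHom).map ρ

theorem map_conj {G : Type*} [Group G] (φ : G →* A) (X : Subgroup G) (g : G) :
    (X.map (MulAut.conj g).toMonoidHom).map φ = (X.map φ).map (MulAut.conj (φ g)).toMonoidHom := by
  rw [Subgroup.map_map, Subgroup.map_map]
  congr 1
  ext x
  simp

theorem conj_conj {G : Type*} [Group G] (X : Subgroup G) (g h : G) :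
    (X.map (MulAut.conj g).toMonoidHom).map (MulAut.conj h).toMonoidHom = X.map (MulAut.conj (h * g)).toMonoidHom := by
  rw [Subgroup.map_map]
  congr 1
  ext x
  simp [mul_assoc]

theorem T_conj (B C : GL (Fin 2) F) : (T ρ B).map (MulAut.conj (ρ C)).toMonoidHom = T ρ (C * B) := by
  unfold T
  rw [← map_conj, conj_conj]

theorem T_eq (B : GL (Fin 2) F) {b : GL (Fin 2) F} (hb : b.1 1 0 = 0) : T ρ (B * b) = T ρ B := by
  unfold T
  rw [← conj_conj, conj_Us hb]

theorem mem_T {B : GL (Fin 2) F} {a : A} : a ∈ T ρ B ↔ ∃ t, a = ρ (B * uu t * B⁻¹) := by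
  constructor
  · rintro ⟨_, ⟨_, ⟨t, rfl⟩, rfl⟩, rfl⟩
    exact ⟨t, rfl⟩
  · rintro ⟨t, rfl⟩
    exact ⟨_, ⟨_, ⟨t, rfl⟩, rfl⟩, rfl⟩

/-- the normalized situation -/
structure Nrm {L : Type u} [Group L] (p : ℕ) (φ : L →* A) (P : Sylow p L) : Prop where
  surj : Function.Surjective ρ
  exp : ∀ x ∈ (P : Subgroup L), x ^ p = 1
  cen : ∀ g, φ g = 1 → ∀ l, g * l = l * g
  one : ∀ g, φ g = 1 → g ^ p = 1 → g = 1
  img : (P : Subgroup L).map φ = T ρ 1

namespace Nrm

variable {ρ} {L : Type u} [Group L] [Finite L] {p : ℕ} [Fact p.Prime] {φ : L →* A} {P : Sylow p L} (N : Nrm ρ p φ P)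

include N

theorem exists_conj (P' : Sylow p L) : ∃ g : L, (P' : Subgroup L) = (P : Subgroup L).map (MulAut.conj g).toMonoidHom := by
  obtain ⟨g, hg⟩ := MulAction.exists_smul_eq L P P'
  refine ⟨g, ?_⟩
  rw [← hg, Sylow.coe_subgroup_smul]
  rfl

theorem exp' (P' : Sylow p L) : ∀ x ∈ (P' : Subgroup L), x ^ p = 1 := by
  obtain ⟨g, hg⟩ := N.exists_conj P'
  rw [hg]
  rintro _ ⟨x, hx, rfl⟩
  show (MulAut.conj g x) ^ p = 1
  rw [← map_pow, N.exp x hx, map_one]

theorem le_of {X Y : Subgroup L} (hX : ∀ x ∈ X, x ^ p = 1) (hY : ∀ x ∈ Y, x ^ p = 1) (h : X.map φ ≤ Y.map φ) : X ≤ Y := by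
  intro x hx
  obtain ⟨y, hy, e⟩ := h ⟨x, hx, rfl⟩
  have h1 : φ (y⁻¹ * x) = 1 := by rw [map_mul, map_inv, e, inv_mul_cancel]
  have h2 := N.cen _ h1
  have h3 : (y⁻¹ * x) ^ p = 1 := by
    have h4 : Commute y (y⁻¹ * x) := (h2 y).symm
    have h5 : (y * (y⁻¹ * x)) ^ p = y ^ p * (y⁻¹ * x) ^ p := h4.mul_pow p
    rw [mul_inv_cancel_left, hX x hx, hY y hy, one_mul] at h5
    exact h5.symm
  have h4 := N.one _ h1 h3
  have h5 : x = y := by
    have h6 := congrArg (y * ·) h4
    simpa using h6
  rw [h5]
  exact hy

theorem eq_of {X Y : Subgroup L} (hX : ∀ x ∈ X, x ^ p = 1) (hY : ∀ x ∈ Y, x ^ p = 1) (h : X.map φ = Y.map φ) : X = Y :=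
  le_antisymm (N.le_of hX hY h.le) (N.le_of hY hX h.ge)

theorem exp_conj {X : Subgroup L} (hX : ∀ x ∈ X, x ^ p = 1) (g : L) :
    ∀ x ∈ X.map (MulAut.conj g).toMonoidHom, x ^ p = 1 := by
  rintro _ ⟨x, hx, rfl⟩
  show (MulAut.conj g x) ^ p = 1
  rw [← map_pow, hX x hx, map_one]

/-- the other Sylow subgroups -/
theorem exists_l {P' : Sylow p L} (h : P' ≠ P) : ∃ l : F, (P' : Subgroup L).map φ = T ρ (uu l * ww) := by
  obtain ⟨g, hg⟩ := N.exists_conj P'
  obtain ⟨B, hB⟩ := N.surj (φ g)
  have h1 : (P' : Subgroup L).map φ = T ρ B := by
    rw [hg, map_conj, N.img, ← hB, T_conj, mul_one]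
  have h2 : B.1 1 0 ≠ 0 := by
    intro h0
    apply h
    apply Sylow.ext
    apply N.eq_of (N.exp' P') N.exp
    rw [h1, N.img, ← T_eq ρ 1 h0, one_mul]
  obtain ⟨l, b, hb, e⟩ := bruhat h2
  refine ⟨l, ?_⟩
  rw [h1, e, T_eq ρ _ hb]

/-- elements of `P` -/
theorem exists_x (t : F) : ∃ x ∈ (P : Subgroup L), φ x = ρ (uu t) := by
  have h1 : ρ (uu t) ∈ (P : Subgroup L).map φ := by
    rw [N.img, mem_T]
    exact ⟨t, by rw [one_mul, inv_one, mul_one]⟩
  exact h1

theorem exists_y {P' : Sylow p L} {l : F} (h : (P' : Subgroup L).map φ = T ρ (uu l * ww)) (t : F) :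
    ∃ y ∈ (P' : Subgroup L), φ y = ρ (uu l * (ww * uu t * ww⁻¹) * uu (-l)) := by
  have h1 : ρ (uu l * (ww * uu t * ww⁻¹) * uu (-l)) ∈ (P' : Subgroup L).map φ := by
    rw [h, mem_T]
    refine ⟨t, ?_⟩
    rw [← uu_inv]
    congr 1
    group
  exact h1

theorem fst : ∀ P' P'' : Sylow p L, P' ≠ P → P'' ≠ P → ∃ x ∈ (P : Subgroup L),
      (P' : Subgroup L).map (MulAut.conj x).toMonoidHom = P'' := by
  intro P' P'' h' h''
  obtain ⟨l', e'⟩ := N.exists_l h'
  obtain ⟨l'', e''⟩ := N.exists_l h''
  obtain ⟨x, hx, ex⟩ := N.exists_x (l'' - l')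
  refine ⟨x, hx, ?_⟩
  apply N.eq_of (N.exp_conj (N.exp' P') x) (N.exp' P'')
  rw [map_conj, e', e'', ex, T_conj, ← mul_assoc, uu_mul, sub_add_cancel]

theorem snd : ∀ P' : Sylow p L, P' ≠ P → ∃ x y : L, x ∈ (P : Subgroup L) ∧ x ≠ 1 ∧ y ∈ (P' : Subgroup L) ∧
      (P : Subgroup L).map (MulAut.conj (x * y * x)).toMonoidHom = P' ∧
      (P' : Subgroup L).map (MulAut.conj (x * y * x)).toMonoidHom = P := by
  intro P' h'
  obtain ⟨l, e⟩ := N.exists_l h'
  obtain ⟨x, hx, ex⟩ := N.exists_x 1
  obtain ⟨y, hy, ey⟩ := N.exists_y e 1
  have exyx : φ (x * y * x) = ρ (uu l * ww * uu (-l)) := by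
    rw [map_mul, map_mul, ex, ey, ← map_mul, ← map_mul]
    congr 1
    have h1 : (uu 1 * uu l : GL (Fin 2) F) = uu l * uu 1 := by rw [uu_mul, uu_mul, add_comm]
    have h2 : (uu (-l) * uu 1 : GL (Fin 2) F) = uu 1 * uu (-l) := by rw [uu_mul, uu_mul, add_comm]
    calc (uu 1 * (uu l * (ww * uu 1 * ww⁻¹) * uu (-l)) * uu 1 : GL (Fin 2) F)
        = (uu 1 * uu l) * (ww * uu 1 * ww⁻¹) * (uu (-l) * uu 1) := by group
      _ = uu l * (uu 1 * (ww * uu 1 * ww⁻¹) * uu 1) * uu (-l) := by rw [h1, h2]; group
      _ = uu l * ww * uu (-l) := by rw [xyx]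
  have b1 : ((uu (-l) : GL (Fin 2) F)).1 1 0 = 0 := by rw [coe_uu]; simp
  have A1 : (P : Subgroup L).map (MulAut.conj (x * y * x)).toMonoidHom = P' := by
    apply N.eq_of (N.exp_conj N.exp _) (N.exp' P')
    rw [map_conj, N.img, e, exyx, T_conj, mul_one, T_eq ρ _ b1]
  have A2 : (P' : Subgroup L).map (MulAut.conj (x * y * x)).toMonoidHom = P := by
    apply N.eq_of (N.exp_conj (N.exp' P') _) N.exp
    rw [map_conj, N.img, e, exyx, T_conj]
    have h1 : (uu l * ww * uu (-l) * (uu l * ww) : GL (Fin 2) F) = 1 * (uu l * (ww * ww)) := by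
      rw [← uu_inv]
      group
    rw [h1, T_eq ρ]
    rw [Units.val_mul, coe_uu]
    have h2 := ww_sq (F := F)
    simp [Matrix.mul_apply, Fin.sum_univ_two] at h2 ⊢
    tauto
  refine ⟨x, y, hx, ?_, hy, A1, A2⟩
  rintro rfl
  apply h'
  rw [one_mul, mul_one] at A1
  apply Sylow.ext
  rw [← A1]
  have h3 : (P' : Subgroup L) ≤ (P' : Subgroup L).map (MulAut.conj y).toMonoidHom := by
    intro z hz
    refine ⟨y⁻¹ * z * y, mul_mem (mul_mem (inv_mem hy) hz) hy, ?_⟩
    show y * (y⁻¹ * z * y) * y⁻¹ = z
    group
  have h4 : (P' : Subgroup L).map (MulAut.conj y).toMonoidHom ≤ P' := by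
    rintro _ ⟨z, hz, rfl⟩
    exact mul_mem (mul_mem hy hz) (inv_mem hy)
  rw [one_mul, mul_one] at A2
  rw [A1]
  exact (le_antisymm h3 h4).trans A2

theorem thd (hk : ∀ g : GL (Fin 2) F, ρ g = 1 → g.1 0 1 = 0) [Finite F] (hF : Nat.card F = p)
    (hn : ∃ P' : Sylow p L, P' ≠ P) :
    ∃ h ∈ Subgroup.normalizer ((P : Subgroup L) : Set L),
      ∀ k : ℕ, 0 < k → 2 * k < p - 1 → ∀ x ∈ (P : Subgroup L), x ≠ 1 → h ^ k * x * (h ^ k)⁻¹ ≠ x := by
  obtain ⟨P', h'⟩ := hn
  obtain ⟨l, e⟩ := N.exists_l h'
  have h1 : ∀ t : F, ∃ g : L, φ g = ρ (uu t) := fun t => by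
    obtain ⟨x, -, hx⟩ := N.exists_x t
    exact ⟨x, hx⟩
  have h2 : ∀ t : F, ∃ g : L, φ g = ρ (ww * uu t * ww⁻¹) := fun t => by
    obtain ⟨x, hx⟩ := h1 l
    obtain ⟨y, -, hy⟩ := N.exists_y e t
    refine ⟨x⁻¹ * y * x, ?_⟩
    rw [map_mul, map_mul, map_inv, hx, hy, ← map_inv, ← map_mul, ← map_mul]
    congr 1
    rw [← uu_inv]
    group
  have h3 : ∀ m : Fˣ, ∃ g : L, φ g = ρ (dd m) := fun m => by
    obtain ⟨a, ha⟩ := h1 (m : F)
    obtain ⟨b, hb⟩ := h2 ((m⁻¹ : Fˣ) : F)
    obtain ⟨a', ha'⟩ := h1 (-1)
    obtain ⟨b', hb'⟩ := h2 (-1)
    refine ⟨a * b * a * (a' * b' * a'), ?_⟩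
    rw [dd_eq]
    simp only [map_mul, ha, hb, ha', hb']
  have := Fintype.ofFinite F
  obtain ⟨m, hm⟩ := IsCyclic.exists_generator (α := Fˣ)
  obtain ⟨h, hh⟩ := h3 m
  have hord : orderOf m = p - 1 := by
    rw [orderOf_eq_card_of_forall_mem_zpowers hm, Nat.card_units, hF]
  refine ⟨h, ?_, ?_⟩
  · have h4 : (P : Subgroup L).map (MulAut.conj h).toMonoidHom = P := by
      apply N.eq_of (N.exp_conj N.exp _) N.exp
      rw [map_conj, N.img, hh, T_conj, mul_one]
      conv_lhs => rw [← one_mul (dd m)]
      exact T_eq ρ 1 (dd_10 m)
    rw [Subgroup.mem_normalizer_iff]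
    intro x
    constructor
    · intro hx
      have : MulAut.conj h x ∈ (P : Subgroup L).map (MulAut.conj h).toMonoidHom := ⟨x, hx, rfl⟩
      rw [h4] at this
      exact this
    · intro hx
      have h5 : h * x * h⁻¹ ∈ (P : Subgroup L).map (MulAut.conj h).toMonoidHom := by rw [h4]; exact hx
      obtain ⟨z, hz, e⟩ := h5
      have h6 : h * z * h⁻¹ = h * x * h⁻¹ := e
      have h7 : z = x := mul_left_cancel (mul_right_cancel h6)
      rw [← h7]
      exact hz
  · intro k hk0 hkp x hx hx1 hcon
    have h4 : φ x ∈ (P : Subgroup L).map φ := ⟨x, hx, rfl⟩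
    rw [N.img, mem_T] at h4
    obtain ⟨t, ht⟩ := h4
    rw [one_mul, inv_one, mul_one] at ht
    have ht0 : t ≠ 0 := by
      rintro rfl
      rw [uu_zero, map_one] at ht
      exact hx1 (N.one x ht (N.exp x hx))
    have h5 := congrArg φ hcon
    rw [map_mul, map_mul, map_inv, map_pow, hh, ht, ← map_pow, dd_pow, ← map_inv, ← map_mul, ← map_mul, dd_conj] at h5
    have h6 : ρ (uu (((m ^ k : Fˣ) : F) ^ 2 * t - t)) = 1 := by
      rw [sub_eq_add_neg, ← uu_mul, map_mul, h5, ← map_mul, uu_mul, add_neg_cancel, uu_zero, map_one]
    have h7 := hk _ h6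
    rw [coe_uu] at h7
    have h8 : ((m ^ k : Fˣ) : F) ^ 2 = 1 := by
      have h9 : (((m ^ k : Fˣ) : F) ^ 2 - 1) * t = 0 := by
        have h10 : ((m ^ k : Fˣ) : F) ^ 2 * t - t = 0 := h7
        linear_combination h10
      exact sub_eq_zero.1 ((mul_eq_zero.1 h9).resolve_right ht0)
    have h9 : m ^ (2 * k) = 1 := by
      apply Units.ext
      rw [mul_comm, pow_mul, Units.val_pow_eq_pow_val, Units.val_one]
      exact h8
    have h10 := orderOf_dvd_of_pow_eq_one h9
    rw [hord] at h10
    exact absurd (Nat.le_of_dvd (by omega) h10) (by omega)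

end Nrm

end abs

end Cfsg.Agent.H428.U2
end

-- part: H428/U2/Hom
section
set_option linter.all false
open scoped Cfsg.Agent.FastGrp

/-!
# The conclusion of `StU2P` from a homomorphism into a quotient of `GL₂(p)` (helper428)
-/

set_option autoImplicit false
set_option linter.unusedSimpArgs false
set_option linter.unusedSectionVars false

namespace Cfsg.Agent.H428.U2

open Matrix

universe u v w

variable {F : Type v} [Field F]

theorem finite_GL [Finite F] : Finite (GL (Fin 2) F) := by
  refine Finite.of_injective (fun g : GL (Fin 2) F => (g : Matrix (Fin 2) (Fin 2) F)) Units.val_injective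

theorem card_GL [Finite F] {p : ℕ} (hF : Nat.card F = p) : Nat.card (GL (Fin 2) F) = p * ((p - 1) * (p ^ 2 - 1)) := by
  have := Fintype.ofFinite F
  have h1 := Matrix.card_GL_field (𝔽 := F) 2
  rw [h1, Fin.prod_univ_two, ← Nat.card_eq_fintype_card, hF]
  simp only [Fin.val_zero, Fin.val_one, pow_zero, pow_one]
  have h2 : p ^ 2 - p = p * (p - 1) := by
    rw [Nat.mul_sub, pow_two, mul_one]
  rw [h2]
  ring

theorem not_sq_dvd [Finite F] {p : ℕ} (hp : p.Prime) (hF : Nat.card F = p) : ¬ p ^ 2 ∣ Nat.card (GL (Fin 2) F) := by
  rw [card_GL hF]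
  intro h
  have h0 : p * p ∣ p * ((p - 1) * (p ^ 2 - 1)) := by
    refine dvd_trans ?_ h
    rw [pow_two]
  have h1 : p ∣ (p - 1) * (p ^ 2 - 1) := Nat.dvd_of_mul_dvd_mul_left hp.pos h0
  have h2 := hp.two_le
  rcases (Nat.Prime.dvd_mul hp).1 h1 with h3 | h3
  · exact absurd (Nat.le_of_dvd (by omega) h3) (by omega)
  · have h4 : p ∣ p ^ 2 := dvd_pow_self p two_ne_zero
    have h5 : 1 ≤ p ^ 2 := Nat.one_le_pow _ _ hp.pos
    have h6 : p ∣ p ^ 2 - (p ^ 2 - 1) := Nat.dvd_sub h4 h3
    have h7 : p ^ 2 - (p ^ 2 - 1) = 1 := by omega
    rw [h7] at h6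
    exact hp.one_lt.ne' (Nat.dvd_one.1 h6)

/-- elements of order `p` of `GL₂(p)` -/
theorem exists_uu [Finite F] {p : ℕ} [hp : Fact p.Prime] (hF : Nat.card F = p) {B : GL (Fin 2) F} (hB : B ^ p = 1) :
    ∃ (C : GL (Fin 2) F) (t : F), B = C * uu t * C⁻¹ := by
  have := finite_GL (F := F)
  have hfac : (Nat.card (GL (Fin 2) F)).factorization p = 1 := by
    have h1 : p ∣ Nat.card (GL (Fin 2) F) := by rw [card_GL hF]; exact dvd_mul_right _ _
    have h0 : Nat.card (GL (Fin 2) F) ≠ 0 := Nat.card_pos.ne'
    have h2 : 1 ≤ (Nat.card (GL (Fin 2) F)).factorization p := (hp.out.dvd_iff_one_le_factorization h0).1 h1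
    have h3 : ¬ 2 ≤ (Nat.card (GL (Fin 2) F)).factorization p := by
      intro h
      exact not_sq_dvd hp.out hF ((hp.out.pow_dvd_iff_le_factorization h0).2 h)
    omega
  have hUs : Nat.card (Us F) = p ^ (Nat.card (GL (Fin 2) F)).factorization p := by
    rw [hfac, pow_one, card_Us, hF]
  have hpg : IsPGroup p (Subgroup.zpowers B) := by
    rintro ⟨_, m, rfl⟩
    refine ⟨1, Subtype.ext ?_⟩
    rw [Subgroup.coe_pow, Subgroup.coe_one, pow_one]
    show (B ^ m) ^ p = 1
    rw [← zpow_natCast, ← _root_.zpow_mul, mul_comm, _root_.zpow_mul, zpow_natCast, hB, _root_.one_zpow]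
  obtain ⟨Q, hQ⟩ := hpg.exists_le_sylow
  obtain ⟨C, hC⟩ := MulAction.exists_smul_eq (GL (Fin 2) F) (Sylow.ofCard (Us F) hUs) Q
  have h1 : B ∈ (Q : Subgroup (GL (Fin 2) F)) := hQ (Subgroup.mem_zpowers B)
  rw [← hC, Sylow.coe_subgroup_smul] at h1
  obtain ⟨_, ⟨t, rfl⟩, e⟩ := h1
  exact ⟨C, t, e.symm⟩

/-- **the conclusion of `StU2P` for groups with a homomorphism to a quotient of `GL₂(p)` with a central `p'`-kernel** -/
theorem concl_of_hom [Finite F] {p : ℕ} [hp : Fact p.Prime] (hF : Nat.card F = p) {A : Type w} [Group A]
    (ρ : GL (Fin 2) F →* A) (hs : Function.Surjective ρ) (hk : ∀ g : GL (Fin 2) F, ρ g = 1 → g.1 0 1 = 0)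
    (hk' : ∀ g : GL (Fin 2) F, ρ g = 1 → g ^ (p - 1) = 1)
    {L : Type u} [Group L] [Finite L] (φ : L →* A) (hc : ∀ g, φ g = 1 → ∀ l, g * l = l * g)
    (h1 : ∀ g, φ g = 1 → g ^ p = 1 → g = 1) (hpL : p ∣ Nat.card L) (P : Sylow p L) (hn : ¬ (P : Subgroup L).Normal) :
    Concl p P := by
  have := finite_GL (F := F)
  have : Finite A := Finite.of_surjective ρ hs
  -- `φ` is injective on `P`
  have hinj : ∀ x ∈ (P : Subgroup L), φ x = 1 → x = 1 := by
    intro x hx hx1
    obtain ⟨k, hk⟩ := P.isPGroup' ⟨x, hx⟩
    have hk0 : x ^ p ^ k = 1 := congrArg Subtype.val hk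
    clear hk
    induction k with
    | zero => rwa [pow_zero, pow_one] at hk0
    | succ k ih =>
      apply ih
      apply h1
      · rw [map_pow, hx1, one_pow]
      · rw [← pow_mul, ← pow_succ, hk0]
  have hcardmap : Nat.card ((P : Subgroup L).map φ) = Nat.card P := by
    refine (Nat.card_eq_of_bijective (fun x : P => (⟨φ x, x, x.2, rfl⟩ : (P : Subgroup L).map φ)) ⟨?_, ?_⟩).symm
    · intro x y hxy
      have h2 : φ x = φ y := congrArg Subtype.val hxy
      have h3 : φ ((y : L)⁻¹ * x) = 1 := by rw [map_mul, map_inv, h2, inv_mul_cancel]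
      exact Subtype.ext (inv_mul_eq_one.1 (hinj _ (mul_mem (inv_mem y.2) x.2) h3)).symm
    · rintro ⟨_, x, hx, rfl⟩
      exact ⟨⟨x, hx⟩, rfl⟩
  -- `|P| = p`
  have hdvd : Nat.card P ∣ Nat.card (GL (Fin 2) F) := by
    rw [← hcardmap]
    exact (Subgroup.card_subgroup_dvd_card _).trans (Subgroup.card_dvd_of_surjective ρ hs)
  have hPcard : Nat.card P = p := by
    obtain ⟨n, hn⟩ := IsPGroup.iff_card.1 P.isPGroup'
    have h2 : n < 2 := by
      by_contra hcon
      push Not at hcon
      apply not_sq_dvd hp.out hF
      rw [hn] at hdvd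
      exact (pow_dvd_pow p hcon).trans hdvd
    have h3 : n ≠ 0 := by
      rintro rfl
      have h4 := P.card_eq_multiplicity
      have h5 : 1 ≤ (Nat.card L).factorization p := (hp.out.dvd_iff_one_le_factorization Nat.card_pos.ne').1 hpL
      have h6 : Nat.card P = 1 := by rw [hn, pow_zero]
      rw [h6] at h4
      have h7 : 1 < p ^ (Nat.card L).factorization p := Nat.one_lt_pow (by omega) hp.out.one_lt
      omega
    have h4 : n = 1 := by omega
    rw [hn, h4, pow_one]
  -- a generator
  have : Fact (Nat.card P).Prime := ⟨by rw [hPcard]; exact hp.out⟩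
  have hPexp : ∀ x ∈ (P : Subgroup L), x ^ p = 1 := by
    intro x hx
    have h2 : (⟨x, hx⟩ : P) ^ Nat.card P = 1 := pow_card_eq_one'
    rw [hPcard] at h2
    exact congrArg Subtype.val h2
  obtain ⟨x0, hx0, hx01⟩ : ∃ x ∈ (P : Subgroup L), x ≠ 1 := by
    by_contra hcon
    push Not at hcon
    have h2 : Nat.card P = 1 := by
      rw [Nat.card_eq_one_iff_unique]
      exact ⟨⟨fun a b => Subtype.ext ((hcon a a.2).trans (hcon b b.2).symm)⟩, ⟨1⟩⟩
    rw [hPcard] at h2
    exact hp.out.one_lt.ne' h2
  -- lift to `GL₂`
  obtain ⟨B, hB, hBp⟩ : ∃ B : GL (Fin 2) F, ρ B = φ x0 ∧ B ^ p = 1 := by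
    obtain ⟨B, hB⟩ := hs (φ x0)
    have h2 : ρ (B ^ p) = 1 := by rw [map_pow, hB, ← map_pow, hPexp x0 hx0, map_one]
    have h3 := hk' _ h2
    refine ⟨(B ^ (p - 1))⁻¹, ?_, ?_⟩
    · rw [map_inv, map_pow, hB, inv_eq_iff_mul_eq_one, ← pow_succ, Nat.sub_add_cancel hp.out.one_lt.le, ← map_pow,
        hPexp x0 hx0, map_one]
    · rw [inv_pow, ← pow_mul, mul_comm, pow_mul, h3, inv_one]
  obtain ⟨C, t, rfl⟩ := exists_uu hF hBp
  -- the normalized homomorphism
  obtain ⟨φ', hφ'⟩ : ∃ φ' : L →* A, ∀ g, φ' g = ρ C⁻¹ * φ g * (ρ C⁻¹)⁻¹ :=
    ⟨(MulAut.conj (ρ C⁻¹)).toMonoidHom.comp φ, fun g => rfl⟩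
  have hker : ∀ g, φ' g = 1 → φ g = 1 := by
    intro g hg
    rw [hφ'] at hg
    have h2 : ρ C⁻¹ * φ g = ρ C⁻¹ * 1 := by rw [mul_one]; exact mul_inv_eq_one.1 hg
    exact mul_left_cancel h2
  have h2 : φ' x0 = ρ (uu t) := by
    rw [hφ', ← hB, ← map_inv, ← map_mul, ← map_mul]
    congr 1
    group
  have hTle : (P : Subgroup L).map φ' ≤ T ρ 1 := by
    have hz : (P : Subgroup L) = Subgroup.zpowers x0 := by
      apply le_antisymm
      · intro x hx
        have h3 := mem_zpowers_of_prime_card (p := Nat.card P) rfl (g := (⟨x0, hx0⟩ : P)) (g' := (⟨x, hx⟩ : P))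
          (fun h => hx01 (congrArg Subtype.val h))
        obtain ⟨m, hm⟩ := h3
        exact ⟨m, congrArg Subtype.val hm⟩
      · rwa [Subgroup.zpowers_le]
    rw [hz, MonoidHom.map_zpowers, Subgroup.zpowers_le, h2, mem_T]
    exact ⟨t, by rw [one_mul, inv_one, mul_one]⟩
  have hTcard : Nat.card (T ρ 1) ≤ Nat.card ((P : Subgroup L).map φ') := by
    have h3 : Nat.card ((P : Subgroup L).map φ') = p := by
      refine Eq.trans (Eq.symm ?_) hPcard
      refine Nat.card_eq_of_bijective (fun x : P => (⟨φ' x, x, x.2, rfl⟩ : (P : Subgroup L).map φ')) ⟨?_, ?_⟩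
      · intro x y hxy
        have h2 : φ' x = φ' y := congrArg Subtype.val hxy
        have h3 : φ' ((y : L)⁻¹ * x) = 1 := by rw [map_mul, map_inv, h2, inv_mul_cancel]
        exact Subtype.ext (inv_mul_eq_one.1 (hinj _ (mul_mem (inv_mem y.2) x.2) (hker _ h3))).symm
      · rintro ⟨_, x, hx, rfl⟩
        exact ⟨⟨x, hx⟩, rfl⟩
    rw [h3, ← hF]
    refine Nat.card_le_card_of_surjective (fun t : F => (⟨ρ (1 * uu t * 1⁻¹), (mem_T ρ).2 ⟨t, rfl⟩⟩ : T ρ 1)) ?_
    rintro ⟨a, ha⟩
    obtain ⟨t, rfl⟩ := (mem_T ρ).1 ha
    exact ⟨t, rfl⟩
  have N : Nrm ρ p φ' P :=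
    { surj := hs
      exp := hPexp
      cen := fun g hg => hc g (hker g hg)
      one := fun g hg => h1 g (hker g hg)
      img := Subgroup.eq_of_le_of_card_ge hTle hTcard }
  have hn' : ∃ P' : Sylow p L, P' ≠ P := by
    by_contra hcon
    push Not at hcon
    have : Subsingleton (Sylow p L) := ⟨fun a b => (hcon a).trans (hcon b).symm⟩
    exact hn (Sylow.normal_of_subsingleton P)
  exact ⟨N.fst, N.snd, N.thd hk hF hn'⟩

end Cfsg.Agent.H428.U2
end

-- part: H913/Q5/ExtraFive
section
set_option linter.all false
open scoped Cfsg.Agent.FastGrp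

/-!
# A group generated by two commuting pairs with commutators in a central group of order 5 (abstract part of the row `B`)
-/

set_option autoImplicit false

namespace Cfsg.Agent.H913.Q5

open Subgroup

section rule

variable {G : Type*} [Group G]

theorem rule_one {a b v : G} {κ : ℤ} (h : a * b = v ^ κ * b * a) (ha : Commute a v) (i : ℤ) :
    a ^ i * b * (a ^ i)⁻¹ = v ^ (κ * i) * b := by
  have h1 : MulAut.conj a b = v ^ κ * b := by
    rw [MulAut.conj_apply, h, mul_inv_cancel_right]
  have hv : ∀ n m : ℤ, MulAut.conj (a ^ n) (v ^ m) = v ^ m := by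
    intro n m
    rw [MulAut.conj_apply, ((ha.zpow_zpow n m)).eq, mul_inv_cancel_right]
  have h2 : MulAut.conj a⁻¹ b = v ^ (-κ) * b := by
    have h3 : MulAut.conj a⁻¹ (MulAut.conj a b) = b := by
      rw [← MulAut.mul_apply, ← map_mul, inv_mul_cancel, map_one, MulAut.one_apply]
    rw [h1, map_mul] at h3
    have h4 := hv (-1) κ
    rw [zpow_neg_one] at h4
    rw [h4] at h3
    rw [zpow_neg, eq_inv_mul_iff_mul_eq, h3]
  show MulAut.conj (a ^ i) b = v ^ (κ * i) * b
  induction i with
  | zero => simp
  | succ n ih =>
    rw [zpow_add_one, map_mul, MulAut.mul_apply, h1, map_mul, ih, hv, ← mul_assoc, ← zpow_add]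
    congr 2
    ring
  | pred n ih =>
    rw [zpow_sub_one, map_mul, MulAut.mul_apply, h2, map_mul, ih, hv, ← mul_assoc, ← zpow_add]
    congr 2
    ring

theorem rule {a b v : G} {κ : ℤ} (h : a * b = v ^ κ * b * a) (ha : Commute a v) (hb : Commute b v) (i j : ℤ) :
    a ^ i * b ^ j = v ^ (κ * i * j) * (b ^ j * a ^ i) := by
  have h1 := rule_one h ha i
  have h2 : a ^ i * b ^ j * (a ^ i)⁻¹ = v ^ (κ * i * j) * b ^ j := by
    rw [← conj_zpow, h1, ((hb.zpow_right (κ * i)).symm).mul_zpow, ← zpow_mul]
  rw [← mul_assoc, ← h2, inv_mul_cancel_right]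

end rule

/-- the data: `v` of order 5, `[a,b] ∈ <v>` nontrivial, `[c,d] ∈ <v>` nontrivial, everything else commutes -/
structure Ext5 {G : Type*} [Group G] (v a b c d : G) (κ l : ℤ) : Prop where
  v_ne : v ≠ 1
  v5 : v ^ 5 = 1
  a5 : a ^ 5 = 1
  b5 : b ^ 5 = 1
  c5 : c ^ 5 = 1
  d5 : d ^ 5 = 1
  av : Commute a v
  bv : Commute b v
  cv : Commute c v
  dv : Commute d v
  k5 : ¬ (5 : ℤ) ∣ κ
  l5 : ¬ (5 : ℤ) ∣ l
  ab : a * b = v ^ κ * b * a
  cd : c * d = v ^ l * d * c
  ac : Commute a c
  ad : Commute a d
  bc : Commute b c
  bd : Commute b d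

namespace Ext5

variable {G : Type*} [Group G] {v a b c d : G} {κ l : ℤ}

/-- normal forms -/
def nf (v a b c d : G) (x : ℤ × ℤ × ℤ × ℤ × ℤ) : G :=
  a ^ x.1 * b ^ x.2.1 * (c ^ x.2.2.1 * d ^ x.2.2.2.1) * v ^ x.2.2.2.2

section

variable (E : Ext5 v a b c d κ l)

include E

theorem nf_mul (i j k n m i' j' k' n' m' : ℤ) :
    nf v a b c d (i, j, k, n, m) * nf v a b c d (i', j', k', n', m') =
      nf v a b c d (i + i', j + j', k + k', n + n', m + m' - κ * i' * j - l * k' * n) := by
  have h1 : b ^ j * a ^ i' = v ^ (-(κ * i' * j)) * (a ^ i' * b ^ j) := by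
    rw [rule E.ab E.av E.bv i' j, ← mul_assoc, ← zpow_add, neg_add_cancel, zpow_zero, one_mul]
  have h2 : d ^ n * c ^ k' = v ^ (-(l * k' * n)) * (c ^ k' * d ^ n) := by
    rw [rule E.cd E.cv E.dv k' n, ← mul_assoc, ← zpow_add, neg_add_cancel, zpow_zero, one_mul]
  have cA : ∀ s t : ℤ, v ^ s * a ^ t = a ^ t * v ^ s := fun s t => (E.av.zpow_zpow t s).symm.eq
  have cB : ∀ s t : ℤ, v ^ s * b ^ t = b ^ t * v ^ s := fun s t => (E.bv.zpow_zpow t s).symm.eq
  have cC : ∀ s t : ℤ, v ^ s * c ^ t = c ^ t * v ^ s := fun s t => (E.cv.zpow_zpow t s).symm.eq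
  have cD : ∀ s t : ℤ, v ^ s * d ^ t = d ^ t * v ^ s := fun s t => (E.dv.zpow_zpow t s).symm.eq
  have ac : ∀ s t : ℤ, c ^ s * a ^ t = a ^ t * c ^ s := fun s t => (E.ac.zpow_zpow t s).symm.eq
  have ad : ∀ s t : ℤ, d ^ s * a ^ t = a ^ t * d ^ s := fun s t => (E.ad.zpow_zpow t s).symm.eq
  have bc : ∀ s t : ℤ, c ^ s * b ^ t = b ^ t * c ^ s := fun s t => (E.bc.zpow_zpow t s).symm.eq
  have bd : ∀ s t : ℤ, d ^ s * b ^ t = b ^ t * d ^ s := fun s t => (E.bd.zpow_zpow t s).symm.eq
  simp only [nf]
  calc a ^ i * b ^ j * (c ^ k * d ^ n) * v ^ m * (a ^ i' * b ^ j' * (c ^ k' * d ^ n') * v ^ m')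
      = a ^ i * b ^ j * (c ^ k * d ^ n) * (v ^ m * a ^ i') * b ^ j' * (c ^ k' * d ^ n') * v ^ m' := by
        simp only [mul_assoc]
    _ = a ^ i * b ^ j * c ^ k * (d ^ n * a ^ i') * (v ^ m * b ^ j') * (c ^ k' * d ^ n') * v ^ m' := by
        rw [cA]; simp only [mul_assoc]
    _ = a ^ i * b ^ j * (c ^ k * a ^ i') * (d ^ n * b ^ j') * (v ^ m * c ^ k') * d ^ n' * v ^ m' := by
        rw [ad, cB]; simp only [mul_assoc]
    _ = a ^ i * (b ^ j * a ^ i') * (c ^ k * b ^ j') * (d ^ n * c ^ k') * (v ^ m * d ^ n') * v ^ m' := by
        rw [ac, bd, cC]; simp only [mul_assoc]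
    _ = a ^ i * (v ^ (-(κ * i' * j)) * (a ^ i' * b ^ j)) * (b ^ j' * c ^ k) * (v ^ (-(l * k' * n)) * (c ^ k' * d ^ n)) *
        (d ^ n' * v ^ m) * v ^ m' := by
        rw [h1, h2, bc, cD]
    _ = (a ^ i * v ^ (-(κ * i' * j))) * a ^ i' * (b ^ j * b ^ j') * (c ^ k * v ^ (-(l * k' * n))) * c ^ k' * (d ^ n * d ^ n') *
        (v ^ m * v ^ m') := by simp only [mul_assoc]
    _ = v ^ (-(κ * i' * j)) * (a ^ i * a ^ i' * (b ^ j * b ^ j') * (v ^ (-(l * k' * n)) * (c ^ k * c ^ k' * (d ^ n * d ^ n') *
        (v ^ m * v ^ m')))) := by
        rw [← cA, ← cC]; simp only [mul_assoc]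
    _ = a ^ i * a ^ i' * (b ^ j * b ^ j') * (c ^ k * c ^ k' * (d ^ n * d ^ n')) * (v ^ m * v ^ m' * v ^ (-(κ * i' * j)) *
        v ^ (-(l * k' * n))) := by
        have hc : ∀ (s : ℤ) (g : G), Commute g v → v ^ s * g = g * v ^ s := fun s g hg => (hg.zpow_right s).symm.eq
        have g1 : Commute (a ^ i * a ^ i' * (b ^ j * b ^ j')) v :=
          ((E.av.zpow_left _).mul_left (E.av.zpow_left _)).mul_left ((E.bv.zpow_left _).mul_left (E.bv.zpow_left _))
        have g2 : Commute (c ^ k * c ^ k' * (d ^ n * d ^ n')) v :=
          ((E.cv.zpow_left _).mul_left (E.cv.zpow_left _)).mul_left ((E.dv.zpow_left _).mul_left (E.dv.zpow_left _))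
        have g3 : Commute (v ^ m * v ^ m') v :=
          ((Commute.refl v).zpow_left _).mul_left ((Commute.refl v).zpow_left _)
        have g4 := hc (-(l * k' * n)) _ (g2.mul_left g3)
        rw [g4]
        have g5 := hc (-(κ * i' * j)) _ (g1.mul_left ((g2.mul_left g3).mul_left ((Commute.refl v).zpow_left (-(l * k' * n)))))
        rw [g5]
        have g6 : v ^ (-(l * k' * n)) * v ^ (-(κ * i' * j)) = v ^ (-(κ * i' * j)) * v ^ (-(l * k' * n)) := by
          rw [← zpow_add, ← zpow_add, add_comm]
        simp only [mul_assoc] at g6 ⊢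
        rw [g6]
    _ = _ := by
        rw [← zpow_add, ← zpow_add, ← zpow_add, ← zpow_add, ← zpow_add, ← zpow_add, ← zpow_add]
        rfl

omit E in
theorem nf_zero : nf v a b c d (0, 0, 0, 0, 0) = 1 := by simp [nf]

/-- the group `E` -/
def grp : Subgroup G where
  carrier := Set.range (nf v a b c d)
  one_mem' := ⟨_, nf_zero⟩
  mul_mem' := by
    rintro _ _ ⟨⟨i, j, k, n, m⟩, rfl⟩ ⟨⟨i', j', k', n', m'⟩, rfl⟩
    exact ⟨_, (E.nf_mul i j k n m i' j' k' n' m').symm⟩
  inv_mem' := by
    rintro _ ⟨⟨i, j, k, n, m⟩, rfl⟩
    refine ⟨(-i, -j, -k, -n, -m + κ * (-i) * j + l * (-k) * n), eq_inv_of_mul_eq_one_right ?_⟩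
    rw [E.nf_mul, ← nf_zero (v := v) (a := a) (b := b) (c := c) (d := d)]
    congr 1
    refine Prod.ext (by simp) (Prod.ext (by simp) (Prod.ext (by simp) (Prod.ext (by simp) ?_)))
    show m + (-m + κ * (-i) * j + l * (-k) * n) - κ * (-i) * j - l * (-k) * n = 0
    ring

theorem a_mem : a ∈ E.grp := ⟨(1, 0, 0, 0, 0), by simp [nf]⟩
theorem b_mem : b ∈ E.grp := ⟨(0, 1, 0, 0, 0), by simp [nf]⟩
theorem c_mem : c ∈ E.grp := ⟨(0, 0, 1, 0, 0), by simp [nf]⟩
theorem d_mem : d ∈ E.grp := ⟨(0, 0, 0, 1, 0), by simp [nf]⟩
theorem v_mem : v ∈ E.grp := ⟨(0, 0, 0, 0, 1), by simp [nf]⟩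

theorem le_of {H : Subgroup G} (ha : a ∈ H) (hb : b ∈ H) (hc : c ∈ H) (hd : d ∈ H) (hv : v ∈ H) : E.grp ≤ H := by
  rintro _ ⟨⟨i, j, k, n, m⟩, rfl⟩
  exact mul_mem (mul_mem (mul_mem (zpow_mem ha _) (zpow_mem hb _)) (mul_mem (zpow_mem hc _) (zpow_mem hd _)))
    (zpow_mem hv _)

theorem nf_comm (x y : ℤ × ℤ × ℤ × ℤ × ℤ) : nf v a b c d x * nf v a b c d y =
    v ^ (κ * (x.1 * y.2.1 - y.1 * x.2.1) + l * (x.2.2.1 * y.2.2.2.1 - y.2.2.1 * x.2.2.2.1)) *
      (nf v a b c d y * nf v a b c d x) := by
  obtain ⟨i, j, k, n, m⟩ := x
  obtain ⟨i', j', k', n', m'⟩ := y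
  have hc : ∀ (s : ℤ) (x : ℤ × ℤ × ℤ × ℤ × ℤ), v ^ s * nf v a b c d x =
      nf v a b c d (x.1, x.2.1, x.2.2.1, x.2.2.2.1, s + x.2.2.2.2) := by
    rintro s ⟨i, j, k, n, m⟩
    have h := E.nf_mul 0 0 0 0 s i j k n m
    simp only [zero_add, mul_zero, sub_zero] at h
    rw [← h]
    simp [nf]
  rw [E.nf_mul, E.nf_mul, hc]
  congr 1
  refine Prod.ext (by simp; ring) (Prod.ext (by simp; ring) (Prod.ext (by simp; ring) (Prod.ext (by simp; ring) ?_)))
  show _ = κ * (i * j' - i' * j) + l * (k * n' - k' * n) + _
  simp only
  ring

/-- commutators -/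
theorem comm {x y : G} (hx : x ∈ E.grp) (hy : y ∈ E.grp) : x * y * x⁻¹ * y⁻¹ ∈ zpowers v := by
  obtain ⟨x, rfl⟩ := hx
  obtain ⟨y, rfl⟩ := hy
  refine ⟨κ * (x.1 * y.2.1 - y.1 * x.2.1) + l * (x.2.2.1 * y.2.2.2.1 - y.2.2.1 * x.2.2.2.1), ?_⟩
  have h := E.nf_comm x y
  generalize κ * (x.1 * y.2.1 - y.1 * x.2.1) + l * (x.2.2.1 * y.2.2.2.1 - y.2.2.1 * x.2.2.2.1) = s at h ⊢
  show v ^ s = _
  rw [h]
  group

theorem order_v : orderOf v = 5 := by
  have : Fact (Nat.Prime 5) := ⟨by norm_num⟩
  exact orderOf_eq_prime E.v5 E.v_ne

theorem dvd_of {s t : ℤ} (h : v ^ s = v ^ t) : (5 : ℤ) ∣ s - t := by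
  have h1 := orderOf_dvd_sub_iff_zpow_eq_zpow.2 h
  rwa [E.order_v] at h1

omit [Group G] E in
theorem five {r s : ℤ} (hr : ¬ (5 : ℤ) ∣ r) (h : (5 : ℤ) ∣ r * s) : (5 : ℤ) ∣ s :=
  (Int.Prime.dvd_mul' (by norm_num : Nat.Prime 5) h).resolve_left hr

theorem nf_inj {x y : ℤ × ℤ × ℤ × ℤ × ℤ} (h : nf v a b c d x = nf v a b c d y) :
    (5 : ℤ) ∣ x.1 - y.1 ∧ (5 : ℤ) ∣ x.2.1 - y.2.1 ∧ (5 : ℤ) ∣ x.2.2.1 - y.2.2.1 ∧
      (5 : ℤ) ∣ x.2.2.2.1 - y.2.2.2.1 := by
  have key : ∀ z : ℤ × ℤ × ℤ × ℤ × ℤ, (5 : ℤ) ∣ (κ * (x.1 * z.2.1 - z.1 * x.2.1) +
      l * (x.2.2.1 * z.2.2.2.1 - z.2.2.1 * x.2.2.2.1)) - (κ * (y.1 * z.2.1 - z.1 * y.2.1) +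
      l * (y.2.2.1 * z.2.2.2.1 - z.2.2.1 * y.2.2.2.1)) := by
    intro z
    have h1 := E.nf_comm x z
    have h2 := E.nf_comm y z
    rw [h, h2] at h1
    exact E.dvd_of (mul_right_cancel h1).symm
  refine ⟨?_, ?_, ?_, ?_⟩
  · refine five E.k5 (s := x.1 - y.1) ?_
    have h1 := key (0, 1, 0, 0, 0)
    simp only at h1
    rwa [show κ * (x.1 - y.1) = κ * (x.1 * 1 - 0 * x.2.1) + l * (x.2.2.1 * 0 - 0 * x.2.2.2.1) -
      (κ * (y.1 * 1 - 0 * y.2.1) + l * (y.2.2.1 * 0 - 0 * y.2.2.2.1)) by ring]
  · refine five E.k5 (s := x.2.1 - y.2.1) ?_
    have h1 := key (-1, 0, 0, 0, 0)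
    simp only at h1
    rwa [show κ * (x.2.1 - y.2.1) = κ * (x.1 * 0 - -1 * x.2.1) + l * (x.2.2.1 * 0 - 0 * x.2.2.2.1) -
      (κ * (y.1 * 0 - -1 * y.2.1) + l * (y.2.2.1 * 0 - 0 * y.2.2.2.1)) by ring]
  · refine five E.l5 (s := x.2.2.1 - y.2.2.1) ?_
    have h1 := key (0, 0, 0, 1, 0)
    simp only at h1
    rwa [show l * (x.2.2.1 - y.2.2.1) = κ * (x.1 * 0 - 0 * x.2.1) + l * (x.2.2.1 * 1 - 0 * x.2.2.2.1) -
      (κ * (y.1 * 0 - 0 * y.2.1) + l * (y.2.2.1 * 1 - 0 * y.2.2.2.1)) by ring]
  · refine five E.l5 (s := x.2.2.2.1 - y.2.2.2.1) ?_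
    have h1 := key (0, 0, -1, 0, 0)
    simp only at h1
    rwa [show l * (x.2.2.2.1 - y.2.2.2.1) = κ * (x.1 * 0 - 0 * x.2.1) + l * (x.2.2.1 * 0 - -1 * x.2.2.2.1) -
      (κ * (y.1 * 0 - 0 * y.2.1) + l * (y.2.2.1 * 0 - -1 * y.2.2.2.1)) by ring]

/-- the parametrization -/
def par (x : Fin 5 × Fin 5 × Fin 5 × Fin 5 × Fin 5) : E.grp :=
  ⟨nf v a b c d ((x.1 : ℕ), (x.2.1 : ℕ), (x.2.2.1 : ℕ), (x.2.2.2.1 : ℕ), (x.2.2.2.2 : ℕ)), _, rfl⟩

omit E in
theorem fin_eq {s t : Fin 5} (h : (5 : ℤ) ∣ ((s : ℕ) : ℤ) - (t : ℕ)) : s = t := by
  apply Fin.ext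
  have := s.2; have := t.2
  omega

omit E in
theorem pow_fin {g : G} (hg : g ^ 5 = 1) (s : ℤ) : ∃ t : Fin 5, g ^ ((t : ℕ) : ℤ) = g ^ s := by
  have h0 : (0 : ℤ) ≤ s % 5 := Int.emod_nonneg _ (by norm_num)
  have h1 : s % 5 < 5 := Int.emod_lt_of_pos _ (by norm_num)
  refine ⟨⟨(s % 5).toNat, by omega⟩, ?_⟩
  show g ^ (((s % 5).toNat : ℕ) : ℤ) = g ^ s
  rw [Int.toNat_of_nonneg h0]
  exact (zpow_eq_zpow_emod s (n := 5) (by exact_mod_cast hg)).symm

theorem par_bij : Function.Bijective E.par := by
  constructor
  · rintro ⟨i, j, k, n, m⟩ ⟨i', j', k', n', m'⟩ h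
    have h1 : nf v a b c d ((i : ℕ), (j : ℕ), (k : ℕ), (n : ℕ), (m : ℕ)) =
        nf v a b c d ((i' : ℕ), (j' : ℕ), (k' : ℕ), (n' : ℕ), (m' : ℕ)) := congrArg Subtype.val h
    obtain ⟨e1, e2, e3, e4⟩ := E.nf_inj h1
    obtain rfl := fin_eq e1
    obtain rfl := fin_eq e2
    obtain rfl := fin_eq e3
    obtain rfl := fin_eq e4
    have h2 : v ^ ((m : ℕ) : ℤ) = v ^ ((m' : ℕ) : ℤ) := mul_left_cancel h1
    obtain rfl := fin_eq (E.dvd_of h2)
    rfl
  · rintro ⟨_, ⟨i, j, k, n, m⟩, rfl⟩
    obtain ⟨i', hi⟩ := pow_fin E.a5 i
    obtain ⟨j', hj⟩ := pow_fin E.b5 j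
    obtain ⟨k', hk⟩ := pow_fin E.c5 k
    obtain ⟨n', hn⟩ := pow_fin E.d5 n
    obtain ⟨m', hm⟩ := pow_fin E.v5 m
    refine ⟨(i', j', k', n', m'), Subtype.ext ?_⟩
    show a ^ ((i' : ℕ) : ℤ) * b ^ ((j' : ℕ) : ℤ) * (c ^ ((k' : ℕ) : ℤ) * d ^ ((n' : ℕ) : ℤ)) * v ^ ((m' : ℕ) : ℤ) =
      a ^ i * b ^ j * (c ^ k * d ^ n) * v ^ m
    rw [hi, hj, hk, hn, hm]

theorem card_grp : Nat.card E.grp = 3125 := by
  rw [← Nat.card_congr (Equiv.ofBijective _ E.par_bij)]
  rw [Nat.card_eq_fintype_card]
  simp only [Fintype.card_prod, Fintype.card_fin]

/-- an element that maps the generators into `E` normalizes `E` -/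
theorem mem_normalizer {w : G} (hfin : Finite G) (ha : w * a * w⁻¹ ∈ E.grp) (hb : w * b * w⁻¹ ∈ E.grp)
    (hc : w * c * w⁻¹ ∈ E.grp) (hd : w * d * w⁻¹ ∈ E.grp) (hv : w * v * w⁻¹ ∈ E.grp) :
    w ∈ Subgroup.normalizer (E.grp : Set G) := by
  have h1 : E.grp.map (MulAut.conj w).toMonoidHom ≤ E.grp := by
    rw [Subgroup.map_le_iff_le_comap]
    exact E.le_of ha hb hc hd hv
  have h2 : E.grp.map (MulAut.conj w).toMonoidHom = E.grp := by
    apply Subgroup.eq_of_le_of_card_ge h1
    rw [Subgroup.card_map_of_injective (MulAut.conj w).injective]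
  rw [Subgroup.mem_normalizer_iff]
  intro g
  constructor
  · intro hg
    exact h1 ⟨g, hg, rfl⟩
  · intro hg
    rw [← h2] at hg
    obtain ⟨g', hg', e⟩ := hg
    have e' : w * g' * w⁻¹ = w * g * w⁻¹ := e
    rwa [← mul_left_cancel (mul_right_cancel e')]

/-- **3 divides the order of the automizer** -/
theorem three_dvd {w : G} (hfin : Finite G) (w3 : w ^ 3 = 1) (ha : w * a * w⁻¹ ∈ E.grp) (hb : w * b * w⁻¹ ∈ E.grp)
    (hc : w * c * w⁻¹ ∈ E.grp) (hd : w * d * w⁻¹ ∈ E.grp) (hv : w * v * w⁻¹ ∈ E.grp) (hne : w * a ≠ a * w) :
    3 ∣ (centralizer (E.grp : Set G)).relIndex (normalizer (E.grp : Set G)) := by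
  have hw := E.mem_normalizer hfin ha hb hc hd hv
  have hnor : ((centralizer (E.grp : Set G)).subgroupOf (normalizer (E.grp : Set G))).Normal := by
    constructor
    rintro ⟨n, hn⟩ hn' ⟨g, hg⟩
    rw [Subgroup.mem_subgroupOf] at hn' ⊢
    rw [Subgroup.mem_centralizer_iff] at hn' ⊢
    intro h hh
    show h * (g * n * g⁻¹) = g * n * g⁻¹ * h
    have h1 : g⁻¹ * h * g ∈ E.grp := by
      have h2 := (Subgroup.mem_normalizer_iff.1 (inv_mem hg) h).1 hh
      rwa [inv_inv] at h2
    have h2 := hn' _ h1
    have h3 : g⁻¹ * h * g * n = n * (g⁻¹ * h * g) := h2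
    calc h * (g * n * g⁻¹) = g * (g⁻¹ * h * g * n) * g⁻¹ := by group
      _ = g * (n * (g⁻¹ * h * g)) * g⁻¹ := by rw [h3]
      _ = g * n * g⁻¹ * h := by group
  let N := normalizer (E.grp : Set G)
  let C := (centralizer (E.grp : Set G)).subgroupOf N
  have hcard : (centralizer (E.grp : Set G)).relIndex (normalizer (E.grp : Set G)) = Nat.card (N ⧸ C) := rfl
  rw [hcard]
  let q : N ⧸ C := QuotientGroup.mk ⟨w, hw⟩
  have hq3 : q ^ 3 = 1 := by
    show (QuotientGroup.mk (⟨w, hw⟩ ^ 3 : N) : N ⧸ C) = 1
    rw [show (⟨w, hw⟩ ^ 3 : N) = 1 from Subtype.ext w3]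
    rfl
  have hq1 : q ≠ 1 := by
    intro h
    have h1 : (⟨w, hw⟩ : N) ∈ C := (QuotientGroup.eq_one_iff _).1 h
    have h2 : w ∈ centralizer (E.grp : Set G) := h1
    exact hne ((Subgroup.mem_centralizer_iff.1 h2 a E.a_mem).symm)
  have : Fact (Nat.Prime 3) := ⟨by norm_num⟩
  rw [← orderOf_eq_prime hq3 hq1]
  exact orderOf_dvd_natCard q

end

end Ext5

end Cfsg.Agent.H913.Q5

private theorem dce_f86f47f55397 : _root_.True := by
  try have : _root_.True := by simp only [_root_.Cfsg.Agent.H913.Q5.Ext5.nf.eq_1]
  exact _root_.True.intro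
end

-- part: H778/GT/RealDef
section
set_option linter.all false

/-!
# S5211, task G2-REAL-b: the interface to the concrete group `G₂(K)` (helper778)
-/

set_option autoImplicit false

namespace Cfsg.Agent.H778.GT

open Cfsg Cfsg.FusionSystem Cfsg.Agent.H756.PU Cfsg.Agent.H779.G2

universe u

/-- The data to be supplied by the concrete group `G0 = G₂(K)`. -/
structure RData (K : Type u) [Field K] (p : ℕ) where
  G0 : Type u
  [grpG : Group G0]
  [finG : Finite G0]
  /-- the embedding -/
  ι : GU K →* G0
  inj : Function.Injective ι
  syl : ¬ p ∣ ι.range.index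
  /-- torus elements and field automorphisms -/
  tor : ∀ (α : MulAut (GU K)) (s t : K) (τ : K ≃+* K), IsTor α s t τ →
    ∃ b : MulAut G0, ∀ x : GU K, b (ι x) = ι (α x)
  /-- the graph automorphism, up to a torus element and a field automorphism -/
  gr : ∀ α : MulAut (GU K), IsGr α → ∃ (b : MulAut G0) (β : MulAut (GU K)) (s t : K) (τ : K ≃+* K),
    IsTor β s t τ ∧ ∀ x : GU K, b (ι x) = ι (β (α x))
  /-- `p'`-automorphisms centralizing the Sylow subgroup are trivial -/
  cent : ∀ b : MulAut G0, (∀ x : GU K, b (ι x) = ι x) → (orderOf b).Coprime p → b = 1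
  /-- the normalizer of the Sylow subgroup -/
  nrm : ∀ g : G0, (∀ x : GU K, g * ι x * g⁻¹ ∈ ι.range) →
    ∃ (u : GU K) (s t : K) (α : MulAut (GU K)), IsTor α s t (RingEquiv.refl K) ∧
      ∀ x : GU K, g * ι x * g⁻¹ = ι (u * α x * u⁻¹)
  wa : ∃ (g : G0) (γ : MulAut (Qa K)), IsWa γ ∧ ∀ e : Qa K, g * ι (e : GU K) * g⁻¹ = ι ((γ e : Qa K) : GU K)
  wb : ∃ (g : G0) (γ : MulAut (Qb K)), IsWb γ ∧ ∀ e : Qb K, g * ι (e : GU K) * g⁻¹ = ι ((γ e : Qb K) : GU K)

attribute [instance] RData.grpG RData.finG

/-! ### the field `cent` from generation and centralizers -/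

section cent

variable {G : Type*} [Group G] [Finite G]

end cent

end Cfsg.Agent.H778.GT
end
end

-- part: H778/GT/Real
section
set_option linter.all false

/-!
# S5211, task G2-REAL-b: the fusion systems of the groups `G₂(K) ⋊ D` (helper778)
-/

set_option autoImplicit false

namespace Cfsg.Agent.H778.GT

open Cfsg Cfsg.FusionSystem Cfsg.Agent.H756.PU Cfsg.Agent.H779.G2 Cfsg.Agent.H781

universe u

/-! ### lifting -/

/-! ### the Weyl elements are unique -/

section

variable {K : Type u} [Field K]

end

/-! ### the group -/

end Cfsg.Agent.H778.GT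

private theorem dce_dc009e8f0b9c : _root_.True := by
  try have : _root_.True := by simp only [_root_.Cfsg.Agent.H779.G2.TT.eq_1]
  exact _root_.True.intro
end

section
prune_inst 0xfdfefbbbf8addfdfff7e7dfedcdffc39d0dfffefdffd0bffe8fbefdfff030e2de52bad0de0d0fe1fc260b600b87803f9ffceffea6bdc7ffffd5ff45ffbee0fe5f7bd0951d68c340fbc0fff03f0678e7f000000000000000000000000000000004200000000

-- part: H403/GT/Ea
section
prune_inst 0x4000050002000000201230001c42a2000002000f00002001020006800c200d002e20b000140358208104003d0000031000100000000000000000011901a0800002021100a10000000f000100000000000000000000000000000000000000000000000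
set_option linter.all false
open scoped Cfsg.Agent.FastGrp

/-!
# S5211, task [G2-Ea]: essential subgroups contained in `Q_a`, `p ≠ 3`
-/

set_option autoImplicit false

namespace Cfsg.Agent.H403.GT

open Cfsg Cfsg.FusionSystem Cfsg.Agent.H756.PU Cfsg.Agent.H779.G2

universe u

section
variable {K : Type u} [Field K]

/-- the commutator form on `Q_a` -/
def om (x y : GU K) : K := 3 * (x.d * y.c - y.d * x.c) - (x.e * y.b - y.e * x.b)

theorem comm_eq {x y : GU K} (hx : x.a = 0) (hy : y.a = 0) :
    x * y * x⁻¹ * y⁻¹ = ⟨0, 0, 0, 0, 0, om x y⟩ := by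
  ext <;> simp only [om, hx, hy, _root_.Cfsg.Agent.H779.G2.GU.mul_a, _root_.add_zero, _root_.Cfsg.Agent.H779.G2.GU.inv_a, _root_.neg_zero, _root_.Cfsg.Agent.H779.G2.GU.mul_b, _root_.Cfsg.Agent.H779.G2.GU.inv_b, _root_.add_neg_cancel_comm, _root_.add_neg_cancel, _root_.Cfsg.Agent.H779.G2.GU.mul_c, _root_.MulZeroClass.mul_zero, _root_.Cfsg.Agent.H779.G2.GU.inv_c, _root_.MulZeroClass.zero_mul, _root_.Cfsg.Agent.H779.G2.GU.mul_d, _root_.ne_eq, _root_.OfNat.ofNat_ne_zero, _root_.not_false_eq_true, _root_.zero_pow, _root_.Cfsg.Agent.H779.G2.GU.inv_d, _root_.sub_zero, _root_.Cfsg.Agent.H779.G2.GU.mul_e, _root_.Cfsg.Agent.H779.G2.GU.inv_e, _root_.Cfsg.Agent.H779.G2.GU.mul_f, _root_.Cfsg.Agent.H779.G2.GU.inv_f, _root_.mul_neg, _root_.sub_neg_eq_add] <;> ring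

theorem commute_iff {x y : GU K} (hx : x.a = 0) (hy : y.a = 0) : x * y = y * x ↔ om x y = 0 := by
  constructor
  · intro h
    have h1 := comm_eq hx hy
    have h2 : x * y * x⁻¹ * y⁻¹ = 1 := by rw [h]; group
    rw [h2] at h1
    have := congrArg GU.f h1
    simpa using this.symm
  · intro h
    have h1 := comm_eq hx hy
    rw [h] at h1
    have h2 : x * y * x⁻¹ * y⁻¹ = 1 := by rw [h1]; rfl
    have h3 : x * y * (y * x)⁻¹ = 1 := by rw [mul_inv_rev, ← mul_assoc]; exact h2
    exact mul_inv_eq_one.mp h3

/-- scaling of the coordinates `b, c, d, e`, with an arbitrary last coordinate -/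
def scl (l t : K) (x : GU K) : GU K := ⟨0, l * x.b, l * x.c, l * x.d, l * x.e, t⟩

theorem om_scl (l t : K) (x y : GU K) : om x (scl l t y) = l * om x y := by
  simp only [om, scl]; ring

theorem om_scl' (l t : K) (x y : GU K) : om (scl l t x) y = l * om x y := by
  simp only [om, scl]; ring

theorem Z1_central {z : GU K} (hz : z ∈ Z1 K) (x : GU K) : z * x = x * z := by
  obtain ⟨h1, h2, h3, h4, h5⟩ := hz
  ext <;> simp [h1, h2, h3, h4, h5] <;> ring

instance Z1_normal : (Z1 K).Normal := ⟨fun z hz x => by
  rw [← Z1_central hz x, mul_assoc, mul_inv_cancel, mul_one]; exact hz⟩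

/-- the image in `K⁴` -/
def pr (x : GU K) : Fin 4 → K := ![x.b, x.c, x.d, x.e]

/-- the form on `K⁴` -/
noncomputable def B4 (K : Type u) [Field K] : LinearMap.BilinForm K (Fin 4 → K) :=
  LinearMap.mk₂ K (fun v w => 3 * (v 2 * w 1 - w 2 * v 1) - (v 3 * w 0 - w 3 * v 0))
    (by intro a b c; simp only [Pi.add_apply]; ring)
    (by intro a b c; simp only [Pi.smul_apply, smul_eq_mul]; ring)
    (by intro a b c; simp only [Pi.add_apply]; ring)
    (by intro a b c; simp only [Pi.smul_apply, smul_eq_mul]; ring)

theorem B4_apply (v w : Fin 4 → K) :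
    B4 K v w = 3 * (v 2 * w 1 - w 2 * v 1) - (v 3 * w 0 - w 3 * v 0) := rfl

theorem B4_nondeg (h3 : (3 : K) ≠ 0) : (B4 K).Nondegenerate := by
  have key : ∀ v : Fin 4 → K, (∀ w, B4 K v w = 0) → v = 0 := by
    intro v hv
    have h0 := hv ![1, 0, 0, 0]
    have h1 := hv ![0, 1, 0, 0]
    have h2 := hv ![0, 0, 1, 0]
    have h4 := hv ![0, 0, 0, 1]
    simp only [B4_apply, _root_.Fin.isValue, _root_.Matrix.cons_val_one, _root_.Matrix.cons_val_zero, _root_.MulZeroClass.mul_zero, _root_.Matrix.cons_val, _root_.MulZeroClass.zero_mul, _root_.sub_self, _root_.mul_one, _root_.sub_zero, _root_.zero_sub, _root_.neg_eq_zero, _root_.mul_eq_zero, _root_.one_mul, _root_.mul_neg, _root_.sub_neg_eq_add, _root_.zero_add] at h0 h1 h2 h4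
    funext i
    fin_cases i
    · exact h4
    · simpa using (h2.resolve_left h3)
    · simpa using (h1.resolve_left h3)
    · exact h0
  have hsymm : ∀ v w, B4 K v w = - B4 K w v := by
    intro v w; simp only [B4_apply]; ring
  constructor
  · intro v hv
    exact key v hv
  · intro v hv
    apply key v
    intro w
    rw [hsymm, hv w, neg_zero]

theorem pr_mul {x y : GU K} (_ : x.a = 0) (hy : y.a = 0) : pr (x * y) = pr x + pr y := by
  funext i
  (revert i; simp only [pr, hy, _root_.Fin.forall_fin_succ, _root_.Cfsg.Agent.H779.G2.GU.mul_b, _root_.Cfsg.Agent.H779.G2.GU.mul_c, _root_.MulZeroClass.mul_zero, _root_.add_zero, _root_.Cfsg.Agent.H779.G2.GU.mul_d, _root_.ne_eq, _root_.OfNat.ofNat_ne_zero, _root_.not_false_eq_true, _root_.zero_pow, _root_.Cfsg.Agent.H779.G2.GU.mul_e, _root_.Pi.add_apply, Fin.isValue, _root_.Matrix.cons_val_zero, _root_.Matrix.cons_val_succ, _root_.Matrix.cons_val_fin_one, _root_.implies_true, _root_.and_self])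

theorem pr_scl (l t : K) (x : GU K) : pr (scl l t x) = l • pr x := by
  funext i
  fin_cases i <;> rfl

theorem card_Z1 [Finite K] : Nat.card (Z1 K) = Nat.card K :=
  Nat.card_congr
    { toFun := fun x => (x : GU K).f
      invFun := fun t => ⟨⟨0, 0, 0, 0, 0, t⟩, rfl, rfl, rfl, rfl, rfl⟩
      left_inv := by
        rintro ⟨x, h1, h2, h3, h4, h5⟩
        apply Subtype.ext
        ext <;> simp [h1, h2, h3, h4, h5]
      right_inv := fun t => rfl }

/-- coordinates on `Q_a` -/
def equivQa : Qa K ≃ K × K × K × K × K where
  toFun x := ((x : GU K).b, (x : GU K).c, (x : GU K).d, (x : GU K).e, (x : GU K).f)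
  invFun t := ⟨{ a := 0, b := t.1, c := t.2.1, d := t.2.2.1, e := t.2.2.2.1, f := t.2.2.2.2 }, rfl⟩
  left_inv := by
    rintro ⟨x, h1⟩
    have h1' : x.a = 0 := h1
    apply Subtype.ext
    ext <;> simp [h1']
  right_inv _ := rfl

theorem card_Qa [Finite K] : Nat.card (Qa K) = Nat.card K ^ 5 := by
  rw [Nat.card_congr equivQa]
  simp only [Nat.card_prod]
  ring

theorem card_mul_relIndex' {G : Type*} [Group G] {H L : Subgroup G} (h : H ≤ L) :
    Nat.card H * H.relIndex L = Nat.card L := by
  rw [← Subgroup.relIndex_bot_left, ← Subgroup.relIndex_bot_left]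
  exact Subgroup.relIndex_mul_relIndex ⊥ H L bot_le h

theorem relIndex_sup_le {G : Type*} [Group G] [Finite G] (N M : Subgroup G) [N.Normal] :
    M.relIndex (N ⊔ M) ≤ Nat.card N := by
  have h1 : Nat.card M * M.relIndex (N ⊔ M) = Nat.card (N ⊔ M : Subgroup G) :=
    card_mul_relIndex' le_sup_right
  have h2 : Nat.card N * N.relIndex (N ⊔ M) = Nat.card (N ⊔ M : Subgroup G) :=
    card_mul_relIndex' le_sup_left
  rw [Subgroup.relIndex_sup_left] at h2
  have h3 : N.relIndex M ≤ Nat.card M := by
    have := (N.subgroupOf M).index_dvd_card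
    exact Nat.le_of_dvd Nat.card_pos this
  have h4 : Nat.card M * M.relIndex (N ⊔ M) ≤ Nat.card M * Nat.card N := by
    rw [h1, ← h2, mul_comm]
    exact Nat.mul_le_mul_right _ h3
  exact Nat.le_of_mul_le_mul_left h4 Nat.card_pos

/-- `Z(E)` is invariant -/
theorem inv_center {Ω : Type*} [Group Ω] {E : Subgroup Ω} (Γ : Subgroup (MulAut E)) :
    _root_.Cfsg.Agent.H756.PU.Inv Γ (E ⊓ Subgroup.centralizer (E : Set Ω)) := by
  refine ⟨inf_le_left, ?_⟩
  intro γ _ e he
  refine Subgroup.mem_inf.mpr ⟨(γ e).2, Subgroup.mem_centralizer_iff.mpr ?_⟩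
  intro y hy
  have h1 := (Subgroup.mem_centralizer_iff.mp he.2) (γ⁻¹ ⟨y, hy⟩ : E) (γ⁻¹ ⟨y, hy⟩ : E).2
  have h2 : (γ⁻¹ ⟨y, hy⟩ : E) * e = e * (γ⁻¹ ⟨y, hy⟩ : E) := Subtype.ext h1
  have h3 := congrArg γ h2
  rw [map_mul, map_mul] at h3
  have h4 : γ (γ⁻¹ ⟨y, hy⟩ : E) = ⟨y, hy⟩ := by
    change (γ * γ⁻¹) _ = _
    simp
  rw [h4] at h3
  exact congrArg Subtype.val h3

/-- **[G2-Ea]** -/
theorem stEa (hd : StDual.{u}) : StEa.{u} := by
  intro K _ p n H hp3 _ E Γ hE hEa
  have : Finite K := H.fin
  have : Fact p.Prime := ⟨H.pp⟩
  have : CharP K p := H.char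
  have h3 : (3 : K) ≠ 0 := by
    intro h
    have h' : ((3 : ℕ) : K) = 0 := by exact_mod_cast h
    rw [CharP.cast_eq_zero_iff K p] at h'
    exact hp3 ((Nat.prime_dvd_prime_iff_eq H.pp Nat.prime_three).mp h')
  have hq : 1 < Nat.card K := by
    rw [H.card]
    exact Nat.one_lt_pow (by have := H.hn; omega) H.pp.one_lt
  set Z := E ⊓ Subgroup.centralizer (E : Set (GU K)) with hZ
  have hZE : Z ≤ E := inf_le_left
  have hZ1E : Z1 K ≤ E := fun z hz => hE.cent z trivial fun e _ => Z1_central hz e
  have hZ1Z : Z1 K ≤ Z := fun z hz => Subgroup.mem_inf.mpr ⟨hZ1E hz,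
    Subgroup.mem_centralizer_iff.mpr fun y _ => (Z1_central hz y).symm⟩
  have hinv : _root_.Cfsg.Agent.H756.PU.Inv Γ Z := inv_center Γ
  have hcomm1 : ∀ x ∈ Qa K, ∀ y ∈ Qa K, x * y * x⁻¹ * y⁻¹ ∈ Z1 K := by
    intro x hx y hy
    rw [comm_eq hx hy]
    exact ⟨rfl, rfl, rfl, rfl, rfl⟩
  have hX : Qa K ⊓ Subgroup.centralizer (Z : Set (GU K)) ≤ E := by
    have hc : Com (Qa K ⊓ Subgroup.centralizer (Z : Set (GU K))) Z Z := by
      intro x hx z hz
      have := (Subgroup.mem_centralizer_iff.mp hx.2) z hz
      rw [show x * z * x⁻¹ * z⁻¹ = 1 by rw [← this]; group]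
      exact one_mem _
    refine Cfsg.Agent.H732.PU.stChain hE Z Z Z hinv hinv hinv le_rfl le_rfl _ le_top ?_ hc hc ?_
    · intro x hx e he
      exact hZ1Z (hcomm1 x hx.1 e (hEa he))
    · intro x hx z hz
      exact ((Subgroup.mem_centralizer_iff.mp hx.2) z hz).symm
  have hmem : ∀ x : GU K, x.a = 0 → (∀ z ∈ Z, om x z = 0) → x ∈ E := by
    intro x hx h
    apply hX
    refine Subgroup.mem_inf.mpr ⟨hx, Subgroup.mem_centralizer_iff.mpr ?_⟩
    intro z hz
    exact ((commute_iff hx (hEa (hZE hz))).mpr (h z hz)).symm
  have hom : ∀ x ∈ E, ∀ z ∈ Z, om x z = 0 := by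
    intro x hx z hz
    apply (commute_iff (hEa hx) (hEa (hZE hz))).mp
    exact (Subgroup.mem_centralizer_iff.mp hz.2) x hx
  have hscl : ∀ x ∈ E, ∀ l t : K, scl l t x ∈ E := by
    intro x hx l t
    apply hmem _ rfl
    intro z hz
    rw [om_scl', hom x hx z hz, mul_zero]
  have hnorm : Qa K ≤ normalizerIn ⊤ E := by
    intro x hx
    refine Subgroup.mem_inf.mpr ⟨trivial, Subgroup.mem_normalizer_iff.mpr ?_⟩
    intro y
    have key : ∀ x ∈ Qa K, ∀ y ∈ E, x * y * x⁻¹ ∈ E := by
      intro x hx y hy
      have h1 := hZ1E (hcomm1 x hx y (hEa hy))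
      have h2 := mul_mem h1 hy
      rwa [show x * y * x⁻¹ * y⁻¹ * y = x * y * x⁻¹ by group] at h2
    constructor
    · intro hy
      exact key x hx y hy
    · intro hy
      have := key x⁻¹ (_root_.InvMemClass.inv_mem hx) _ hy
      rwa [show x⁻¹ * (x * y * x⁻¹) * x⁻¹⁻¹ = y by group] at this
  by_cases hab : ∃ x ∈ E, ∃ y ∈ E, om x y ≠ 0
  · -- `E` is not abelian
    obtain ⟨x, hx, y, hy, hxy⟩ := hab
    have hEp : IsPGroup p E := hE.pgr.to_le hE.E_le
    have hZ1F : Z1 K ≤ (frattini E).map E.subtype := by
      intro z hz
      have h1 : (⟨x, hx⟩ * ⟨scl (z.f / om x y) 0 y, hscl y hy _ _⟩ * (⟨x, hx⟩ : E)⁻¹ *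
          (⟨scl (z.f / om x y) 0 y, hscl y hy _ _⟩ : E)⁻¹ : E) ∈ frattini E :=
        (Cfsg.Agent.Lib.FrattiniPGroup.commutator_le_frattini hEp
          (Subgroup.commutator_mem_commutator (Subgroup.mem_top _) (Subgroup.mem_top _)) :)
      refine ⟨_, h1, ?_⟩
      change x * scl (z.f / om x y) 0 y * x⁻¹ * (scl (z.f / om x y) 0 y)⁻¹ = z
      rw [comm_eq (hEa hx) rfl, om_scl, div_mul_cancel₀ _ hxy]
      obtain ⟨k1, k2, k3, k4, k5⟩ := hz
      ext <;> simp [k1, k2, k3, k4, k5]
    have h1 := hd hE ⊥ (Qa K) hnorm bot_le (by
      intro a ha m hm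
      exact (le_sup_right : _ ≤ (⊥ : Subgroup (GU K)) ⊔ _) (hZ1F (hcomm1 a ha m (hEa hm))))
    rw [bot_sup_eq, Subgroup.relIndex_self] at h1
    have : Finite (GU K) := inferInstance
    have h2 : E.relIndex (Qa K) = 1 := le_antisymm h1 (Nat.one_le_iff_ne_zero.mpr
      (E.subgroupOf (Qa K)).index_ne_zero_of_finite)
    exact le_antisymm hEa (Subgroup.relIndex_eq_one.mp h2)
  · -- `E` is abelian
    exfalso
    push Not at hab
    set W : Submodule K (Fin 4 → K) :=
      { carrier := {v | ∃ x ∈ E, pr x = v}
        add_mem' := by
          rintro _ _ ⟨x, hx, rfl⟩ ⟨y, hy, rfl⟩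
          exact ⟨x * y, mul_mem hx hy, pr_mul (hEa hx) (hEa hy)⟩
        zero_mem' := ⟨1, one_mem _, by
          funext i
          fin_cases i <;> rfl⟩
        smul_mem' := by
          rintro l _ ⟨x, hx, rfl⟩
          exact ⟨scl l 0 x, hscl x hx l 0, pr_scl l 0 x⟩ } with hW
    have hiso : W ≤ (B4 K).orthogonal W := by
      rintro _ ⟨x, hx, rfl⟩ _ ⟨y, hy, rfl⟩
      exact hab y hy x hx
    have hfr : Module.finrank K W ≤ 2 := by
      have h1 := Submodule.finrank_mono hiso
      rw [LinearMap.BilinForm.finrank_orthogonal ((B4_nondeg h3 :)), Module.finrank_fin_fun] at h1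
      omega
    have hcW : Nat.card W ≤ Nat.card K ^ 2 := by
      rw [Module.natCard_eq_pow_finrank (K := K)]
      exact Nat.pow_le_pow_right (by omega) hfr
    have hcE : Nat.card E ≤ Nat.card K ^ 3 := by
      have hinj : Function.Injective
          (fun x : E => ((⟨pr (x : GU K), x, x.2, rfl⟩ : W), (x : GU K).f)) := by
        intro x y hxy
        simp only [Prod.mk.injEq, Subtype.mk.injEq] at hxy
        apply Subtype.ext
        have k0 := congrFun hxy.1 0
        have k1 := congrFun hxy.1 1
        have k2 := congrFun hxy.1 2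
        have k3 := congrFun hxy.1 3
        exact GU.ext ((hEa x.2 : (x : GU K).a = 0).trans (hEa y.2 : (y : GU K).a = 0).symm) k0 k1 k2 k3 hxy.2
      calc Nat.card E ≤ Nat.card (W × K) := Nat.card_le_card_of_injective _ hinj
        _ = Nat.card W * Nat.card K := Nat.card_prod _ _
        _ ≤ Nat.card K ^ 2 * Nat.card K := Nat.mul_le_mul_right _ hcW
        _ = Nat.card K ^ 3 := by ring
    have h1 := hd hE (Z1 K) (Qa K) hnorm hZ1E (by
      intro a ha m hm
      exact (le_sup_left : Z1 K ≤ _) (hcomm1 a ha m (hEa hm)))
    have h2 := h1.trans (relIndex_sup_le (Z1 K) _)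
    have h4 : E.relIndex (Qa K) * Nat.card E = Nat.card (Qa K) := by
      rw [mul_comm]
      exact card_mul_relIndex' hEa
    rw [card_Qa] at h4
    rw [card_Z1] at h2
    have h5 : Nat.card K ^ 5 ≤ Nat.card K ^ 4 := by
      rw [← h4]
      calc E.relIndex (Qa K) * Nat.card E ≤ Nat.card K * Nat.card K ^ 3 := Nat.mul_le_mul h2 hcE
        _ = Nat.card K ^ 4 := by ring
    exact absurd h5 (not_le.mpr (Nat.pow_lt_pow_right hq (by norm_num)))

end

end Cfsg.Agent.H403.GT

private theorem dce_c70a78d20fac : _root_.True := by
  try have : _root_.True := by simp only [_root_.Cfsg.Agent.H403.GT.scl.eq_1]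
  try have : _root_.True := by simp only [_root_.Cfsg.Agent.H403.GT.pr.eq_1]
  try have : _root_.True := by simp only [_root_.Cfsg.Agent.H403.GT.om.eq_1]
  exact _root_.True.intro
end

-- part: H771/GT/SemiOne
section
prune_inst 0x20104440712200000000000000002020500001000024000060000000090901008040010002800000004402800004002003100000420000000a000000000401000000000080080000000000000004000000000000000000000000000000000000000000000
set_option linter.all false
open scoped Cfsg.Agent.FastGrp

/-!
# S5211: two lemmas on finite fields for `StE5f` (helper771 for helper15)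

* `semi_one` : a semilinear map `c τ` of `K` of order divisible by `q - 1` is linear;
* `num_false` : `c ^ 5` and `c⁻¹` are not conjugate over the prime field if `c` generates `Kˣ` (`p ≥ 5`, `q ≠ 7`).
-/

set_option autoImplicit false

namespace Cfsg.Agent.H771.GT

open Cfsg Cfsg.Agent.H779.G2

universe u

section

variable {K : Type u} [Field K]

/-- `c τ(c) ... τ^(j-1)(c)` -/
def nrm (c : K) (τ : K ≃+* K) : ℕ → K
  | 0 => 1
  | j + 1 => c * τ (nrm c τ j)

theorem iter_eq (c : K) (τ : K ≃+* K) (j : ℕ) (t : K) : (fun t => c * τ t)^[j] t = nrm c τ j * (τ ^ j) t := by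
  induction j with
  | zero => simp [nrm]
  | succ j ih =>
    rw [Function.iterate_succ_apply', ih]
    show c * τ (nrm c τ j * (τ ^ j) t) = c * τ (nrm c τ j) * (τ ^ (j + 1)) t
    rw [map_mul, pow_succ', RingAut.mul_apply, mul_assoc]

theorem nrm_ne {c : K} (hc : c ≠ 0) (τ : K ≃+* K) (j : ℕ) : nrm c τ j ≠ 0 := by
  induction j with
  | zero => exact one_ne_zero
  | succ j ih => exact mul_ne_zero hc ((map_ne_zero_iff _ τ.injective).2 ih)

theorem semi_one {p n : ℕ} (hG : HypG K p n) (h5 : 5 ≤ p) {c : K} (hc : c ≠ 0) (τ : K ≃+* K)
    (h : ∀ k : ℕ, (∀ t : K, (fun t => c * τ t)^[k] t = t) → (p ^ n - 1) ∣ k) : ∀ t, τ t = t := by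
  have hfin := hG.fin
  have hfinR : Finite (RingAut K) := Finite.of_injective (fun e : RingAut K => (e : K → K)) DFunLike.coe_injective
  obtain ⟨m, hm⟩ : ∃ m, m = orderOf (τ : RingAut K) := ⟨_, rfl⟩
  have hm0 : 0 < m := by rw [hm]; exact orderOf_pos _
  have hτm : (τ : RingAut K) ^ m = 1 := by rw [hm]; exact pow_orderOf_eq_one _
  let G := Subgroup.zpowers (τ : RingAut K)
  let inst : Fintype G := Fintype.ofFinite G
  let K0 := FixedPoints.subfield G K
  have hdeg : Module.finrank K0 K = m := by
    rw [FixedPoints.finrank_eq_card G K, hm, ← Nat.card_eq_fintype_card, Nat.card_zpowers]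
  have hcard : p ^ n = Nat.card K0 ^ m := by
    rw [← hG.card, Module.natCard_eq_pow_finrank (K := K0) (V := K), hdeg]
  obtain ⟨N, hN⟩ : ∃ N, N = nrm c τ m := ⟨_, rfl⟩
  have hN0 : N ≠ 0 := by rw [hN]; exact nrm_ne hc τ m
  have hT : ∀ t : K, (fun t => c * τ t)^[m] t = N * t := by
    intro t
    rw [iter_eq, hτm, hN]
    rfl
  have hNτ : τ N = N := by
    have h1 : (fun t => c * τ t)^[m] (c * τ 1) = c * τ ((fun t => c * τ t)^[m] 1) := by
      rw [← Function.iterate_succ_apply' (f := fun t => c * τ t)]
      rfl
    rw [hT, hT, map_one, mul_one, mul_one, mul_comm N c] at h1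
    exact (mul_left_cancel₀ hc h1).symm
  have hNK : N ∈ K0 := by
    have h1 : G ≤ MulAction.stabilizer (RingAut K) N := by
      rw [Subgroup.zpowers_le]
      exact hNτ
    intro g
    exact h1 g.2
  have hNp : N ^ (Nat.card K0 - 1) = 1 := by
    have := Fintype.ofFinite K0
    have h1 := FiniteField.pow_card_sub_one_eq_one (⟨N, hNK⟩ : K0) (by
      intro h
      exact hN0 (congrArg Subtype.val h))
    rw [← Nat.card_eq_fintype_card] at h1
    exact congrArg Subtype.val h1
  have hdvd : (p ^ n - 1) ∣ m * (Nat.card K0 - 1) := by
    apply h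
    intro t
    rw [Function.iterate_mul]
    have h1 : ∀ j : ℕ, ((fun t => c * τ t)^[m])^[j] t = N ^ j * t := by
      intro j
      induction j with
      | zero => simp
      | succ j ih => rw [Function.iterate_succ_apply', ih, hT, pow_succ']; ring
    rw [h1, hNp, one_mul]
  have hr : 2 ≤ Nat.card K0 := Finite.one_lt_card
  obtain ⟨r, hr'⟩ : ∃ r, Nat.card K0 = r + 1 := ⟨Nat.card K0 - 1, by omega⟩
  rw [hcard, hr'] at hdvd
  have hr1 : 1 ≤ r := by omega
  have hle := Nat.le_of_dvd (by
    rw [Nat.add_sub_cancel]
    exact Nat.mul_pos hm0 (by omega)) hdvd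
  rw [Nat.add_sub_cancel] at hle
  have hm1 : m = 1 := by
    by_contra hne
    obtain ⟨k, hk⟩ : ∃ k, m = k + 2 := ⟨m - 2, by omega⟩
    have hb : ∀ k : ℕ, 1 + (k + 2) * r < (r + 1) ^ (k + 2) := by
      intro k
      induction k with
      | zero =>
        have h1 : (r + 1) ^ (0 + 2) = r * r + 2 * r + 1 := by ring
        rw [h1]
        nlinarith
      | succ k ih =>
        rw [pow_succ]
        nlinarith [Nat.zero_le (k * r * r)]
    have := hb k
    rw [hk] at hle
    omega
  intro t
  have h1 : (τ : RingAut K) = 1 := by rw [← pow_one (τ : RingAut K), ← hm1]; exact hτm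
  have h2 := congrArg (fun e : RingAut K => e t) h1
  exact h2

theorem num_false {p n : ℕ} (hG : HypG K p n) (h5 : 5 ≤ p) (h7 : ¬ (p = 7 ∧ n = 1)) {c : K} (hc : c ≠ 0)
    (hord : ∀ k : ℕ, c ^ k = 1 → (p ^ n - 1) ∣ k) (χ : K → K) (hadd : ∀ x y, χ (x + y) = χ x + χ y)
    (hinj : Function.Injective χ) (hχ : ∀ u, χ (c ^ 5 * u) = c⁻¹ * χ u) : False := by
  have hfin := hG.fin
  have hp : Fact p.Prime := ⟨hG.pp⟩
  have hchar := hG.char
  have hF := Fintype.ofFinite K
  have hχ0 : χ 0 = 0 := by
    have := hadd 0 0
    rw [add_zero] at this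
    exact left_eq_add.1 this
  have hχ1 : χ 1 ≠ 0 := fun h => one_ne_zero (hinj (h.trans hχ0.symm))
  have hpw : ∀ j : ℕ, χ ((c ^ 5) ^ j) = c⁻¹ ^ j * χ 1 := by
    intro j
    induction j with
    | zero => simp
    | succ j ih => rw [pow_succ', hχ, ih, pow_succ']; ring
  have hc5 : c ^ 5 ≠ 0 := pow_ne_zero _ hc
  have hord5 : ∀ k : ℕ, (c ^ 5) ^ k = 1 → (p ^ n - 1) ∣ k := by
    intro k hk
    apply hord
    have h1 := hpw k
    rw [hk] at h1
    have h2 : c⁻¹ ^ k = 1 := mul_right_cancel₀ hχ1 (by rw [← h1, one_mul])
    rw [inv_pow, inv_eq_one] at h2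
    exact h2
  -- all elements are powers of `c ^ 5`
  have hgen : ∀ x : K, x ≠ 0 → ∃ j : ℕ, x = (c ^ 5) ^ j := by
    intro x hx
    obtain ⟨v, hv⟩ : ∃ v : Kˣ, v = Units.mk0 (c ^ 5) hc5 := ⟨_, rfl⟩
    have hcu : Nat.card Kˣ = p ^ n - 1 := by
      rw [Nat.card_units, hG.card]
    have ho : orderOf v = Nat.card Kˣ := by
      apply Nat.dvd_antisymm (orderOf_dvd_natCard v)
      rw [hcu]
      apply hord5
      have h1 : ((v ^ orderOf v : Kˣ) : K) = 1 := by rw [pow_orderOf_eq_one]; rfl
      have hv' : (v : K) = c ^ 5 := by rw [hv]; rfl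
      rw [Units.val_pow_eq_pow_val, hv'] at h1
      exact h1
    have htop : Subgroup.zpowers v = ⊤ := by
      apply Subgroup.eq_top_of_card_eq
      rw [Nat.card_zpowers, ho]
    have hmem : Units.mk0 x hx ∈ Subgroup.zpowers v := by rw [htop]; trivial
    rw [← mem_powers_iff_mem_zpowers] at hmem
    obtain ⟨j, hj⟩ := hmem
    refine ⟨j, ?_⟩
    have h1 := congrArg Units.val hj
    rw [hv] at h1
    simpa using h1.symm
  let ψ : K →+* K :=
    { toFun := fun x => χ x * (χ 1)⁻¹
      map_one' := mul_inv_cancel₀ hχ1
      map_zero' := by rw [hχ0, zero_mul]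
      map_add' := fun x y => by rw [hadd, add_mul]
      map_mul' := fun x y => by
        rcases eq_or_ne x 0 with rfl | hx
        · rw [zero_mul, hχ0]; ring
        rcases eq_or_ne y 0 with rfl | hy
        · rw [mul_zero, hχ0]; ring
        obtain ⟨i, rfl⟩ := hgen x hx
        obtain ⟨j, rfl⟩ := hgen y hy
        rw [← pow_add, hpw, hpw, hpw, pow_add]
        field_simp }
  have hψ : ∀ x, ψ x = χ x * (χ 1)⁻¹ := fun x => rfl
  let alg : Algebra (ZMod p) K := ZMod.algebra K p
  have hbij : Function.Bijective ψ := Finite.injective_iff_bijective.1 ψ.injective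
  let Ψ : K ≃ₐ[ZMod p] K := AlgEquiv.ofRingEquiv (f := RingEquiv.ofBijective ψ hbij) (fun r => by
    have h1 : ψ.comp (algebraMap (ZMod p) K) = algebraMap (ZMod p) K := Subsingleton.elim _ _
    exact RingHom.congr_fun h1 r)
  have hΨ : ∀ x, Ψ x = ψ x := fun x => rfl
  obtain ⟨⟨k, hk⟩, hkΨ⟩ := (FiniteField.bijective_frobeniusAlgEquivOfAlgebraic_pow (ZMod p) K).2 Ψ
  have hfr : Module.finrank (ZMod p) K = n := by
    have h1 := Module.natCard_eq_pow_finrank (K := ZMod p) (V := K)
    rw [hG.card, Nat.card_zmod] at h1
    exact (Nat.pow_right_injective hG.pp.two_le h1).symm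
  rw [hfr] at hk
  have hval : ∀ x : K, ψ x = x ^ p ^ k := by
    intro x
    rw [← hΨ, ← hkΨ]
    show (FiniteField.frobeniusAlgEquivOfAlgebraic (ZMod p) K ^ k) x = _
    rw [AlgEquiv.coe_pow, FiniteField.coe_frobeniusAlgEquivOfAlgebraic_iterate, ZMod.card]
  have h1 : (c ^ 5) ^ p ^ k = c⁻¹ := by
    rw [← hval, hψ]
    have h2 := hpw 1
    rw [pow_one, pow_one] at h2
    rw [h2, mul_assoc, mul_inv_cancel₀ hχ1, mul_one]
  have h2 : c ^ (5 * p ^ k + 1) = 1 := by
    rw [pow_succ, pow_mul, h1, inv_mul_cancel₀ hc]
  have h3 := hord _ h2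
  have hn := hG.hn
  have hpn : ∀ m : ℕ, 1 ≤ m → 5 ≤ p ^ m := fun m hm => h5.trans (Nat.le_self_pow (by omega) p)
  rcases Nat.eq_zero_or_pos k with rfl | hk0
  · rw [pow_zero, mul_one] at h3
    have h4 := Nat.le_of_dvd (by norm_num) h3
    have hn1 : n = 1 := by
      by_contra hne
      have h6 : 5 ^ 2 ≤ p ^ n := (Nat.pow_le_pow_left h5 2).trans (Nat.pow_le_pow_right (by omega) (by omega))
      omega
    subst hn1
    rw [pow_one] at h3 h4
    have h8 : p ≤ 7 := by omega
    interval_cases p
    · revert h3; decide
    · exact absurd hG.pp (by norm_num)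
    · exact h7 ⟨rfl, rfl⟩
  · obtain ⟨l, hl⟩ : ∃ l, n = k + l := ⟨n - k, by omega⟩
    have hl1 : 1 ≤ l := by omega
    have h4 : (p ^ n - 1) ∣ (5 * p ^ k + 1) * p ^ l := h3.mul_right _
    have h6 : (5 * p ^ k + 1) * p ^ l = 5 * (p ^ n - 1) + (5 + p ^ l) := by
      have h7 : p ^ n = p ^ k * p ^ l := by rw [hl, pow_add]
      have h8 : 1 ≤ p ^ n := Nat.one_le_pow _ _ (by omega)
      obtain ⟨w, hw⟩ : ∃ w, p ^ n = w + 1 := ⟨p ^ n - 1, by omega⟩
      rw [hw, Nat.add_sub_cancel]
      have h9 : p ^ k * p ^ l = w + 1 := by rw [← h7, hw]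
      calc (5 * p ^ k + 1) * p ^ l = 5 * (p ^ k * p ^ l) + p ^ l := by ring
        _ = 5 * w + (5 + p ^ l) := by rw [h9]; ring
    rw [h6] at h4
    have h8 : (p ^ n - 1) ∣ (5 + p ^ l) := (Nat.dvd_add_right (Dvd.intro_left 5 rfl)).1 h4
    have h9 := Nat.le_of_dvd (by omega) h8
    have h10 : 5 * p ^ l ≤ p ^ n := by
      rw [hl, pow_add]
      exact Nat.mul_le_mul_right _ (hpn k hk0)
    have h11 := hpn l hl1
    omega

end

end Cfsg.Agent.H771.GT

private theorem dce_81c905437098 : _root_.True := by
  try have : _root_.True := by simp only [_root_.Cfsg.Agent.H771.GT.nrm.eq_2]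
  try have : _root_.True := by simp only [_root_.Cfsg.Agent.H771.GT.nrm.eq_def]
  try have : _root_.True := by simp only [_root_.Cfsg.Agent.H771.GT.nrm.eq_1]
  exact _root_.True.intro
end

-- part: H302/GT/KbAbs
section
prune_inst 0x100040040002000018201210003c62e2000102002b0001504102000e871d212d052f20f0f01e0359208be4603b8040020000590010000020008a00411d0080842b62e2933cbd0437000fc0f987180c00000000000000000000000000041000000000000
set_option linter.all false
open scoped Cfsg.Agent.FastGrp

/-!
# S5211 (hub helper779), task 5442 (helper302): the bounds `|A| ≤ |V : C_V(A)|` and `|A| ≤ |[V, A]|`, abstract part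

`K` acts faithfully on the elementary abelian `p`-group `V`, `M < K` is "TI for `p`-elements", `A ≤ M` is a `p`-group.
Apply S3083 to `Y = ⟨A, Aᵍ⟩`, `g ∉ M`, acting on `V / C_V(Y)`, resp. on `[V, Y]`.
-/

set_option autoImplicit false

namespace Cfsg.Agent.H302.GT

open Subgroup Cfsg

universe u

section

variable {K : Type u} [Group K]

/-- `M` is TI for `p`-elements -/
def SE (p : ℕ) (M : Subgroup K) : Prop :=
  ∀ g, g ∉ M → ∀ x ∈ M, g * x * g⁻¹ ∈ M → (∃ k : ℕ, x ^ p ^ k = 1) → x = 1

/-- a Sylow subgroup containing a nontrivial subgroup of `M` is in `M` -/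
theorem sylow_le_of_SE [Finite K] {p : ℕ} [Fact p.Prime] {M A : Subgroup K} (hM : SE p M) (hA : A ≤ M) (hA1 : A ≠ ⊥)
    (P : Subgroup K) (hPp : IsPGroup p P) (hAP : A ≤ P) : P ≤ M := by
  by_contra hne
  have hnil : Group.IsNilpotent P := hPp.isNilpotent
  have hlt : M.subgroupOf P < ⊤ := by
    rw [lt_top_iff_ne_top]
    intro h'
    rw [subgroupOf_eq_top] at h'
    exact hne h'
  have hnc := Group.normalizerCondition_of_isNilpotent (G := P) _ hlt
  obtain ⟨g, hg, hgM⟩ := SetLike.exists_of_lt hnc
  obtain ⟨a, ha, ha1⟩ := (bot_or_exists_ne_one A).resolve_left hA1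
  have h1 : (⟨a, hAP ha⟩ : P) ∈ M.subgroupOf P := hA ha
  have h2 := (mem_normalizer_iff.1 hg _).1 h1
  apply ha1
  obtain ⟨k, hk⟩ := hPp ⟨a, hAP ha⟩
  exact hM g (fun h => hgM h) a (hA ha) h2 ⟨k, congrArg Subtype.val hk⟩

/-- TI for `p`-elements and containing a nontrivial `p`-subgroup implies strongly `p`-embedded -/
theorem emb_of_SE [Finite K] {p : ℕ} [Fact p.Prime] {M A : Subgroup K} (hM : SE p M) (hMt : M ≠ ⊤) (hA : A ≤ M)
    (hAp : IsPGroup p A) (hA1 : A ≠ ⊥) :
    ∃ P : Sylow p K, A ≤ P ∧ (P : Subgroup K) ≤ M ∧ IsStronglyPEmbedded p M := by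
  obtain ⟨P, hP⟩ := hAp.exists_le_sylow
  have hPM := sylow_le_of_SE hM hA hA1 P P.isPGroup' hP
  refine ⟨P, hP, hPM, ?_, hMt, P, ?_⟩
  · obtain ⟨n, hn⟩ := IsPGroup.iff_card.1 hAp
    have hn0 : n ≠ 0 := by
      rintro rfl
      rw [pow_zero] at hn
      exact hA1 (Subgroup.eq_bot_of_card_eq _ hn)
    have h1 : p ∣ Nat.card A := by rw [hn]; exact dvd_pow_self p hn0
    exact h1.trans (card_subgroup_dvd_card A)
  · refine EvenType.StrongP.core_le P.isPGroup' ?_
    intro Q hQ hQ1 g hg
    by_contra hgM
    obtain ⟨x, hx, hx1⟩ := (bot_or_exists_ne_one Q).resolve_left hQ1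
    apply hx1
    obtain ⟨k, hk⟩ := P.isPGroup' ⟨x, hQ hx⟩
    exact hM g hgM x (hPM (hQ hx)) (hPM (hQ ((mem_normalizer_iff.1 hg x).1 hx))) ⟨k, congrArg Subtype.val hk⟩

/-- there is no nontrivial normal `p`-subgroup -/
theorem normal_eq_bot [Finite K] {p : ℕ} [Fact p.Prime] {M A : Subgroup K} (hM : SE p M) (hMt : M ≠ ⊤) (hA : A ≤ M)
    (hAp : IsPGroup p A) (hA1 : A ≠ ⊥) (N : Subgroup K) [hN : N.Normal] (hNp : IsPGroup p N) : N = ⊥ := by
  have hNM : N ≤ M := by
    refine le_trans le_sup_right (sylow_le_of_SE hM hA hA1 (A ⊔ N) ?_ le_sup_left)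
    exact IsPGroup.to_sup_of_normal_right hAp hNp
  by_contra hne
  obtain ⟨x, hx, hx1⟩ := (bot_or_exists_ne_one N).resolve_left hne
  obtain ⟨g, -, hg⟩ : ∃ g ∈ (⊤ : Subgroup K), g ∉ M := SetLike.exists_of_lt (lt_top_iff_ne_top.2 hMt)
  obtain ⟨k, hk⟩ := hNp ⟨x, hx⟩
  exact hx1 (hM g hg x (hNM hx) (hNM (hN.conj_mem x hx g)) ⟨k, congrArg Subtype.val hk⟩)

/-- the pair `⟨A, Aᵍ⟩` -/
theorem SE_pair {p : ℕ} {M : Subgroup K} (hM : SE p M) (Y : Subgroup K) : SE p (M.subgroupOf Y) := by
  intro g hg x hx hgx hk
  obtain ⟨k, hk⟩ := hk
  apply Subtype.ext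
  exact hM g (fun h => hg h) x hx hgx ⟨k, congrArg Subtype.val hk⟩

end

section chain

variable {K : Type*} [Group K] {V : Type*} [CommGroup V]

/-- a group trivial on `D` and on `V/D` is a `p`-group -/
theorem isPGroup_chain {p : ℕ} (he : ∀ x : V, x ^ p = 1) (φ : K →* MulAut V) (hφ : Function.Injective φ)
    (D : Subgroup V) (N : Subgroup K) (h1 : ∀ n ∈ N, ∀ d ∈ D, φ n d = d) (h2 : ∀ n ∈ N, ∀ v, φ n v * v⁻¹ ∈ D) :
    IsPGroup p N := by
  rintro ⟨r, hr⟩
  refine ⟨1, ?_⟩
  rw [pow_one]
  apply Subtype.ext
  apply hφ
  show φ (r ^ p) = φ 1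
  have hpow : ∀ (n : ℕ) (v : V), (φ r ^ n) v = (φ r v * v⁻¹) ^ n * v := by
    intro n
    induction n with
    | zero => intro v; rw [pow_zero, pow_zero, one_mul]; rfl
    | succ n ih =>
      intro v
      rw [pow_succ', MulAut.mul_apply, ih v, map_mul, map_pow, h1 r hr _ (h2 r hr v), pow_succ, mul_assoc, mul_assoc]
      congr 1
      rw [inv_mul_cancel, mul_one]
  rw [map_pow, map_one]
  apply MulEquiv.ext
  intro v
  rw [hpow, he, one_mul]
  rfl

/-- the subgroup of the elements fixing `D` pointwise -/
def fixer (φ : K →* MulAut V) (D : Subgroup V) : Subgroup K where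
  carrier := {k | ∀ d ∈ D, φ k d = d}
  one_mem' := fun d _ => by rw [map_one]; rfl
  mul_mem' := by
    intro a b ha hb d hd
    rw [map_mul, MulAut.mul_apply, hb d hd, ha d hd]
  inv_mem' := by
    intro a ha d hd
    have h1 := ha d hd
    calc φ a⁻¹ d = φ a⁻¹ (φ a d) := by rw [h1]
      _ = (φ a⁻¹ * φ a) d := rfl
      _ = d := by rw [← map_mul, inv_mul_cancel, map_one]; rfl

/-- the subgroup of the elements trivial on `V/D` -/
def cofixer (φ : K →* MulAut V) (D : Subgroup V) : Subgroup K where
  carrier := {k | ∀ v, φ k v * v⁻¹ ∈ D}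
  one_mem' := fun v => by
    rw [map_one]
    show v * v⁻¹ ∈ D
    rw [mul_inv_cancel]
    exact D.one_mem
  mul_mem' := by
    intro a b ha hb v
    rw [map_mul, MulAut.mul_apply]
    have h := D.mul_mem (ha (φ b v)) (hb v)
    have e : φ a (φ b v) * (φ b v)⁻¹ * (φ b v * v⁻¹) = φ a (φ b v) * v⁻¹ := by group
    rwa [e] at h
  inv_mem' := by
    intro a ha v
    have h1 : φ a (φ a⁻¹ v) = v := by
      rw [← MulAut.mul_apply, ← map_mul, mul_inv_cancel, map_one]
      rfl
    have h2 := D.inv_mem (ha (φ a⁻¹ v))
    rw [h1, mul_inv_rev, inv_inv] at h2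
    exact h2

end chain

section main

variable {K : Type u} [Group K] [Finite K] {V : Type u} [CommGroup V] [Finite V]

/-- the fixed points of `A` -/
def fixed {K V : Type*} [Group K] [CommGroup V] (φ : K →* MulAut V) (A : Subgroup K) : Subgroup V where
  carrier := {v | ∀ a ∈ A, φ a v = v}
  one_mem' := fun a _ => map_one _
  mul_mem' := by
    intro x y hx hy a ha
    rw [map_mul, hx a ha, hy a ha]
  inv_mem' := by
    intro x hx a ha
    rw [map_inv, hx a ha]

/-- **(i)** `|A| ≤ |V : C_V(A)|` -/
theorem card_le_index (h3083 : H775.PU.B3083.{u}) {p : ℕ} [Fact p.Prime] (he : ∀ x : V, x ^ p = 1)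
    (φ : K →* MulAut V) (hφ : Function.Injective φ) {M A : Subgroup K} (hM : SE p M) (hMt : M ≠ ⊤) (hA : A ≤ M)
    (hAp : IsPGroup p A) (C : Subgroup V) (hC : ∀ a ∈ A, ∀ c ∈ C, φ a c = c) : Nat.card A ≤ C.index := by
  by_cases hA1 : A = ⊥
  · rw [hA1, Subgroup.card_bot]
    exact Nat.one_le_iff_ne_zero.2 (FiniteIndex.index_ne_zero)
  obtain ⟨g, -, hg⟩ : ∃ g ∈ (⊤ : Subgroup K), g ∉ M := SetLike.exists_of_lt (lt_top_iff_ne_top.2 hMt)
  set B := A.map (MulAut.conj g).toMonoidHom with hB
  set Y := A ⊔ B with hY
  have hAY : A ≤ Y := le_sup_left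
  have hBY : B ≤ Y := le_sup_right
  have hSE : SE p (M.subgroupOf Y) := SE_pair hM Y
  have hYt : M.subgroupOf Y ≠ ⊤ := by
    intro h
    rw [subgroupOf_eq_top] at h
    obtain ⟨a, ha, ha1⟩ := (bot_or_exists_ne_one A).resolve_left hA1
    obtain ⟨k, hk⟩ := hAp ⟨a, ha⟩
    exact ha1 (hM g hg a (hA ha) (h (hBY ⟨a, ha, rfl⟩)) ⟨k, congrArg Subtype.val hk⟩)
  have hA' : A.subgroupOf Y ≤ M.subgroupOf Y := fun x hx => hA hx
  have hAp' : IsPGroup p (A.subgroupOf Y) := hAp.comap_subtype
  have hA1' : A.subgroupOf Y ≠ ⊥ := by
    intro h
    rw [subgroupOf_eq_bot] at h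
    apply hA1
    rw [← inf_eq_left.2 hAY]
    exact h.eq_bot
  obtain ⟨P, hAP, hPM, hemb⟩ := emb_of_SE hSE hYt hA' hAp' hA1'
  -- the fixed points of `Y`
  set C1 := fixed φ A with hC1
  set C2 := fixed φ B with hC2
  have hC12 : C2 = C1.map (φ g).toMonoidHom := by
    ext v
    constructor
    · intro hv
      refine ⟨φ g⁻¹ v, ?_, ?_⟩
      · intro a ha
        have h1 := hv (g * a * g⁻¹) ⟨a, ha, rfl⟩
        rw [map_mul, map_mul, MulAut.mul_apply, MulAut.mul_apply] at h1
        have h2 := congrArg (φ g⁻¹) h1
        rwa [← MulAut.mul_apply, ← map_mul, inv_mul_cancel, map_one, MulAut.one_apply] at h2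
      · show φ g (φ g⁻¹ v) = v
        rw [← MulAut.mul_apply, ← map_mul, mul_inv_cancel, map_one, MulAut.one_apply]
    · rintro ⟨w, hw, rfl⟩ _ ⟨a, ha, rfl⟩
      show φ (g * a * g⁻¹) (φ g w) = φ g w
      rw [← MulAut.mul_apply, ← map_mul]
      have e : g * a * g⁻¹ * g = g * a := by group
      rw [e, map_mul, MulAut.mul_apply, hw a ha]
  have hidx2 : C2.index = C1.index := by
    rw [hC12]
    exact index_map_equiv C1 (φ g)
  have hidx1 : C1.index ≤ C.index := by
    have h1 : C ≤ C1 := fun c hc a ha => hC a ha c hc
    exact Nat.le_of_dvd (Nat.pos_of_ne_zero FiniteIndex.index_ne_zero) (index_dvd_of_le h1)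
  set F := C1 ⊓ C2 with hF
  have hYF : Y ≤ fixer φ F := by
    rw [hY, sup_le_iff]
    exact ⟨fun a ha d hd => hd.1 a ha, fun b hb d hd => hd.2 b hb⟩
  have hidxF : F.index ≤ C.index ^ 2 := by
    calc F.index ≤ C1.index * C2.index := index_inf_le
      _ ≤ C.index * C.index := by
        rw [hidx2]
        exact Nat.mul_le_mul hidx1 hidx1
      _ = C.index ^ 2 := (sq _).symm
  -- the action of `Y` on `V / F`
  have hmapF : ∀ y : Y, F.map (φ y).toMonoidHom = F := by
    intro y
    ext v
    constructor
    · rintro ⟨w, hw, rfl⟩
      show φ y w ∈ F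
      rw [hYF y.2 w hw]
      exact hw
    · intro hv
      exact ⟨v, hv, hYF y.2 v hv⟩
  let ψ : Y →* MulAut (V ⧸ F) :=
    { toFun := fun y => QuotientGroup.congr F F (φ y) (hmapF y)
      map_one' := by
        ext x
        obtain ⟨x, rfl⟩ := QuotientGroup.mk_surjective x
        show (QuotientGroup.mk (φ ((1 : Y) : K) x) : V ⧸ F) = QuotientGroup.mk x
        rw [OneMemClass.coe_one, map_one]
        rfl
      map_mul' := by
        intro a b
        ext x
        obtain ⟨x, rfl⟩ := QuotientGroup.mk_surjective x
        show (QuotientGroup.mk (φ ((a * b : Y) : K) x) : V ⧸ F) = QuotientGroup.mk (φ a (φ b x))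
        rw [Subgroup.coe_mul, map_mul]
        rfl }
  have hψ : Function.Injective ψ := by
    rw [← MonoidHom.ker_eq_bot_iff]
    refine normal_eq_bot hSE hYt hA' hAp' hA1' ψ.ker ?_
    refine isPGroup_chain he (φ.comp Y.subtype) (hφ.comp Y.subtype_injective) F _ ?_ ?_
    · intro n _ d hd
      exact hYF n.2 d hd
    · intro n hn v
      have h1 : (QuotientGroup.mk (φ n v) : V ⧸ F) = QuotientGroup.mk v :=
        congrArg (fun t : MulAut (V ⧸ F) => t (QuotientGroup.mk v)) (MonoidHom.mem_ker.1 hn)
      show φ n v * v⁻¹ ∈ F
      rw [QuotientGroup.eq] at h1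
      have h2 := F.inv_mem h1
      rw [mul_inv_rev, inv_inv, mul_comm] at h2
      exact h2
  have hfin := H775.PU.sq_le_of_act h3083 (Q := V ⧸ F) (p := p) (by
    intro x
    obtain ⟨x, rfl⟩ := QuotientGroup.mk_surjective x
    rw [← QuotientGroup.mk_pow, he]
    rfl) ψ hψ _ hemb P
  have h1 : Nat.card A ≤ Nat.card P := by
    have h2 : Nat.card A = Nat.card (A.subgroupOf Y) :=
      (Nat.card_congr (subgroupOfEquivOfLe hAY).toEquiv).symm
    rw [h2]
    exact Nat.card_le_card_of_injective (inclusion hAP) (inclusion_injective hAP)
  have h3 : Nat.card A ^ 2 ≤ C.index ^ 2 := by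
    calc Nat.card A ^ 2 ≤ Nat.card P ^ 2 := Nat.pow_le_pow_left h1 2
      _ ≤ Nat.card (V ⧸ F) := hfin
      _ ≤ C.index ^ 2 := hidxF
  exact (Nat.pow_le_pow_iff_left (by norm_num)).1 h3

/-- **(ii)** `|A| ≤ |[V, A]|` -/
theorem card_le_card (h3083 : H775.PU.B3083.{u}) {p : ℕ} [Fact p.Prime] (he : ∀ x : V, x ^ p = 1)
    (φ : K →* MulAut V) (hφ : Function.Injective φ) {M A : Subgroup K} (hM : SE p M) (hMt : M ≠ ⊤) (hA : A ≤ M)
    (hAp : IsPGroup p A) (W : Subgroup V) (hW : ∀ a ∈ A, ∀ v, φ a v * v⁻¹ ∈ W) : Nat.card A ≤ Nat.card W := by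
  by_cases hA1 : A = ⊥
  · rw [hA1, Subgroup.card_bot]
    exact Nat.card_pos
  obtain ⟨g, -, hg⟩ : ∃ g ∈ (⊤ : Subgroup K), g ∉ M := SetLike.exists_of_lt (lt_top_iff_ne_top.2 hMt)
  set B := A.map (MulAut.conj g).toMonoidHom with hB
  set Y := A ⊔ B with hY
  have hAY : A ≤ Y := le_sup_left
  have hBY : B ≤ Y := le_sup_right
  have hSE : SE p (M.subgroupOf Y) := SE_pair hM Y
  have hYt : M.subgroupOf Y ≠ ⊤ := by
    intro h
    rw [subgroupOf_eq_top] at h
    obtain ⟨a, ha, ha1⟩ := (bot_or_exists_ne_one A).resolve_left hA1
    obtain ⟨k, hk⟩ := hAp ⟨a, ha⟩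
    exact ha1 (hM g hg a (hA ha) (h (hBY ⟨a, ha, rfl⟩)) ⟨k, congrArg Subtype.val hk⟩)
  have hA' : A.subgroupOf Y ≤ M.subgroupOf Y := fun x hx => hA hx
  have hAp' : IsPGroup p (A.subgroupOf Y) := hAp.comap_subtype
  have hA1' : A.subgroupOf Y ≠ ⊥ := by
    intro h
    rw [subgroupOf_eq_bot] at h
    apply hA1
    rw [← inf_eq_left.2 hAY]
    exact h.eq_bot
  obtain ⟨P, hAP, hPM, hemb⟩ := emb_of_SE hSE hYt hA' hAp' hA1'
  set W2 := W.map (φ g).toMonoidHom with hW2
  set D := W ⊔ W2 with hD
  have hYD : Y ≤ cofixer φ D := by
    rw [hY, sup_le_iff]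
    refine ⟨fun a ha v => (le_sup_left : W ≤ D) (hW a ha v), ?_⟩
    rintro _ ⟨a, ha, rfl⟩ v
    refine (le_sup_right : W2 ≤ D) ⟨φ a (φ g⁻¹ v) * (φ g⁻¹ v)⁻¹, hW a ha _, ?_⟩
    show φ g (φ a (φ g⁻¹ v) * (φ g⁻¹ v)⁻¹) = φ (g * a * g⁻¹) v * v⁻¹
    have e1 : φ g (φ g⁻¹ v) = v := by
      rw [← MulAut.mul_apply, ← map_mul, mul_inv_cancel, map_one, MulAut.one_apply]
    rw [map_mul (φ g), map_inv (φ g), e1, map_mul φ, map_mul φ, MulAut.mul_apply, MulAut.mul_apply]
  have hcard2 : Nat.card W2 = Nat.card W := card_map_of_injective (φ g).injective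
  have hcardD : Nat.card D ≤ Nat.card W ^ 2 := by
    let f : W × W2 →* V := (W.subtype.comp (MonoidHom.fst W W2)) * (W2.subtype.comp (MonoidHom.snd W W2))
    have hfD : D ≤ f.range := by
      rw [hD, sup_le_iff]
      constructor
      · intro w hw
        exact ⟨(⟨w, hw⟩, 1), by show w * 1 = w; rw [mul_one]⟩
      · intro w hw
        exact ⟨(1, ⟨w, hw⟩), by show 1 * w = w; rw [one_mul]⟩
    calc Nat.card D ≤ Nat.card f.range := Nat.card_le_card_of_injective (inclusion hfD) (inclusion_injective hfD)
      _ ≤ Nat.card (W × W2) := Nat.card_le_card_of_surjective f.rangeRestrict f.rangeRestrict_surjective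
      _ = Nat.card W ^ 2 := by rw [Nat.card_prod, hcard2, sq]
  have hinv : ∀ y : Y, ∀ d ∈ D, φ y d ∈ D := by
    intro y d hd
    have h1 := D.mul_mem (hYD y.2 d) hd
    rwa [inv_mul_cancel_right] at h1
  have hmapD : ∀ y : Y, ∀ d : D, ((φ y).toMonoidHom d : V) ∈ D := fun y d => hinv y d d.2
  let ψ : Y →* MulAut D :=
    { toFun := fun y =>
        { toFun := fun d => ⟨φ y d, hinv y d d.2⟩
          invFun := fun d => ⟨φ (y⁻¹ : Y) d, hinv y⁻¹ d d.2⟩
          left_inv := by
            intro d
            apply Subtype.ext
            show φ ((y⁻¹ : Y) : K) (φ y d) = d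
            rw [← MulAut.mul_apply, ← map_mul, Subgroup.coe_inv, inv_mul_cancel, map_one, MulAut.one_apply]
          right_inv := by
            intro d
            apply Subtype.ext
            show φ y (φ ((y⁻¹ : Y) : K) d) = d
            rw [← MulAut.mul_apply, ← map_mul, Subgroup.coe_inv, mul_inv_cancel, map_one, MulAut.one_apply]
          map_mul' := by
            intro a b
            apply Subtype.ext
            exact map_mul (φ y) (a : V) (b : V) }
      map_one' := by
        ext d
        show φ ((1 : Y) : K) d = d
        rw [OneMemClass.coe_one, map_one, MulAut.one_apply]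
      map_mul' := by
        intro a b
        ext d
        show φ ((a * b : Y) : K) d = φ a (φ b d)
        rw [Subgroup.coe_mul, map_mul, MulAut.mul_apply] }
  have hψ : Function.Injective ψ := by
    rw [← MonoidHom.ker_eq_bot_iff]
    refine normal_eq_bot hSE hYt hA' hAp' hA1' ψ.ker ?_
    refine isPGroup_chain he (φ.comp Y.subtype) (hφ.comp Y.subtype_injective) D _ ?_ ?_
    · intro n hn d hd
      exact congrArg (fun t : MulAut D => ((t ⟨d, hd⟩ : D) : V)) (MonoidHom.mem_ker.1 hn)
    · intro n _ v
      exact hYD n.2 v
  have hfin := H775.PU.sq_le_of_act h3083 (Q := D) (p := p) (by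
    intro x
    apply Subtype.ext
    exact he x) ψ hψ _ hemb P
  have h1 : Nat.card A ≤ Nat.card P := by
    have h2 : Nat.card A = Nat.card (A.subgroupOf Y) :=
      (Nat.card_congr (subgroupOfEquivOfLe hAY).toEquiv).symm
    rw [h2]
    exact Nat.card_le_card_of_injective (inclusion hAP) (inclusion_injective hAP)
  have h3 : Nat.card A ^ 2 ≤ Nat.card W ^ 2 := by
    calc Nat.card A ^ 2 ≤ Nat.card P ^ 2 := Nat.pow_le_pow_left h1 2
      _ ≤ Nat.card D := hfin
      _ ≤ Nat.card W ^ 2 := hcardD
  exact (Nat.pow_le_pow_iff_left (by norm_num)).1 h3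

end main

end Cfsg.Agent.H302.GT
end

-- part: H302/GT/Kb
section
set_option linter.all false
open scoped Cfsg.Agent.FastGrp

/-!
# S5211 (hub helper779), task 5442 (helper302): `StKB` and `StDual` from S3083
-/

set_option autoImplicit false

namespace Cfsg.Agent.H302.GT

open Cfsg Cfsg.FusionSystem Cfsg.Agent.H756.PU Subgroup Cfsg.Agent.H775.PU

universe u

variable {Ω : Type u} [Group Ω] {S E : Subgroup Ω} {p : ℕ} {Γ : Subgroup (MulAut E)}

theorem frat_comm (h : Ess S E p Γ) (a b : E ⧸ frattini E) : a * b = b * a := by
  have hfE := finE h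
  have := Fact.mk h.pp
  have hpE := pE h
  obtain ⟨a, rfl⟩ := QuotientGroup.mk_surjective a
  obtain ⟨b, rfl⟩ := QuotientGroup.mk_surjective b
  rw [← QuotientGroup.mk_mul, ← QuotientGroup.mk_mul, QuotientGroup.eq]
  have h1 := Cfsg.Agent.Lib.FrattiniPGroup.commutator_le_frattini hpE
    (Subgroup.commutator_mem_commutator (mem_top b⁻¹) (mem_top a⁻¹))
  rw [commutatorElement_def] at h1
  convert h1 using 1
  group

theorem frat_pow (h : Ess S E p Γ) (x : E ⧸ frattini E) : x ^ p = 1 := by
  have hfE := finE h
  have := Fact.mk h.pp
  have hpE := pE h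
  obtain ⟨x, rfl⟩ := QuotientGroup.mk_surjective x
  rw [← QuotientGroup.mk_pow, QuotientGroup.eq_one_iff]
  exact Cfsg.Agent.Lib.FrattiniPGroup.pow_mem_frattini hpE x

/-- the image of `H` and of `A` in `Γ / Inn(E) ≤ Aut(E / Φ(E))` -/
theorem setup (h : Ess S E p Γ) (A : Subgroup Ω) (hA : A ≤ normalizerIn S E) :
    ∃ M B : Subgroup (act Γ).range, SE p M ∧ M ≠ ⊤ ∧ B ≤ M ∧ IsPGroup p B ∧ Nat.card B = E.relIndex A ∧
      ∀ b ∈ B, ∃ a ∈ A, ∀ e e' : E, (e' : Ω) = a * e * a⁻¹ →
        (b : MulAut (E ⧸ frattini E)) (e : E ⧸ frattini E) = (e' : E ⧸ frattini E) := by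
  have hfE := finE h
  have := Fact.mk h.pp
  have := h.fin
  have hpE := pE h
  obtain ⟨H, hHΓ, hHne, hAH, hAI, hspe⟩ := h.spe
  have hR : normalizerIn S E ≤ normalizer (E : Set Ω) := inf_le_right
  let c0 : A →* MulAut E := (normalizerMonoidHom E).comp (inclusion (hA.trans hR))
  have hc0 : ∀ (r : A) (x : E), ((c0 r x : E) : Ω) = r * x * (r : Ω)⁻¹ := fun r x => rfl
  have hcI : ∀ r : A, c0 r ∈ autInducedBy S E := fun r =>
    (H802.mem_autInducedBy_iff _ _ _).2 ⟨r, (hA r.2).1, fun x => hc0 r x⟩
  let c : A →* Γ := c0.codRestrict Γ (fun r => h.indu (hcI r))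
  let π : Γ →* (act Γ).range := (act Γ).rangeRestrict
  have hπk : ∀ g : Γ, π g = 1 ↔ (g : MulAut E) ∈ Inn E := by
    intro g
    have h1 : π g = 1 ↔ g ∈ (act Γ).ker := by
      rw [MonoidHom.mem_ker]
      exact ⟨fun h => congrArg Subtype.val h, fun h => Subtype.ext h⟩
    rw [h1]
    exact ⟨ker_act_le h g, inn_le_ker h g⟩
  have hπ : Function.Surjective π := (act Γ).rangeRestrict_surjective
  let M : Subgroup (act Γ).range := (H.subgroupOf Γ).map π
  have hmem : ∀ g : Γ, π g ∈ M → (g : MulAut E) ∈ H := by
    rintro g ⟨y, hy, hyg⟩
    have h1 : π (y⁻¹ * g) = 1 := by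
      rw [map_mul, map_inv, hyg, inv_mul_cancel]
    have h2 := hAH (inn_le h ((hπk _).1 h1))
    have h3 := H.mul_mem (mem_subgroupOf.1 hy) h2
    have e : (y : MulAut E) * ((y⁻¹ * g : Γ) : MulAut E) = g := by
      push_cast
      group
    rwa [e] at h3
  have hInnp : ∀ x ∈ Inn E, ∃ k : ℕ, x ^ p ^ k = 1 := by
    rintro _ ⟨e, rfl⟩
    obtain ⟨k, hk⟩ := hpE e
    refine ⟨k, ?_⟩
    rw [← map_pow, hk, map_one]
  have hSE : SE p M := by
    intro g hg x hx hgx hk
    obtain ⟨g, rfl⟩ := hπ g
    obtain ⟨x, rfl⟩ := hπ x
    obtain ⟨k, hk⟩ := hk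
    rw [hπk]
    refine hspe g g.2 (fun h' => hg ⟨g, h', rfl⟩) x (hmem x hx) ?_ ?_
    · exact hmem (g * x * g⁻¹) (by rw [map_mul, map_mul, map_inv]; exact hgx)
    · rw [← map_pow, hπk] at hk
      obtain ⟨l, hl⟩ := hInnp _ hk
      refine ⟨k + l, ?_⟩
      rw [pow_add, pow_mul]
      exact hl
  refine ⟨M, (π.comp c).range, hSE, ?_, ?_, ?_, ?_, ?_⟩
  · intro htop
    apply hHne
    refine le_antisymm hHΓ fun g hg => ?_
    exact hmem ⟨g, hg⟩ (by rw [htop]; exact mem_top _)
  · rintro _ ⟨a, rfl⟩
    exact ⟨c a, hAH (hcI a), rfl⟩
  · have hpA : IsPGroup p A :=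
      h.pgr.of_injective (inclusion (hA.trans inf_le_left)) (inclusion_injective _)
    exact hpA.of_surjective (π.comp c).rangeRestrict (π.comp c).rangeRestrict_surjective
  · rw [← index_ker]
    have hker : (π.comp c).ker = E.subgroupOf A := by
      ext a
      rw [MonoidHom.mem_ker, mem_subgroupOf]
      show π (c a) = 1 ↔ _
      rw [hπk]
      constructor
      · rintro ⟨e, he⟩
        have h1 : (e : Ω)⁻¹ * a ∈ E := by
          refine h.cent _ (S.mul_mem (S.inv_mem (h.E_le e.2)) (hA a.2).1) fun x hx => ?_
          have h2 := congrArg (fun t : MulAut E => ((t ⟨x, hx⟩ : E) : Ω)) he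
          have h3 : (e : Ω) * x * (e : Ω)⁻¹ = a * x * (a : Ω)⁻¹ := h2
          rw [mul_assoc, inv_mul_eq_iff_eq_mul]
          have h4 : (a : Ω) * x = (e : Ω) * x * (e : Ω)⁻¹ * a := by rw [h3]; group
          rw [h4]
          group
        have h5 := E.mul_mem e.2 h1
        rwa [mul_inv_cancel_left] at h5
      · intro ha
        refine ⟨⟨a, ha⟩, ?_⟩
        ext x
        rfl
    rw [hker]
    rfl
  · rintro _ ⟨a, rfl⟩
    refine ⟨a, a.2, fun e e' he => ?_⟩
    show act Γ (c a) (e : E ⧸ frattini E) = _
    rw [act_mk]
    congr 1
    apply Subtype.ext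
    rw [he]
    exact hc0 a e

theorem kb_of (h3083 : B3083.{u}) : Cfsg.Agent.H779.G2.StKB.{u} := by
  intro Ω _ S E p Γ h C A hA _ hCE hcom
  have hfE := finE h
  have := Fact.mk h.pp
  have := h.fin
  have hpE := pE h
  obtain ⟨M, B, hSE, hMt, hBM, hBp, hcard, hB⟩ := setup h A hA
  let cg : CommGroup (E ⧸ frattini E) :=
    { (inferInstance : Group (E ⧸ frattini E)) with mul_comm := frat_comm h }
  have key := card_le_index h3083 (frat_pow h) ((act Γ).range.subtype) (act Γ).range.subtype_injective hSE hMt hBM hBp
    ((C.subgroupOf E).map (QuotientGroup.mk' (frattini E))) (by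
      intro b hb v hv
      obtain ⟨a, ha, hab⟩ := hB b hb
      obtain ⟨c, hc, rfl⟩ := hv
      have haN : (a : Ω) ∈ normalizer (E : Set Ω) := (hA ha).2
      have h1 := hab c ⟨a * c * a⁻¹, (mem_normalizer_iff.1 haN _).1 c.2⟩ rfl
      refine h1.trans ?_
      rw [QuotientGroup.mk'_apply, QuotientGroup.eq]
      obtain ⟨f, hf, hf'⟩ := hcom a ha c hc
      have h2 : (⟨a * c * a⁻¹, (mem_normalizer_iff.1 haN _).1 c.2⟩ : E)⁻¹ * c = c⁻¹ * f⁻¹ * c := by
        apply Subtype.ext
        have hf'' : (f : Ω) = a * c * a⁻¹ * (c : Ω)⁻¹ := hf'
        push_cast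
        rw [hf'']
        group
      rw [h2]
      have hn : (frattini E).Normal := inferInstance
      have h3 := hn.conj_mem _ ((frattini E).inv_mem hf) c⁻¹
      rwa [inv_inv] at h3)
  rw [hcard] at key
  refine key.trans (le_of_eq ?_)
  rw [index_map, QuotientGroup.ker_mk', MonoidHom.range_eq_top.2 (QuotientGroup.mk'_surjective _), index_top, mul_one,
    relIndex]
  congr 1
  ext x
  constructor
  · intro hx
    have h1 : (C.subgroupOf E ⊔ frattini E) ≤ (C ⊔ (frattini E).map E.subtype).subgroupOf E := by
      rw [sup_le_iff]
      exact ⟨fun y hy => (le_sup_left : C ≤ C ⊔ (frattini E).map E.subtype) hy,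
        fun z hz => (le_sup_right : (frattini E).map E.subtype ≤ C ⊔ (frattini E).map E.subtype) ⟨z, hz, rfl⟩⟩
    exact h1 hx
  · intro hx
    have h1 : (C ⊔ (frattini E).map E.subtype) ≤ (C.subgroupOf E ⊔ frattini E).map E.subtype := by
      rw [Subgroup.map_sup, sup_le_iff]
      refine ⟨le_trans ?_ le_sup_left, le_sup_right⟩
      rw [subgroupOf_map_subtype, inf_eq_left.2 hCE]
    obtain ⟨y, hy, hyx⟩ := h1 hx
    rwa [← Subtype.ext (show ((y : E) : Ω) = x from hyx)]

theorem dual_of (h3083 : B3083.{u}) : Cfsg.Agent.H779.G2.StDual.{u} := by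
  intro Ω _ S E p Γ h W A hA hWE hcom
  have hfE := finE h
  have := Fact.mk h.pp
  have := h.fin
  have hpE := pE h
  obtain ⟨M, B, hSE, hMt, hBM, hBp, hcard, hB⟩ := setup h A hA
  let cg : CommGroup (E ⧸ frattini E) :=
    { (inferInstance : Group (E ⧸ frattini E)) with mul_comm := frat_comm h }
  set Φ := (frattini E).map E.subtype with hΦ
  have hsup : W ⊔ Φ = (W.subgroupOf E ⊔ frattini E).map E.subtype := by
    rw [Subgroup.map_sup, subgroupOf_map_subtype, inf_eq_left.2 hWE]
  have key := card_le_card h3083 (frat_pow h) ((act Γ).range.subtype) (act Γ).range.subtype_injective hSE hMt hBM hBp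
    ((W.subgroupOf E).map (QuotientGroup.mk' (frattini E))) (by
      intro b hb v
      obtain ⟨a, ha, hab⟩ := hB b hb
      obtain ⟨c, rfl⟩ := QuotientGroup.mk_surjective v
      have haN : (a : Ω) ∈ normalizer (E : Set Ω) := (hA ha).2
      have h1 := hab c ⟨a * c * a⁻¹, (mem_normalizer_iff.1 haN _).1 c.2⟩ rfl
      have h2 := hcom a ha c c.2
      rw [hsup] at h2
      obtain ⟨y, hy, hyx⟩ := h2
      have h3 : (((act Γ).range.subtype b : MulAut (E ⧸ frattini E)) (QuotientGroup.mk c)) * (QuotientGroup.mk c)⁻¹ =
          (QuotientGroup.mk y : E ⧸ frattini E) := by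
        refine (congrArg (· * (QuotientGroup.mk c : E ⧸ frattini E)⁻¹) h1).trans ?_
        show (QuotientGroup.mk (_ * c⁻¹) : E ⧸ frattini E) = _
        congr 1
        apply Subtype.ext
        exact hyx.symm
      refine h3 ▸ ?_
      have h4 : (QuotientGroup.mk' (frattini E)) y ∈ (W.subgroupOf E ⊔ frattini E).map (QuotientGroup.mk' (frattini E)) :=
        ⟨y, hy, rfl⟩
      rwa [Subgroup.map_sup, QuotientGroup.map_mk'_self, sup_bot_eq] at h4)
  rw [hcard] at key
  refine key.trans (le_of_eq ?_)
  have e1 : (W.subgroupOf E).map (QuotientGroup.mk' (frattini E)) =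
      (W.subgroupOf E ⊔ frattini E).map (QuotientGroup.mk' (frattini E)) := by
    rw [Subgroup.map_sup, QuotientGroup.map_mk'_self, sup_bot_eq]
  rw [hsup, hΦ, relIndex_map_map_of_injective _ _ E.subtype_injective, e1, ← relIndex_bot_left,
    ← QuotientGroup.map_mk'_self (frattini E), relIndex_map_map, sup_eq_left.2 (by rw [QuotientGroup.ker_mk']),
    QuotientGroup.ker_mk', sup_assoc, sup_idem]

end Cfsg.Agent.H302.GT
end

-- part: H446/GT/E5
section
set_option linter.all false
open scoped Cfsg.Agent.FastGrp

/-!
# S5211: (E5), the essential subgroups for `p ≥ 5` (helper446)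
-/

set_option autoImplicit false

namespace Cfsg.Agent.H446.GT

open Cfsg Cfsg.FusionSystem Cfsg.Agent.H802 Cfsg.Agent.H756.PU Cfsg.Agent.H779.G2

universe u

/-- **(E5)** -/
theorem stE5 (hGrp : StGrp.{u}) (hEss : StEss.{u}) (hOver : StOver.{u}) (hTI : StTI.{u}) (hEa : StEa.{u})
    (h5b : StE5b.{u}) (h5c : StE5c.{u}) (h5d : StE5d.{u}) (h5e : StE5e.{u}) (h5f : StE5f.{u}) : StE5.{u} := by
  intro K _ p n _ hK hp h7 F hF E hE
  have hfin : Finite (GU K) := by
    apply Nat.finite_of_card_ne_zero
    rw [(hGrp hK).1]
    exact pow_ne_zero _ (pow_ne_zero _ (Nat.Prime.ne_zero Fact.out))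
  have hS : IsPGroup p (⊤ : Subgroup (GU K)) := (hGrp hK).2.1
  have he : Ess (⊤ : Subgroup (GU K)) E p (F.autGroup E) := hEss F E hS hF hE
  have hpn : p ≤ p ^ n := Nat.le_self_pow (Nat.one_le_iff_ne_zero.1 hK.hn) p
  have h2n : 2 < p ^ n := by omega
  by_cases ha : E ≤ Qa K
  · exact Or.inl (hEa hK (by omega) h2n he ha)
  right
  have hZ2 : Z2 K ≤ E := by
    by_contra hcon
    exact ha (h5f hK hp h7 F hF E hE hcon)
  have hZ3 : Z3 K ≤ E := by
    by_contra hcon
    by_cases hb : E ≤ Qb K
    · exact h5d hK hp F hF E hE hcon hb ha
    · exact h5e hK hp F hF E hE hZ2 hcon hb ha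
  by_cases hb : E ≤ Qb K
  · exact h5b hK hp he hZ3 hb ha
  · obtain ⟨h1, h2⟩ := h5c hK hp he hZ3 hb ha
    obtain ⟨hT, hC, -, hchar, -⟩ := hTI hK h2n (Qb K) (Or.inr rfl)
    have hn := top_le_normalizer_of_char (hchar (by omega))
    exact hOver F (Qb K) E hS hF hE h1 hn hC (hT _ (autInducedBy_le_autGroup F le_top) (syl_of_normal hS hF hn)) h2

end Cfsg.Agent.H446.GT
end
end
end
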